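/-!
Witnesses for the local facts: two maps centralising the product of two orthogonal transvections, and words
for the elements of the Sylow 2-subgroup in three of them.
-/

set_option autoImplicit false

namespace Cfsg.Agent.U62Rec.Model

/-- Two maps centralising the product, with their inverses. -/
def centCols : List (List Nat × List Nat) :=
  [([16, 32, 64, 128, 1, 2, 4, 8], [16, 32, 64, 128, 1, 2, 4, 8]),
   ([2, 3, 8, 12, 48, 16, 192, 64], [3, 1, 12, 4, 32, 48, 128, 192])]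

/-- For every fixed vector, two of the maps and two vectors. -/
def otherWit : List (Nat × Nat × Nat × Nat × Nat) :=
  [(5, 0, 1, 1, 16),
   (10, 0, 1, 2, 32),
   (15, 0, 1, 3, 48),
   (80, 0, 1, 1, 16),
   (85, 0, 2, 17, 35),
   (90, 0, 1, 18, 33),
   (95, 0, 1, 19, 34),
   (160, 0, 1, 2, 32),
   (165, 0, 1, 18, 33),
   (170, 0, 2, 19, 34),
   (175, 0, 1, 17, 35),
   (240, 0, 1, 3, 48),
   (245, 0, 1, 19, 34),
   (250, 0, 1, 17, 35),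
   (255, 0, 2, 18, 33)]

/-- Three elements generating the Sylow 2-subgroup. -/
def sylGenIdx : List Nat := [1, 29, 21]

/-- Words in the three elements. -/
def sylWords : List (List Nat) :=
  [[], [0], [2, 1, 2, 0, 1], [0, 2, 0], [1, 2, 1, 2, 0], [0, 1, 0], [2, 1, 2, 0, 1, 0], [0, 2],
   [1, 2, 1, 2], [0, 1], [2, 0], [2, 2, 1, 1], [2, 0, 2, 1], [2, 2], [0, 2, 1, 1], [0, 1, 2, 0],
   [1, 1, 2, 0], [2, 1, 2, 0], [1, 0], [0, 2, 1, 0], [1, 1], [2], [2, 2, 1, 1, 0], [2, 0, 2, 1, 0],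
   [2, 2, 0], [0, 2, 1, 1, 0], [0, 1, 2], [1, 1, 2], [2, 1, 2], [1], [0, 2, 1], [1, 1, 0],
   [2, 0, 2], [2, 1, 1], [1, 2, 1], [2, 2, 1], [2, 0, 2, 0, 1], [2, 1, 2, 1, 0], [1, 2, 0, 1, 0], [2, 2, 0, 1, 0],
   [2, 2, 2, 1, 0], [1, 2, 0], [0, 2, 1, 2, 0], [2, 2, 2], [2, 1, 0], [0, 2, 0, 1, 0], [2, 0, 2, 0], [2, 1, 1, 0],
   [1, 2, 1, 0], [2, 2, 1, 0], [2, 0, 2, 0, 1, 0], [2, 1, 2, 1], [1, 2, 0, 1], [2, 2, 0, 1], [2, 2, 2, 1], [1, 2],
   [0, 2, 1, 2], [2, 2, 2, 0], [2, 1], [0, 2, 0, 1], [2, 0, 1, 0], [1, 2, 1, 1], [2, 0, 1], [1, 2, 1, 1, 0]]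

end Cfsg.Agent.U62Rec.Model
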