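import Cfsg.Agent.Lib.U62Rec.Model.Checks
import Cfsg.Agent.Lib.U62Rec.Model.LinData

/-! Kernel checks for the local facts about the group on the vectors. -/

set_option autoImplicit false
set_option maxRecDepth 100000

namespace Cfsg.Agent.U62Rec.Model

open Cfsg.Agent.PermCert

/-- The polar form. -/
def polC (a b : ℕ) : ℕ := Nat.xor (q0 (Nat.xor a b)) (Nat.xor (q0 a) (q0 b))

/-- Centralising a line. -/
def perpOK : Bool :=
  allBelow (fun v => Nat.blt (q0 v) 2) 256 &&
  allBelow (fun p =>
    allBelow (fun x => Nat.beq (herm x (repC p)) 0 ==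
      (Nat.beq (polC x (repC p)) 0 && Nat.beq (polC x (omC (repC p))) 0)) 256 &&
    Nat.beq ((List.range 256).countP fun x => Nat.beq (herm x (repC p)) 0) 64) 45

theorem perp_ok : perpOK = true := by decide +kernel

/-- The combinations of four vectors. -/
def spanFour (n x y z : ℕ) : List ℕ :=
  [0, n, x, Nat.xor n x, y, Nat.xor n y, Nat.xor x y, Nat.xor (Nat.xor n x) y, z, Nat.xor n z, Nat.xor x z,
    Nat.xor (Nat.xor n x) z, Nat.xor y z, Nat.xor (Nat.xor n y) z, Nat.xor (Nat.xor x y) z,
    Nat.xor (Nat.xor (Nat.xor n x) y) z]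

/-- Closures of vectors orthogonal to the fixed one. -/
def closeOK : Bool :=
  allBelow (fun x => Nat.beq x 0 || Nat.beq x 5 || !(Nat.beq (q0 x) 0 && Nat.beq (polC x 5) 0) ||
    coreLin.any fun g => Nat.beq (polC x (get 8 g.1 x)) 1 || coreLin.any fun h =>
      (spanFour 5 x (get 8 g.1 x) (get 8 h.1 x)).any fun u => Nat.beq u (omC 5)) 256 &&
  coreLin.all fun g => Nat.beq (get 8 g.1 5) 5

theorem close_ok : closeOK = true := by decide +kernel

/-- An involution of the core. -/
def isInvL (a : Elt) : Bool :=
  Nat.beq (comp 8 256 a.1 a.1) (idCode 8 256) && !Nat.beq (comp 8 256 a.1 (idCode 8 256)) (idCode 8 256)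

/-- The involutions of the core commuting with at least fifteen of them. -/
def coreBig : List Elt :=
  (coreLin.filter isInvL).filter fun a =>
    Nat.ble 15 ((coreLin.filter isInvL).countP fun b => Nat.beq (comp 8 256 a.1 b.1) (comp 8 256 b.1 a.1))

theorem coreBig_ok : Nat.ble coreBig.length 1 = true := by decide +kernel

/-- An element of the Sylow 2-subgroup. -/
def sylE (i : ℕ) : Elt := sylPts.getD i (0, 0)

/-- The parity of a mask along a word. -/
def par (m : ℕ) (w : List ℕ) : Bool := w.foldr (fun g b => xor (m.testBit g) b) false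

/-- The element of a word. -/
def wordE (w : List ℕ) : Elt := w.foldr (fun g e => mul 6 45 (sylE (sylGenIdx.getD g 0)) e) (one 6 45)

/-- The members of a subgroup of index two. -/
def maskMem (m : ℕ) : List ℕ := (List.range 64).filter fun i => !par m (sylWords.getD i [])

/-- Square outside the group of the transvection. -/
def badSq (i : ℕ) : Bool :=
  !Nat.beq (canon (comp 6 45 (sylE i).1 (sylE i).1)) (canon (idCode 6 45)) &&
    !Nat.beq (canon (comp 6 45 (sylE i).1 (sylE i).1)) (canon (tvElt 15).1)

/-- The Sylow 2-subgroup of the centraliser of a transvection. -/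
def sylTrOK : Bool :=
  Nat.ble (sylPts.countP fun a => Nat.beq (canon (comp 6 45 a.1 a.1)) (canon (idCode 6 45)) &&
    !Nat.beq (canon a.1) (canon (idCode 6 45))) 30 &&
  Nat.beq sylGenIdx.length 3 && Nat.beq sylWords.length 64 &&
  allBelow (fun i =>
    Nat.beq (canon (sylE i).1) (canon (wordE (sylWords.getD i [])).1) &&
    (sylWords.getD i []).all (fun g => Nat.blt g 3) &&
    Nat.beq (canon (comp 6 45 (sylE i).1 (tvElt 15).1)) (canon (comp 6 45 (tvElt 15).1 (sylE i).1))) 64 &&
  allBelow (fun g => Nat.blt (sylGenIdx.getD g 0) 64) 3 &&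
  (sylPts.any fun a => Nat.beq (canon a.1) (canon (tvElt 15).1)) &&
  (List.range 64).any badSq &&
  allBelow (fun m => Nat.beq m 0 || (maskMem m).any badSq ||
    (maskMem m).all fun i => Nat.beq (canon (sylE i).1) (canon (idCode 6 45)) ||
      Nat.beq (canon (sylE i).1) (canon (tvElt 15).1) || (maskMem m).any fun j =>
        !Nat.beq (canon (comp 6 45 (sylE i).1 (sylE j).1)) (canon (comp 6 45 (sylE j).1 (sylE i).1))) 8

theorem sylTr_ok : sylTrOK = true := by decide +kernel

/-- The product of the first two orthogonal transvections, on the vectors. -/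
def s0C (x : ℕ) : ℕ := tvC (pairOf 0).1 (tvC (pairOf 0).2 x)

/-- A centralising map, zero standing for the identity. -/
def centC (k x : ℕ) : ℕ :=
  bif Nat.beq k 0 then x else linC (centCols.getD (k - 1) ([], [])).1 x

/-- Its code. -/
def centElt (k : ℕ) : Elt :=
  (pack 8 (centC k) 256,
    pack 8 (fun x => bif Nat.beq k 0 then x else linC (centCols.getD (k - 1) ([], [])).2 x) 256)

/-- The facts about the product. -/
def otherOK : Bool :=
  allBelow (fun k => validElt 8 256 (centElt k) && sift 8 256 linLevels (centElt k).1 &&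
    allBelow (fun v => Nat.blt (centC k v) 256 && Nat.beq (centC k (s0C v)) (s0C (centC k v))) 256) 3 &&
  Nat.ble 16 ((List.range 256).countP fun x => Nat.beq (s0C x) x) &&
  allBelow (fun x => !Nat.beq (s0C x) x || (Nat.beq (q0 x) 0 &&
    ((List.range 256).any fun y => Nat.beq (Nat.xor y (s0C y)) x) &&
    (Nat.beq x 0 || otherWit.any fun (w, g, h, a, b) =>
      let sp := spanFour 0 x (centC g x) (centC h x)
      let u := Nat.xor a (s0C a)
      let v := Nat.xor b (s0C b)
      Nat.beq w x && Nat.blt g 3 && Nat.blt h 3 && Nat.blt a 256 && Nat.blt b 256 && !Nat.beq u 0 && !Nat.beq v 0 &&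
        !Nat.beq u v && Nat.beq (polC a v) 0 && (sp.any fun s => Nat.beq s u) && sp.any fun s => Nat.beq s v))) 256

theorem other_ok : otherOK = true := by decide +kernel

end Cfsg.Agent.U62Rec.Model
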