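import Cfsg.Agent.Lib.U62Rec.Model.Points
import Cfsg.Agent.Lib.U62Rec.Model.LinChecks

/-!
The group on the 256 vectors and its faithful action on the 45 points.
-/

set_option autoImplicit false
set_option maxRecDepth 20000

namespace Cfsg.Agent.U62Rec.Model

open Cfsg.Agent.PermCert

/-- The vectors. -/
abbrev Vec : Type := Fin 256

/-- The sum of two vectors. -/
def xorV (a b : Vec) : Vec := ⟨Nat.xor a b, Nat.xor_lt_two_pow (n := 8) a.2 b.2⟩

/-- The group on the vectors. -/
abbrev Lgrp : Subgroup (Equiv.Perm Vec) := genGroup 8 256 linGens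

theorem card_Lgrp : Nat.card Lgrp = 25920 := (cert_card lin_cert).trans lin_order

/-- A generator on the vectors. -/
def linP (j : ℕ) : Equiv.Perm Vec := toPerm 8 256 (linElt j)

theorem gen_check (j : ℕ) (hj : j < 6) : validElt 8 256 (linElt j) = true ∧ ∀ v < 256,
    get 8 (linElt j).1 v = linC (colsOf j) v ∧ linC (colsOf j) (omC v) = omC (linC (colsOf j) v) ∧
      q0 (linC (colsOf j) v) = q0 v := by
  have h := allBelow_spec _ _ genLin_ok j hj
  simp only [Bool.and_eq_true] at h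
  refine ⟨h.1.1.1, fun v hv => ?_⟩
  have h' := allBelow_spec _ _ h.1.2 v hv
  simp only [Bool.and_eq_true, Nat.beq_eq] at h'
  exact ⟨h'.1.1, h'.1.2, h'.2⟩

theorem linP_val {j : ℕ} (hj : j < 6) (v : Vec) : (linP j v : ℕ) = linC (colsOf j) v := by
  rw [linP, ← (rep_toPerm (gen_check j hj).1 v).1]
  exact ((gen_check j hj).2 v v.2).1

theorem linP_mem {j : ℕ} (hj : j < 6) : linP j ∈ Lgrp :=
  Subgroup.subset_closure (List.mem_map.2 ⟨_, by
    rw [linElt, List.getD_eq_getElem _ _ (by rw [lengths.1]; exact hj)]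
    exact List.getElem_mem _, rfl⟩)

/-- A property of the generators closed under products holds in the group. -/
theorem lin_induction {P : Equiv.Perm Vec → Prop} (hg : ∀ j < 6, P (linP j)) (h1 : P 1)
    (hm : ∀ a b, P a → P b → P (a * b)) {g : Equiv.Perm Vec} (h : g ∈ Lgrp) : P g := by
  have h' : g ∈ Submonoid.closure {σ | σ ∈ linGens.map (toPerm 8 256)} := by
    rw [← Subgroup.closure_toSubmonoid_of_finite]; exact h
  induction h' using Submonoid.closure_induction with
  | mem x hx =>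
    obtain ⟨e, he, rfl⟩ := List.mem_map.1 hx
    obtain ⟨j, hj, rfl⟩ := List.getElem_of_mem he
    have := hg j (by rw [← lengths.1]; exact hj)
    rwa [linP, linElt, List.getD_eq_getElem _ _ hj] at this
  | one => exact h1
  | mul a b ha hb iha ihb =>
    have mg : ∀ {x}, x ∈ Submonoid.closure {σ | σ ∈ linGens.map (toPerm 8 256)} → x ∈ Lgrp := fun hx => by
      rw [← Subgroup.closure_toSubmonoid_of_finite] at hx; exact hx
    exact hm a b (iha (mg ha)) (ihb (mg hb))

theorem omC_lt : ∀ v < 256, omC v < 256 := by decide +kernel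

/-- Multiplication by `ω` on vectors. -/
def omV (v : Vec) : Vec := ⟨omC v, omC_lt v v.2⟩

/-- Linear and preserving the form. -/
def LinLike (σ : Equiv.Perm Vec) : Prop :=
  (∀ a b, σ (xorV a b) = xorV (σ a) (σ b)) ∧ (∀ a, σ (omV a) = omV (σ a)) ∧ ∀ a, q0 (σ a) = q0 a

theorem linLike {g : Equiv.Perm Vec} (h : g ∈ Lgrp) : LinLike g := by
  refine lin_induction (P := LinLike) (fun j hj => ?_) ⟨fun _ _ => rfl, fun _ => rfl, fun _ => rfl⟩
    (fun a b ha hb => ?_) h
  · refine ⟨fun a b => Fin.ext ?_, fun a => Fin.ext ?_, fun a => ?_⟩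
    · show (linP j _ : ℕ) = Nat.xor (linP j a) (linP j b)
      rw [linP_val hj, linP_val hj, linP_val hj]
      exact linC_xor _ _ _
    · show (linP j _ : ℕ) = omC (linP j a)
      rw [linP_val hj, linP_val hj]
      exact ((gen_check j hj).2 a a.2).2.1
    · rw [linP_val hj]
      exact ((gen_check j hj).2 a a.2).2.2
  · exact ⟨fun x y => by simp only [Equiv.Perm.mul_apply, hb.1, ha.1],
      fun x => by simp only [Equiv.Perm.mul_apply, hb.2.1, ha.2.1],
      fun x => by rw [Equiv.Perm.mul_apply, ha.2.2, hb.2.2]⟩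

theorem lin_zero {g : Equiv.Perm Vec} (h : g ∈ Lgrp) : g ⟨0, by norm_num⟩ = ⟨0, by norm_num⟩ := by
  have h0 := (linLike h).1 ⟨0, by norm_num⟩ ⟨0, by norm_num⟩
  rw [show xorV ⟨0, by norm_num⟩ ⟨0, by norm_num⟩ = (⟨0, by norm_num⟩ : Vec) from rfl] at h0
  rw [h0]
  exact Fin.ext (Nat.xor_self _)

/-! ### Singular vectors and points -/

/-- A non-zero singular vector. -/
def Sing (v : Vec) : Prop := (v : ℕ) ≠ 0 ∧ q0 v = 0

theorem sing_iff (v : Vec) : Sing v ↔ singB v = true := by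
  rw [singB, Bool.and_eq_true, Bool.not_eq_true', Nat.beq_eq, ← Bool.not_eq_true, Nat.beq_eq, Sing]

theorem sing_map {g : Equiv.Perm Vec} (h : g ∈ Lgrp) {v : Vec} (hv : Sing v) : Sing (g v) := by
  refine ⟨fun e => hv.1 ?_, (linLike h).2.2 v ▸ hv.2⟩
  have : g v = g ⟨0, by norm_num⟩ := by rw [lin_zero h]; exact Fin.ext e
  exact congrArg Fin.val (g.injective this)

/-- The point of a vector. -/
def pIdx (v : Vec) : Pt := ⟨ptIdx v % 45, Nat.mod_lt _ (by norm_num)⟩

/-- The vector of a point. -/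
def repV (p : Pt) : Vec := ⟨repC p, by
  have := reps_ok
  simp only [repsOK, Bool.and_eq_true] at this
  have h := allBelow_spec _ _ this.2 p p.2
  simp only [Bool.and_eq_true, Nat.blt_eq] at h
  exact h.2⟩

theorem rep_spec (p : Pt) : Sing (repV p) ∧ pIdx (repV p) = p := by
  have := reps_ok
  simp only [repsOK, Bool.and_eq_true] at this
  have h := allBelow_spec _ _ this.2 p p.2
  simp only [Bool.and_eq_true, Nat.beq_eq] at h
  refine ⟨(sing_iff _).2 h.1.1, Fin.ext ?_⟩
  show ptIdx (repC p) % 45 = p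
  rw [h.1.2, Nat.mod_eq_of_lt p.2]

theorem sing_spec {v : Vec} (hv : Sing v) :
    (v = repV (pIdx v) ∨ v = omV (repV (pIdx v)) ∨ v = omV (omV (repV (pIdx v)))) ∧ Sing (omV v) ∧
      pIdx (omV v) = pIdx v ∧ ptIdx v < 45 := by
  have := reps_ok
  simp only [repsOK, Bool.and_eq_true] at this
  have h := allBelow_spec _ _ this.1 v v.2
  simp only [Bool.and_eq_true, Bool.or_eq_true, (sing_iff v).1 hv, Bool.not_true, Bool.false_eq_true, false_or,
    Nat.beq_eq, Nat.blt_eq] at h
  obtain ⟨-, ⟨⟨hs, hlt⟩, hpi⟩, hc⟩ := h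
  have e : (pIdx v : ℕ) = ptIdx v := Nat.mod_eq_of_lt hlt
  refine ⟨?_, (sing_iff _).2 hs, Fin.ext (congrArg (· % 45) hpi), hlt⟩
  rw [← e] at hc
  rcases hc with (h | h) | h
  exacts [.inl (Fin.ext h), .inr (.inl (Fin.ext h)), .inr (.inr (Fin.ext h))]

theorem pIdx_map {g : Equiv.Perm Vec} (h : g ∈ Lgrp) {v : Vec} (hv : Sing v) :
    pIdx (g v) = pIdx (g (repV (pIdx v))) := by
  obtain ⟨hc, -⟩ := sing_spec hv
  have hr := (rep_spec (pIdx v)).1
  have hs := sing_map h hr
  rcases hc with e | e | e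
  · exact congrArg (fun x => pIdx (g x)) e
  · conv_lhs => rw [e, (linLike h).2.1]
    exact (sing_spec hs).2.2.1
  · conv_lhs => rw [e, (linLike h).2.1, (linLike h).2.1]
    rw [(sing_spec (sing_spec hs).2.1).2.2.1]
    exact (sing_spec hs).2.2.1

/-- The action on the points follows the action on the vectors. -/
def Follows (σ : Equiv.Perm Vec) (τ : Equiv.Perm Pt) : Prop := ∀ p, τ p = pIdx (σ (repV p))

theorem exists_follows {g : Equiv.Perm Vec} (h : g ∈ Lgrp) : ∃ τ ∈ Grp, Follows g τ := by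
  refine (lin_induction (P := fun g => g ∈ Lgrp ∧ ∃ τ ∈ Grp, Follows g τ) (fun j hj => ?_)
    ⟨one_mem _, 1, one_mem _, fun p => ((rep_spec p).2).symm⟩ ?_ h).2
  · refine ⟨linP_mem hj, toPerm 6 45 (ptElt j), gen_mem j hj, fun p => Fin.ext ?_⟩
    rw [← (rep_pt j hj p).1]
    have hh := allBelow_spec _ _ (allBelow_spec _ _ induced_ok j hj) p p.2
    have e := Nat.eq_of_beq_eq_true hh
    show get 6 (ptElt j).1 p = ptIdx (linP j (repV p)) % 45
    rw [linP_val hj]
    have hl := (sing_spec (sing_map (linP_mem hj) (rep_spec p).1)).2.2.2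
    rw [linP_val hj] at hl
    rw [Nat.mod_eq_of_lt hl]
    exact e
  · rintro a b ⟨ha, τa, hτa, fa⟩ ⟨hb, τb, hτb, fb⟩
    refine ⟨mul_mem ha hb, τa * τb, mul_mem hτa hτb, fun p => ?_⟩
    rw [Equiv.Perm.mul_apply, fa, fb]
    exact (pIdx_map ha (sing_map hb (rep_spec p).1)).symm

/-- The action on the points. -/
noncomputable def ptHom : Lgrp →* Equiv.Perm Pt where
  toFun g := (exists_follows g.2).choose
  map_one' := Equiv.ext fun p => by
    rw [(exists_follows (1 : Lgrp).2).choose_spec.2 p]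
    exact (rep_spec p).2
  map_mul' a b := Equiv.ext fun p => by
    rw [(exists_follows (a * b).2).choose_spec.2 p, Equiv.Perm.mul_apply,
      (exists_follows a.2).choose_spec.2, (exists_follows b.2).choose_spec.2]
    exact pIdx_map a.2 (sing_map b.2 (rep_spec p).1)

theorem ptHom_apply (g : Lgrp) (p : Pt) : ptHom g p = pIdx (g.1 (repV p)) :=
  (exists_follows g.2).choose_spec.2 p

theorem ptHom_mem (g : Lgrp) : ptHom g ∈ Grp := (exists_follows g.2).choose_spec.1

theorem ptHom_range : ptHom.range = Grp := by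
  refine le_antisymm (fun x ⟨g, hg⟩ => hg ▸ ptHom_mem g) fun x hx => ?_
  refine grp_induction (P := fun x => x ∈ ptHom.range) (fun j hj => ?_) (one_mem _) (fun a b => mul_mem) hx
  refine ⟨⟨linP j, linP_mem hj⟩, Equiv.ext fun p => Fin.ext ?_⟩
  rw [ptHom_apply, ← (rep_pt j hj p).1]
  have e := Nat.eq_of_beq_eq_true (allBelow_spec _ _ (allBelow_spec _ _ induced_ok j hj) p p.2)
  have hl := (sing_spec (sing_map (linP_mem hj) (rep_spec p).1)).2.2.2
  show ptIdx (linP j (repV p)) % 45 = _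
  rw [linP_val hj] at hl ⊢
  rw [Nat.mod_eq_of_lt hl]
  exact e.symm

theorem ptHom_injective : Function.Injective ptHom := by
  have h : Function.Bijective (ptHom.rangeRestrict) :=
    ptHom.rangeRestrict_surjective.bijective_of_nat_card_le (by rw [ptHom_range, card_Grp, card_Lgrp])
  exact fun a b e => h.1 (Subtype.ext e)

theorem exists_lin {τ : Equiv.Perm Pt} (h : τ ∈ Grp) : ∃ g : Lgrp, ptHom g = τ := by
  rwa [← ptHom_range] at h

/-! ### Transvections -/

theorem tv_atom (y x t z w a b c : ℕ) (h : (Nat.blt y 256 && Nat.beq t x && (Nat.beq y x == Nat.beq z 0) &&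
    (Nat.beq y x || Nat.beq w a || Nat.beq w b || Nat.beq w c)) = true) :
    y < 256 ∧ t = x ∧ (y = x ↔ z = 0) ∧ (y = x ∨ w = a ∨ w = b ∨ w = c) := by
  simp only [Bool.and_eq_true, Bool.or_eq_true, Nat.beq_eq, Nat.blt_eq, beq_iff_eq] at h
  obtain ⟨⟨⟨h1, h2⟩, h3⟩, h4⟩ := h
  refine ⟨h1, h2, ?_, ?_⟩
  · rw [← Nat.beq_eq, ← Nat.beq_eq, h3]
  · tauto

theorem tvC_check (p : Pt) : (∀ x < 256, tvC p x < 256 ∧ tvC p (tvC p x) = x ∧
    (tvC p x = x ↔ herm x (repC p) = 0) ∧ (tvC p x = x ∨ Nat.xor x (tvC p x) = repC p ∨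
      Nat.xor x (tvC p x) = omC (repC p) ∨ Nat.xor x (tvC p x) = omC (omC (repC p)))) ∧
    (∀ q < 45, get 6 (tvElt p).1 q = ptIdx (tvC p (repC q))) ∧
    sift 8 256 linLevels (pack 8 (tvC p) 256) = true := by
  have := tv_ok
  simp only [tvOK, Bool.and_eq_true] at this
  have h := allBelow_spec _ _ this.1 p p.2
  simp only [Bool.and_eq_true] at h
  refine ⟨fun x hx => ?_, fun q hq => Nat.eq_of_beq_eq_true (allBelow_spec _ _ h.1.1.2 q hq), h.1.2⟩
  exact tv_atom (tvC p x) x (tvC p (tvC p x)) (herm x (repC p)) (Nat.xor x (tvC p x)) (repC p) (omC (repC p))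
    (omC (omC (repC p))) (allBelow_spec _ _ h.1.1.1.2 x hx)

/-- A transvection on the vectors. -/
def tvV (p : Pt) : Equiv.Perm Vec :=
  Function.Involutive.toPerm (fun x : Vec => ⟨tvC p x, ((tvC_check p).1 x x.2).1⟩)
    fun x => Fin.ext ((tvC_check p).1 x x.2).2.1

theorem tvV_mem (p : Pt) : tvV p ∈ Lgrp := by
  have hr : Rep 8 (pack 8 (tvC p) 256, pack 8 (tvC p) 256) (tvV p) := by
    have key : ∀ i : Vec, get 8 (pack 8 (tvC p) 256) i = tvC p i := fun i => by
      rw [get_pack 8 _ 256 i i.2]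
      exact Nat.mod_eq_of_lt ((tvC_check p).1 i i.2).1
    exact fun i => ⟨key i, key i⟩
  have hv : validElt 8 256 (pack 8 (tvC p) 256, pack 8 (tvC p) 256) = true := by
    have key : ∀ n : ℕ, ∀ f : ℕ → Bool, (∀ i < n, f i = true) → allBelow f n = true := by
      intro n
      induction n with
      | zero => exact fun _ _ => rfl
      | succ n ih =>
        intro f hf
        show (allBelow f n && f n) = true
        rw [ih f fun i hi => hf i (hi.trans (Nat.lt_succ_self n)), hf n (Nat.lt_succ_self n), Bool.and_self]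
    refine key 256 _ fun i hi => ?_
    obtain ⟨h1, h2, -⟩ := (tvC_check p).1 i hi
    have e : ∀ m < 256, get 8 (pack 8 (tvC p) 256) m = tvC p m := fun m hm => by
      rw [get_pack 8 _ 256 m hm]
      exact Nat.mod_eq_of_lt ((tvC_check p).1 m hm).1
    simp only [e i hi, e _ h1, h2, Bool.and_eq_true, Nat.blt_eq, Nat.beq_eq, and_self, and_true]
    exact h1
  rw [rep_unique hr (rep_toPerm hv)]
  exact cert_mem lin_cert hv (tvC_check p).2.2

theorem ptHom_tv (p : Pt) : ptHom ⟨tvV p, tvV_mem p⟩ = tvP p := Equiv.ext fun q => Fin.ext (by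
  rw [ptHom_apply, ← (rep_tv p q).1, (tvC_check p).2.1 q q.2]
  show ptIdx (tvC p (repC q)) % 45 = _
  exact Nat.mod_eq_of_lt (sing_spec (sing_map (tvV_mem p) (rep_spec q).1)).2.2.2)

theorem eq_tvV {g : Lgrp} {p : Pt} (h : ptHom g = tvP p) : g.1 = tvV p :=
  congrArg Subtype.val (ptHom_injective (h.trans (ptHom_tv p).symm))

end Cfsg.Agent.U62Rec.Model
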