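import Cfsg.Agent.Lib.U62Rec.Model.Space
import Cfsg.Agent.Lib.U62Rec.Model.LinGrp
import Cfsg.Agent.Lib.U62Rec.Local

/-!
From the hypotheses on the centralizer of an involution to coordinates on the 2-core modulo its centre in
which the centralizer acts as the group on the vectors.
-/

set_option autoImplicit false
set_option linter.unusedSectionVars false
set_option linter.style.haveILetI false
set_option maxRecDepth 20000

namespace Cfsg.Agent.U62Rec.Model

open Subgroup LargeExtra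
open scoped commutatorElement

universe u

variable {G : Type u} [Group G] [Finite G]

/-- Coordinates on the 2-core. -/
structure Crd (z : G) where
  xs : XSLocal (coreAt z) z
  card : Nat.card (coreAt z) = 512
  /-- The vector of an element of the core. -/
  nv : G → Vec
  nv_mul : ∀ a ∈ coreAt z, ∀ b ∈ coreAt z, nv (a * b) = xorV (nv a) (nv b)
  nv_surj : ∀ v, ∃ a ∈ coreAt z, nv a = v
  nv_eq : ∀ a ∈ coreAt z, ∀ b ∈ coreAt z, nv a = nv b ↔ (b = a ∨ b = a * z)
  nv_sq : ∀ a ∈ coreAt z, (a * a = 1 ↔ q0 (nv a) = 0)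
  /-- The map of an element of the centralizer. -/
  lin : G → Lgrp
  lin_mul : ∀ g h : G, Commute z g → Commute z h → lin (g * h) = lin g * lin h
  lin_one : ∀ g : G, Commute z g → (lin g = 1 ↔ g ∈ coreAt z)
  lin_conj : ∀ g : G, Commute z g → ∀ a ∈ coreAt z, nv (g * a * g⁻¹) = (lin g).1 (nv a)
  lin_surj : ∀ σ : Lgrp, ∃ g : G, Commute z g ∧ lin g = σ

set_option maxHeartbeats 800000 in
/-- Coordinates from the hypotheses. -/
theorem exists_crd {z : G} (hz : orderOf z = 2) {F : Type*} [Field F] [Fintype F] (hF : Fintype.card F = 3)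
    (hJ : Cfsg.IsExtraspecial 2 ↥(Cfsg.pCore 2 ↥(centralizer ({z} : Set G))))
    (hJc : Nat.card ↥(Cfsg.pCore 2 ↥(centralizer ({z} : Set G))) = 2 ^ 9)
    (hCJ : centralizer ((Cfsg.pCore 2 ↥(centralizer ({z} : Set G))) : Set ↥(centralizer ({z} : Set G))) ≤
      Cfsg.pCore 2 ↥(centralizer ({z} : Set G)))
    [hJn : (Cfsg.pCore 2 ↥(centralizer ({z} : Set G))).Normal]
    (e : (↥(centralizer ({z} : Set G)) ⧸ Cfsg.pCore 2 ↥(centralizer ({z} : Set G))) ≃* Cfsg.PSp 2 F)
    (hfix : ∀ x ∈ coreAt z, (∀ g : G, Commute z g → g * x * g⁻¹ = x ∨ g * x * g⁻¹ = x * z) → x = 1 ∨ x = z) :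
    Nonempty (Crd z) := by
  classical
  obtain ⟨V, iV, ⟨S⟩⟩ := exists_space hz hF hJ hJc hCJ e
  letI := iV
  haveI := S.finite
  set C := centralizer ({z} : Set G) with hC
  have hρi := S.ρ_inv
  have hno : ∀ W : AddSubgroup V, Nat.card W = 4 → (∀ j, ∀ x ∈ W, S.gen j x ∈ W) → False := by
    intro W hW hinv
    have h0 : ∀ v ∈ W, v = 0 := fun v hv => S.noFixed hfix v fun x => S.fixed_four W hW hinv x v hv
    have : Nat.card W ≤ 1 := Finite.card_le_one_iff_subsingleton.2
      ⟨fun a b => Subtype.ext ((h0 _ a.2).trans (h0 _ b.2).symm)⟩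
    omega
  obtain ⟨φ, φ0, φxor, φsurj, φinj, φA, φq⟩ :=
    S.six.coords hno S.q S.B S.hq S.hB S.hnd fun j v => S.q_inv _ v
  -- coordinates
  have hbij : Function.Bijective (fun n : Vec => φ n) :=
    ⟨fun a b h => Fin.ext (φinj a a.2 b b.2 h), fun v => (φsurj v).elim fun n h => ⟨⟨n, h.1⟩, h.2⟩⟩
  let eV : Vec ≃ V := Equiv.ofBijective _ hbij
  have eV_xor : ∀ a b : Vec, eV (xorV a b) = eV a + eV b := fun a b => φxor a b
  have eV_symm_add : ∀ u v, eV.symm (u + v) = xorV (eV.symm u) (eV.symm v) := fun u v => by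
    rw [Equiv.symm_apply_eq, eV_xor, eV.apply_symm_apply, eV.apply_symm_apply]
  let P : Cfsg.PSp 2 (ZMod 3) →* Equiv.Perm Vec :=
    { toFun := fun x =>
        { toFun := fun n => eV.symm (S.ρ x (eV n))
          invFun := fun n => eV.symm (S.ρ x⁻¹ (eV n))
          left_inv := fun n => by simp [hρi]
          right_inv := fun n => by simpa using congrArg eV.symm (hρi x⁻¹ (eV n)) }
      map_one' := Equiv.ext fun n => by
        show eV.symm (S.ρ 1 (eV n)) = n
        rw [map_one]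
        exact eV.symm_apply_apply n
      map_mul' := fun x y => Equiv.ext fun n => by
        show eV.symm (S.ρ (x * y) (eV n)) = eV.symm (S.ρ x (eV (eV.symm (S.ρ y (eV n)))))
        rw [map_mul, eV.apply_symm_apply]
        rfl }
  have hgen : ∀ j : Fin 6, P (gx j) = linP j := fun j => Equiv.ext fun n => by
    show eV.symm (S.gen j (eV n)) = linP j n
    rw [Equiv.symm_apply_eq]
    show S.gen j (φ n) = φ (linP j n : ℕ)
    rw [linP_val j.2]
    exact φA j n n.2
  have hrange : P.range = Lgrp := by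
    apply le_antisymm
    · rw [MonoidHom.range_eq_map, ← gx_top, MonoidHom.map_closure, Subgroup.closure_le]
      rintro _ ⟨_, ⟨j, rfl⟩, rfl⟩
      rw [hgen]
      exact linP_mem j.2
    · intro σ hσ
      refine lin_induction (P := fun σ => σ ∈ P.range) (fun j hj => ?_) (one_mem _) (fun a b => mul_mem) hσ
      exact ⟨gx ⟨j, hj⟩, hgen _⟩
  have hPinj : Function.Injective P := fun x y h => S.ρ_inj (DFunLike.ext _ _ fun v => by
    obtain ⟨n, rfl⟩ := eV.surjective v
    exact eV.symm.injective (congrArg (fun s : Equiv.Perm Vec => s n) h))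
  let lin : G → Lgrp := fun g =>
    if h : g ∈ C then ⟨P (S.χ ⟨g, h⟩), hrange ▸ ⟨_, rfl⟩⟩ else 1
  have lin_eq : ∀ g (h : g ∈ C), (lin g).1 = P (S.χ ⟨g, h⟩) := fun g h => by
    simp only [lin, dif_pos h]
  have hmemC : ∀ {g : G}, Commute z g → g ∈ C := fun hg => mem_centralizer_one.2 hg.eq.symm
  refine ⟨{ xs := S.xs, card := S.card, nv := fun a => eV.symm (S.π a), nv_mul := ?_, nv_surj := ?_, nv_eq := ?_,
            nv_sq := ?_, lin := lin, lin_mul := ?_, lin_one := ?_, lin_conj := ?_, lin_surj := ?_ }⟩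
  · intro a ha b hb
    show eV.symm (S.π (a * b)) = _
    rw [S.mul a ha b hb, eV_symm_add]
  · intro v
    obtain ⟨a, ha, h⟩ := S.surj (eV v)
    exact ⟨a, ha, by show eV.symm (S.π a) = v; rw [h, eV.symm_apply_apply]⟩
  · intro a ha b hb
    rw [eV.symm.injective.eq_iff, S.eq_iff a ha b hb]
  · intro a ha
    have h := φq (eV.symm (S.π a)) (eV.symm (S.π a)).2
    rw [show φ (eV.symm (S.π a) : ℕ) = S.π a from eV.apply_symm_apply _, S.q_π a ha] at h
    rw [← bit_eq_zero, h]
    have key : ∀ n : Vec, ((q0 n : ZMod 2) = 0 ↔ q0 n = 0) := by decide +kernel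
    exact key _
  · intro g h hg hh
    apply Subtype.ext
    rw [coe_mul, lin_eq _ (hmemC (hg.mul_right hh)), lin_eq g (hmemC hg), lin_eq h (hmemC hh), ← map_mul,
      ← map_mul]
    rfl
  · intro g hg
    rw [Subtype.ext_iff, lin_eq g (hmemC hg), coe_one, ← map_one P, hPinj.eq_iff, S.χ_eq_one]
  · intro g hg a ha
    rw [lin_eq g (hmemC hg)]
    show eV.symm _ = eV.symm (S.ρ _ (eV (eV.symm (S.π a))))
    rw [eV.apply_symm_apply, S.ρ_π _ a ha]
  · intro σ
    obtain ⟨x, hx⟩ : σ.1 ∈ P.range := hrange.symm ▸ σ.2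
    obtain ⟨g, rfl⟩ := S.χ_surj x
    exact ⟨g, (mem_centralizer_one.1 g.2 : (g : G) * z = z * g).symm, Subtype.ext ((lin_eq _ g.2).trans hx)⟩

end Cfsg.Agent.U62Rec.Model
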