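import Cfsg.Agent.Lib.U62Rec.Model.LinFacts

/-!
The involutions which are not transvections: all are conjugate to the product of two chosen orthogonal
transvections, whose fixed vectors form a totally singular subspace equal to its commutator space.
-/

set_option autoImplicit false
set_option maxRecDepth 20000

namespace Cfsg.Agent.U62Rec.Model

open Cfsg.Agent.PermCert

/-- The first transvection of the chosen product. -/
def pa : Pt := ⟨(pairOf 0).1 % 45, Nat.mod_lt _ (by norm_num)⟩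

/-- The second transvection of the chosen product. -/
def pb : Pt := ⟨(pairOf 0).2 % 45, Nat.mod_lt _ (by norm_num)⟩

theorem pair0 : ((pa : ℕ) = (pairOf 0).1 ∧ (pb : ℕ) = (pairOf 0).2) := by decide +kernel

theorem prod0_rep : Rep 6 (prodElt 0) (tvP pa * tvP pb) := by
  obtain ⟨a, b, ha, hb, -, -, hr, -⟩ := prod_check 0 (by norm_num)
  obtain rfl : a = pa := Fin.ext (ha.trans pair0.1.symm)
  obtain rfl : b = pb := Fin.ext (hb.trans pair0.2.symm)
  exact hr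

theorem prod_conj {k : ℕ} (hk : k < 270) :
    ∃ g ∈ Grp, Rep 6 (prodElt k) (g * (tvP pa * tvP pb) * g⁻¹) := by
  have := tree_ok
  simp only [treeOK, Bool.and_eq_true] at this
  obtain ⟨⟨⟨hlen, hhead⟩, hall⟩, hstep⟩ := this
  have hlen' : prodTree.length = 270 := Nat.eq_of_beq_eq_true hlen
  have key : ∀ i < 270, ∃ g ∈ Grp, Rep 6 (prodElt (prodTree.getD i (0, 0, 0)).1) (g * (tvP pa * tvP pb) * g⁻¹) := by
    intro i
    induction i using Nat.strong_induction_on with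
    | _ i ih =>
    intro hi
    have h := allBelow_spec _ _ hstep i hi
    simp only [Bool.or_eq_true, Bool.and_eq_true, Nat.beq_eq, Nat.blt_eq] at h
    rcases h with h | ⟨⟨h1, h2⟩, h3⟩
    · subst h
      refine ⟨1, one_mem _, ?_⟩
      have e : (prodTree.getD 0 (0, 0, 0)).1 = 0 := by
        rw [List.getD_eq_getElem _ _ (by omega)]
        have h0 := Nat.eq_of_beq_eq_true hhead
        rwa [List.headD_eq_head?_getD, List.head?_eq_getElem?, List.getElem?_eq_getElem (by omega),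
          Option.getD_some] at h0
      rw [e, one_mul, inv_one, mul_one]
      exact prod0_rep
    · obtain ⟨g, hg, hr⟩ := ih _ h1 (h1.trans hi)
      set j := (prodTree.getD i (0, 0, 0)).2.2 with hj
      refine ⟨toPerm 6 45 (ptElt j) * g, mul_mem (gen_mem j h2) hg, ?_⟩
      have hgj := rep_pt j h2
      obtain ⟨m, hm, hmi⟩ : ∃ m < 270, m = (prodTree.getD i (0, 0, 0)).1 := by
        refine ⟨_, ?_, rfl⟩
        have hm := List.getD_eq_getElem prodTree (0, 0, 0) (hlen'.symm ▸ hi)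
        have hb : prodTree.all (fun t => Nat.blt t.1 270) = true := by decide +kernel
        rw [hm]
        exact Nat.blt_eq.mp (List.all_eq_true.1 hb _ (List.getElem_mem _))
      rw [← hmi] at h3 ⊢
      obtain ⟨am, bm, -, -, -, -, hrm, -⟩ := prod_check m hm
      have e := rep_eq_code hrm (rep_mul (rep_mul hgj hr) (rep_inv hgj)) h3
      rw [show toPerm 6 45 (ptElt j) * g * (tvP pa * tvP pb) * (toPerm 6 45 (ptElt j) * g)⁻¹ =
        toPerm 6 45 (ptElt j) * (g * (tvP pa * tvP pb) * g⁻¹) * (toPerm 6 45 (ptElt j))⁻¹ from by group, ← e]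
      exact hrm
  obtain ⟨t, ht, hte⟩ := List.any_eq_true.1 (allBelow_spec _ _ hall k hk)
  obtain ⟨i, hi, rfl⟩ := List.getElem_of_mem ht
  have := key i (hlen' ▸ hi)
  rwa [List.getD_eq_getElem _ _ hi, Nat.eq_of_beq_eq_true hte] at this

/-- The chosen product on the vectors. -/
def s0V : Equiv.Perm Vec := tvV pa * tvV pb

theorem s0V_mem : s0V ∈ Lgrp := mul_mem (tvV_mem pa) (tvV_mem pb)

theorem s0V_val (x : Vec) : (s0V x : ℕ) = s0C x := by
  show tvC pa (tvC pb x) = _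
  rw [pair0.1, pair0.2]
  rfl

theorem exists_std {σ : Lgrp} (h2 : σ * σ = 1) (h1 : σ ≠ 1) (hne : ∀ p, ptHom σ ≠ tvP p) :
    ∃ γ ∈ Lgrp, σ.1 = γ * s0V * γ⁻¹ := by
  have hm := mem_invs (ptHom_mem σ) (by rw [← map_mul, h2, map_one]) (fun e => h1 (ptHom_injective (e.trans (map_one ptHom).symm)))
  rcases invs_cases hm with ⟨p, e⟩ | ⟨p, q, hadj, e⟩
  · exact absurd e (hne p)
  obtain ⟨k, hk, hr, -⟩ := exists_pair hadj
  obtain ⟨g, hg, hr'⟩ := prod_conj hk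
  obtain ⟨γ, rfl⟩ := exists_lin hg
  refine ⟨γ.1, γ.2, congrArg Subtype.val (ptHom_injective (a₂ := γ * ⟨s0V, s0V_mem⟩ * γ⁻¹) ?_)⟩
  rw [map_mul, map_mul, map_inv, e, rep_unique hr hr',
    show ptHom ⟨s0V, s0V_mem⟩ = tvP pa * tvP pb from by
      rw [← ptHom_tv, ← ptHom_tv, ← map_mul]; rfl]

theorem other_spec : (∀ k < 3, validElt 8 256 (centElt k) = true ∧ sift 8 256 linLevels (centElt k).1 = true ∧
      ∀ v < 256, centC k v < 256 ∧ centC k (s0C v) = s0C (centC k v)) ∧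
    16 ≤ (List.range 256).countP (fun x => Nat.beq (s0C x) x) ∧
    ∀ x < 256, s0C x = x → q0 x = 0 ∧ (∃ y < 256, Nat.xor y (s0C y) = x) ∧
      (x = 0 ∨ ∃ g < 3, ∃ h < 3, ∃ a < 256, ∃ b < 256, Nat.xor a (s0C a) ≠ 0 ∧ Nat.xor b (s0C b) ≠ 0 ∧
        Nat.xor a (s0C a) ≠ Nat.xor b (s0C b) ∧ polC a (Nat.xor b (s0C b)) = 0 ∧
        Nat.xor a (s0C a) ∈ spanFour 0 x (centC g x) (centC h x) ∧
        Nat.xor b (s0C b) ∈ spanFour 0 x (centC g x) (centC h x)) := by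
  have := other_ok
  simp only [otherOK, Bool.and_eq_true] at this
  obtain ⟨⟨h1, h2⟩, h3⟩ := this
  refine ⟨fun k hk => ?_, Nat.le_of_ble_eq_true h2, fun x hx hfix => ?_⟩
  · have h := allBelow_spec _ _ h1 k hk
    simp only [Bool.and_eq_true] at h
    refine ⟨h.1.1, h.1.2, fun v hv => ?_⟩
    have h' := allBelow_spec _ _ h.2 v hv
    simp only [Bool.and_eq_true] at h'
    exact ⟨Nat.blt_eq.mp h'.1, Nat.eq_of_beq_eq_true h'.2⟩
  · have h := allBelow_spec _ _ h3 x hx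
    have hf : Nat.beq (s0C x) x = true := Nat.beq_eq.mpr hfix
    simp only [hf, Bool.not_true, Bool.false_or, Bool.and_eq_true, Bool.or_eq_true, List.any_eq_true,
      List.mem_range] at h
    obtain ⟨⟨hq, y, hy, hye⟩, h⟩ := h
    refine ⟨Nat.eq_of_beq_eq_true hq, ⟨y, hy, Nat.eq_of_beq_eq_true hye⟩, ?_⟩
    rcases h with h | ⟨⟨w, g, hh, a, b⟩, -, h⟩
    · exact .inl (Nat.eq_of_beq_eq_true h)
    · right
      simp only [Bool.and_eq_true, List.any_eq_true, Bool.not_eq_true', ← Bool.not_eq_true] at h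
      obtain ⟨⟨⟨⟨⟨⟨⟨⟨⟨⟨-, e1⟩, e2⟩, e3⟩, e4⟩, e5⟩, e6⟩, e7⟩, e8⟩, s, hs, e9⟩, s', hs', e10⟩ := h
      exact ⟨g, Nat.blt_eq.mp e1, hh, Nat.blt_eq.mp e2, a, Nat.blt_eq.mp e3, b, Nat.blt_eq.mp e4,
        fun e => e5 (Nat.beq_eq.mpr e), fun e => e6 (Nat.beq_eq.mpr e), fun e => e7 (Nat.beq_eq.mpr e),
        Nat.eq_of_beq_eq_true e8, Nat.eq_of_beq_eq_true e9 ▸ hs, Nat.eq_of_beq_eq_true e10 ▸ hs'⟩

/-- A centralising map as a permutation. -/
def centP (k : ℕ) : Equiv.Perm Vec := toPerm 8 256 (centElt k)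

theorem centP_spec {k : ℕ} (hk : k < 3) : centP k ∈ Lgrp ∧ centP k * s0V = s0V * centP k ∧
    ∀ x : Vec, (centP k x : ℕ) = centC k x := by
  obtain ⟨hv, hs, hc⟩ := other_spec.1 k hk
  have hval : ∀ x : Vec, (centP k x : ℕ) = centC k x := fun x => by
    rw [centP, ← (rep_toPerm hv x).1]
    show get 8 (pack 8 (centC k) 256) x = _
    rw [get_pack 8 _ 256 x x.2]
    exact Nat.mod_eq_of_lt (hc x x.2).1
  refine ⟨cert_mem lin_cert hv hs, Equiv.ext fun x => Fin.ext ?_, hval⟩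
  simp only [Equiv.Perm.mul_apply, hval, s0V_val]
  exact (hc x x.2).2

theorem other_fix {σ : Equiv.Perm Vec} {γ : Equiv.Perm Vec} (hγ : γ ∈ Lgrp) (hσ : σ = γ * s0V * γ⁻¹) {x : Vec}
    (hx : σ x = x) : q0 x = 0 ∧ ∃ y, xorV y (σ y) = x := by
  have hu : s0C (γ⁻¹ x : Vec) = (γ⁻¹ x : Vec) := by
    rw [← s0V_val]
    refine congrArg Fin.val ?_
    conv_rhs => rw [← hx, hσ, Equiv.Perm.mul_apply, Equiv.Perm.mul_apply, perm_inv_self]
  obtain ⟨hq, ⟨y, hy, hye⟩, -⟩ := other_spec.2.2 _ (γ⁻¹ x).2 hu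
  refine ⟨by rw [← lin_q (inv_mem hγ)]; exact hq, γ ⟨y, hy⟩, ?_⟩
  rw [hσ, Equiv.Perm.mul_apply, Equiv.Perm.mul_apply, perm_inv_self, ← (linLike hγ).1]
  conv_rhs => rw [← perm_self_inv γ x]
  refine congrArg γ (Fin.ext ?_)
  show Nat.xor y (s0V ⟨y, hy⟩ : ℕ) = _
  rw [s0V_val]
  exact hye

theorem other_count {σ : Equiv.Perm Vec} {γ : Equiv.Perm Vec} (hσ : σ = γ * s0V * γ⁻¹) :
    16 ≤ {x : Vec | σ x = x}.ncard := by
  classical
  have h : 16 ≤ (Finset.univ.filter fun x : Vec => s0V x = x).card := by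
    refine le_trans other_spec.2.1 (le_of_eq ?_)
    rw [List.countP_eq_length_filter, ← List.toFinset_card_of_nodup (List.nodup_range.filter _),
      ← Finset.card_map Fin.valEmbedding]
    refine congrArg Finset.card (Finset.ext fun i => ?_)
    simp only [List.mem_toFinset, List.mem_filter, List.mem_range, Nat.beq_eq, Finset.mem_map, Finset.mem_filter,
      Finset.mem_univ, true_and, Fin.valEmbedding_apply]
    constructor
    · rintro ⟨hi, e⟩
      exact ⟨⟨i, hi⟩, Fin.ext ((s0V_val _).trans e), rfl⟩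
    · rintro ⟨p, hp, rfl⟩
      exact ⟨p.2, (s0V_val p).symm.trans (congrArg Fin.val hp)⟩
  refine h.trans ?_
  rw [← Set.ncard_coe_finset]
  refine Set.ncard_le_ncard_of_injOn γ (fun x hx => ?_) γ.injective.injOn (Set.toFinite _)
  simp only [Finset.coe_filter, Finset.mem_univ, true_and, Set.mem_ofPred_eq] at hx
  show σ (γ x) = γ x
  rw [hσ, Equiv.Perm.mul_apply, Equiv.Perm.mul_apply, perm_inv_self, hx]

theorem other_wit {σ : Equiv.Perm Vec} {γ : Equiv.Perm Vec} (hγ : γ ∈ Lgrp) (hσ : σ = γ * s0V * γ⁻¹) {W : Set Vec}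
    (hadd : ∀ x ∈ W, ∀ y ∈ W, xorV x y ∈ W) (hfix : ∀ x ∈ W, σ x = x)
    (hinv : ∀ g ∈ Lgrp, g * σ = σ * g → ∀ x ∈ W, g x ∈ W) {x : Vec} (hx : x ∈ W) (hx0 : (x : ℕ) ≠ 0) :
    ∃ a b, xorV a (σ a) ∈ W ∧ xorV b (σ b) ∈ W ∧ (xorV a (σ a) : ℕ) ≠ 0 ∧ (xorV b (σ b) : ℕ) ≠ 0 ∧
      xorV a (σ a) ≠ xorV b (σ b) ∧ polC a (xorV b (σ b)) = 0 := by
  set u := γ⁻¹ x with hu
  have hγu : γ u = x := perm_self_inv γ x
  have hfu : s0V u = u := by
    have := hfix x hx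
    rw [hσ, Equiv.Perm.mul_apply, Equiv.Perm.mul_apply, ← hu, ← hγu] at this
    exact γ.injective this
  have hu0 : (u : ℕ) ≠ 0 := fun h => hx0 (by
    rw [← hγu, show u = ⟨0, by norm_num⟩ from Fin.ext h, lin_zero hγ])
  obtain ⟨-, -, h⟩ := other_spec.2.2 u u.2 ((s0V_val u).symm.trans (congrArg Fin.val hfu))
  obtain ⟨g, hg, h', hh', a, ha, b, hb, n1, n2, n3, hp, m1, m2⟩ := h.resolve_left hu0
  have hW : ∀ k < 3, γ (centP k u) ∈ W := fun k hk => by
    obtain ⟨hm, hc, -⟩ := centP_spec hk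
    have := hinv (γ * centP k * γ⁻¹) (mul_mem (mul_mem hγ hm) (inv_mem hγ)) (by
      rw [hσ, show γ * centP k * γ⁻¹ * (γ * s0V * γ⁻¹) = γ * (centP k * s0V) * γ⁻¹ from by group, hc]
      group) x hx
    rwa [Equiv.Perm.mul_apply, Equiv.Perm.mul_apply, ← hu] at this
  have hmem : ∀ n : ℕ, n ∈ spanFour 0 u (centC g u) (centC h' u) → ∀ hn : n < 256, γ ⟨n, hn⟩ ∈ W := by
    intro n hn hlt
    obtain ⟨y, hy, hye⟩ : ∃ y : Vec, γ y ∈ W ∧ (y : ℕ) = n := by
      rw [← (centP_spec hg).2.2 u, ← (centP_spec hh').2.2 u] at hn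
      have hzero : γ ⟨0, by norm_num⟩ ∈ W := by
        rw [lin_zero hγ]
        have := hadd x hx x hx
        rwa [show xorV x x = (⟨0, by norm_num⟩ : Vec) from Fin.ext (Nat.xor_self _)] at this
      have W2 : ∀ {p q : Vec}, γ p ∈ W → γ q ∈ W → γ (xorV p q) ∈ W := fun hp hq => by
        rw [(linLike hγ).1]; exact hadd _ hp _ hq
      have hx' : γ u ∈ W := hγu.symm ▸ hx
      have hgW := hW g hg
      have hkW := hW h' hh'
      simp only [spanFour, List.mem_cons, List.not_mem_nil, or_false] at hn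
      rcases hn with e | e | e | e | e | e | e | e | e | e | e | e | e | e | e | e
      exacts [⟨_, hzero, e.symm⟩, ⟨_, hzero, e.symm⟩, ⟨_, hx', e.symm⟩, ⟨_, W2 hzero hx', e.symm⟩,
        ⟨_, hgW, e.symm⟩, ⟨_, W2 hzero hgW, e.symm⟩, ⟨_, W2 hx' hgW, e.symm⟩, ⟨_, W2 (W2 hzero hx') hgW, e.symm⟩,
        ⟨_, hkW, e.symm⟩, ⟨_, W2 hzero hkW, e.symm⟩, ⟨_, W2 hx' hkW, e.symm⟩, ⟨_, W2 (W2 hzero hx') hkW, e.symm⟩,
        ⟨_, W2 hgW hkW, e.symm⟩, ⟨_, W2 (W2 hzero hgW) hkW, e.symm⟩, ⟨_, W2 (W2 hx' hgW) hkW, e.symm⟩,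
        ⟨_, W2 (W2 (W2 hzero hx') hgW) hkW, e.symm⟩]
    rwa [show (⟨n, hlt⟩ : Vec) = y from Fin.ext hye.symm]
  have hcomm : ∀ n : Vec, xorV (γ n) (σ (γ n)) = γ (xorV n (s0V n)) := fun n => by
    rw [hσ, Equiv.Perm.mul_apply, Equiv.Perm.mul_apply, perm_inv_self, (linLike hγ).1]
  have hval : ∀ {n : ℕ} (hn : n < 256), (xorV ⟨n, hn⟩ (s0V ⟨n, hn⟩) : ℕ) = Nat.xor n (s0C n) := fun hn =>
    congrArg (Nat.xor _) (s0V_val _)
  have hne : ∀ {n : Vec}, (n : ℕ) ≠ 0 → (γ n : ℕ) ≠ 0 := fun {n} hn e => hn (by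
    have : γ n = γ ⟨0, by norm_num⟩ := by rw [lin_zero hγ]; exact Fin.ext e
    exact congrArg Fin.val (γ.injective this))
  refine ⟨γ ⟨a, ha⟩, γ ⟨b, hb⟩, ?_, ?_, ?_, ?_, ?_, ?_⟩
  · rw [hcomm]; exact hmem _ (hval ha ▸ m1) (xorV _ _).2
  · rw [hcomm]; exact hmem _ (hval hb ▸ m2) (xorV _ _).2
  · rw [hcomm]; exact hne (hval ha ▸ n1)
  · rw [hcomm]; exact hne (hval hb ▸ n2)
  · rw [hcomm, hcomm]
    intro e
    exact n3 ((hval ha).symm.trans ((congrArg Fin.val (γ.injective e)).trans (hval hb)))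
  · rw [hcomm, lin_pol hγ, hval hb]
    exact hp

end Cfsg.Agent.U62Rec.Model
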