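import Cfsg.Agent.Lib.U62Rec.Model.Geo
import Cfsg.Agent.Lib.U62Rec.Model.LinChecks

/-!
Elementary abelian 2-subgroups of the group on the points, and 2-subgroups whose squares lie in the group of
a transvection.
-/

set_option autoImplicit false
set_option maxRecDepth 20000

namespace Cfsg.Agent.U62Rec.Model

open Cfsg.Agent.PermCert

theorem eq_of_canon {a b : Elt} {σ τ : Equiv.Perm Pt} (ha : Rep 6 a σ) (hb : Rep 6 b τ)
    (h : canon a.1 = canon b.1) : σ = τ := Equiv.ext fun i => Fin.ext (by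
  have hh := congrArg (fun c => get 6 c i) h
  simp only [canon, get_comp 6 45 _ _ _ i.2, get_idCode 6 45 _ (by norm_num) i.2] at hh
  rwa [(ha i).1, (hb i).1] at hh)

/-- A member of the Sylow 2-subgroup, by number. -/
def sylP (i : ℕ) : Equiv.Perm Pt := toPerm 6 45 (sylE i)

theorem syl_len : sylPts.length = 64 := by
  have := syl_ok
  simp only [sylOK, Bool.and_eq_true, Nat.beq_eq] at this
  exact this.1.1.1

theorem rep_syl {i : ℕ} (hi : i < 64) : Rep 6 (sylE i) (sylP i) := by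
  have := syl_ok
  simp only [sylOK, Bool.and_eq_true, List.all_eq_true] at this
  have hm : sylE i ∈ sylPts := by
    rw [sylE, List.getD_eq_getElem _ _ (syl_len ▸ hi)]
    exact List.getElem_mem _
  exact rep_toPerm (this.1.2 _ hm).1.1.1

theorem syl_index {a : Elt} (ha : a ∈ sylPts) : ∃ i < 64, toPerm 6 45 a = sylP i := by
  obtain ⟨i, hi, rfl⟩ := List.getElem_of_mem ha
  exact ⟨i, syl_len ▸ hi, by rw [sylP, sylE, List.getD_eq_getElem _ _ hi]⟩

theorem sylTr_spec : (sylPts.countP fun a => Nat.beq (canon (comp 6 45 a.1 a.1)) (canon (idCode 6 45)) &&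
      !Nat.beq (canon a.1) (canon (idCode 6 45))) ≤ 30 ∧
    (∀ i < 64, canon (sylE i).1 = canon (wordE (sylWords.getD i [])).1 ∧
      (∀ g ∈ sylWords.getD i [], g < 3) ∧
      canon (comp 6 45 (sylE i).1 (tvElt 15).1) = canon (comp 6 45 (tvElt 15).1 (sylE i).1)) ∧
    (∀ g < 3, sylGenIdx.getD g 0 < 64) ∧
    (∃ i < 64, badSq i = true) ∧
    ∀ m < 8, m ≠ 0 → (∃ i ∈ maskMem m, badSq i = true) ∨
      ∀ i ∈ maskMem m, canon (sylE i).1 = canon (idCode 6 45) ∨ canon (sylE i).1 = canon (tvElt 15).1 ∨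
        ∃ j ∈ maskMem m, canon (comp 6 45 (sylE i).1 (sylE j).1) ≠ canon (comp 6 45 (sylE j).1 (sylE i).1) := by
  have := sylTr_ok
  simp only [sylTrOK, Bool.and_eq_true] at this
  obtain ⟨⟨⟨⟨⟨⟨⟨h1, -⟩, -⟩, h2⟩, h3⟩, -⟩, h4⟩, h5⟩ := this
  refine ⟨Nat.le_of_ble_eq_true h1, fun i hi => ?_, fun g hg => ?_, ?_, fun m hm hm0 => ?_⟩
  · have h := allBelow_spec _ _ h2 i hi
    simp only [Bool.and_eq_true, List.all_eq_true, Nat.blt_eq] at h
    exact ⟨Nat.eq_of_beq_eq_true h.1.1, h.1.2, Nat.eq_of_beq_eq_true h.2⟩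
  · exact Nat.blt_eq.mp (allBelow_spec _ _ h3 g hg)
  · obtain ⟨i, hi, hb⟩ := List.any_eq_true.1 h4
    exact ⟨i, List.mem_range.1 hi, hb⟩
  · have h := allBelow_spec _ _ h5 m hm
    simp only [Bool.or_eq_true, List.any_eq_true, List.all_eq_true, Nat.beq_eq, Bool.not_eq_true',
      ← Bool.not_eq_true] at h
    rcases h with (h | h) | h
    · exact absurd h hm0
    · exact .inl h
    · exact .inr fun i hi => by
        rcases h i hi with (h | h) | ⟨j, hj, h⟩
        exacts [.inl h, .inr (.inl h), .inr (.inr ⟨j, hj, h⟩)]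

/-- A transvection central in the Sylow 2-subgroup. -/
def p15 : Pt := ⟨15, by norm_num⟩

theorem syl_comm {i : ℕ} (hi : i < 64) : Commute (sylP i) (tvP p15) :=
  eq_of_canon (rep_mul (rep_syl hi) (rep_tv p15)) (rep_mul (rep_tv p15) (rep_syl hi)) (sylTr_spec.2.1 i hi).2.2

/-- The Sylow 2-subgroup, as a group of permutations. -/
theorem exists_syl : ∃ S : Sylow 2 Grp, Nat.card ↥((S : Subgroup Grp).map Grp.subtype) = 64 ∧
    (∀ x : Equiv.Perm Pt, x ∈ (S : Subgroup Grp).map Grp.subtype ↔ ∃ i < 64, x = sylP i) := by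
  classical
  obtain ⟨-, S, hS⟩ := syl_spec
  haveI : Fact (Nat.Prime 2) := ⟨Nat.prime_two⟩
  have hc : Nat.card ↥((S : Subgroup Grp).map Grp.subtype) = 64 := by
    rw [Subgroup.card_map_of_injective Grp.subtype_injective, S.card_eq_multiplicity, card_Grp,
      show (25920 : ℕ) = 2 ^ 6 * 405 from rfl, Nat.factorization_mul (by norm_num) (by norm_num),
      Nat.Prime.factorization_pow Nat.prime_two]
    simp [Nat.factorization_eq_zero_of_not_dvd (show ¬ 2 ∣ 405 by norm_num)]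
  have hsub : ∀ x : Equiv.Perm Pt, x ∈ (S : Subgroup Grp).map Grp.subtype → ∃ i < 64, x = sylP i := by
    rintro _ ⟨y, hy, rfl⟩
    obtain ⟨a, ha, e⟩ := hS y hy
    obtain ⟨i, hi, e'⟩ := syl_index ha
    exact ⟨i, hi, e.symm.trans e'⟩
  refine ⟨S, hc, fun x => ⟨hsub x, ?_⟩⟩
  rintro ⟨i, hi, rfl⟩
  have hle : ((S : Subgroup Grp).map Grp.subtype : Set (Equiv.Perm Pt)) ⊆
      ((Finset.range 64).image sylP : Set (Equiv.Perm Pt)) := fun x hx => by
    obtain ⟨j, hj, rfl⟩ := hsub x hx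
    exact Finset.mem_coe.2 (Finset.mem_image_of_mem _ (Finset.mem_range.2 hj))
  have heq := Set.eq_of_subset_of_ncard_le hle (by
    rw [← Nat.card_coe_set_eq (((S : Subgroup Grp).map Grp.subtype : Set (Equiv.Perm Pt))), Set.ncard_coe_finset]
    exact le_trans Finset.card_image_le (by rw [Finset.card_range]; exact hc.ge)) (Finset.finite_toSet _)
  rw [← SetLike.mem_coe, heq]
  exact Finset.mem_coe.2 (Finset.mem_image_of_mem _ (Finset.mem_range.2 hi))

theorem isPGroup_sq {G : Type*} [Group G] [Finite G] {M : Subgroup G}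
    (h : ∀ a ∈ M, (a * a) * (a * a) = 1) : IsPGroup 2 M := fun a =>
  ⟨2, Subtype.ext (by
    rw [Subgroup.coe_pow, show (2 : ℕ) ^ 2 = 2 + 2 from rfl, pow_add, pow_two]
    exact h a a.2)⟩

theorem conj_map_card {G : Type*} [Group G] (g : G) (M : Subgroup G) :
    Nat.card ↥(M.map (MulAut.conj g).toMonoidHom) = Nat.card M :=
  Subgroup.card_map_of_injective (MulAut.conj g).injective

/-- A subgroup of exponent two has order at most 16. -/
theorem elem16 {M : Subgroup (Equiv.Perm Pt)} (hM : M ≤ Grp) (hsq : ∀ a ∈ M, a * a = 1) :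
    Nat.card M ≤ 16 := by
  classical
  haveI : Fact (Nat.Prime 2) := ⟨Nat.prime_two⟩
  have hp : IsPGroup 2 (M.subgroupOf Grp) := isPGroup_sq fun a ha => Subtype.ext (by
    simp only [Subgroup.coe_mul, Subgroup.coe_one, hsq _ (Subgroup.mem_subgroupOf.1 ha), mul_one])
  obtain ⟨Q, hQ⟩ := hp.exists_le_sylow
  obtain ⟨S, -, hSi⟩ := exists_syl
  obtain ⟨g, hg⟩ := MulAction.exists_smul_eq Grp Q S
  let F := (sylPts.filter fun a => Nat.beq (canon (comp 6 45 a.1 a.1)) (canon (idCode 6 45)) &&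
      !Nat.beq (canon a.1) (canon (idCode 6 45))).map (toPerm 6 45)
  have hmem : ∀ x ∈ M, x ≠ 1 → (g : Equiv.Perm Pt) * x * (g : Equiv.Perm Pt)⁻¹ ∈ F := by
    intro x hx hx1
    have h1 : g * ⟨x, hM hx⟩ * g⁻¹ ∈ (S : Subgroup Grp) := by
      rw [← hg, Sylow.coe_subgroup_smul, ← MulAut.conj_apply]
      exact Subgroup.smul_mem_pointwise_smul _ _ _ (hQ (Subgroup.mem_subgroupOf.2 hx))
    obtain ⟨i, hi, e⟩ := (hSi ((g : Equiv.Perm Pt) * x * (g : Equiv.Perm Pt)⁻¹)).1 ⟨_, h1, rfl⟩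
    refine List.mem_map.2 ⟨sylE i, List.mem_filter.2 ⟨?_, ?_⟩, e.symm⟩
    · rw [sylE, List.getD_eq_getElem _ _ (syl_len ▸ hi)]
      exact List.getElem_mem _
    · have hxx : sylP i * sylP i = 1 := by
        rw [← e, show (g : Equiv.Perm Pt) * x * (g : Equiv.Perm Pt)⁻¹ * ((g : Equiv.Perm Pt) * x * (g : Equiv.Perm Pt)⁻¹) =
          (g : Equiv.Perm Pt) * (x * x) * (g : Equiv.Perm Pt)⁻¹ from by group, hsq x hx, mul_one, mul_inv_cancel]
      simp only [Bool.and_eq_true, Bool.not_eq_true', Nat.beq_eq, ← Bool.not_eq_true]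
      have hr : Rep 6 (mul 6 45 (sylE i) (sylE i)) (1 : Equiv.Perm Pt) := by
        rw [← hxx]; exact rep_mul (rep_syl hi) (rep_syl hi)
      refine ⟨canon_eq (a := mul 6 45 (sylE i) (sylE i)) (b := one 6 45) hr (rep_one (by norm_num)), fun hc => hx1 ?_⟩
      have h0 := eq_of_canon (rep_syl hi) (b := one 6 45) (rep_one (by norm_num)) hc
      rw [← e] at h0
      exact conj_eq_one_iff.1 h0
  have hF : F.toFinset.card ≤ 30 := (List.toFinset_card_le _).trans (by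
    rw [List.length_map, ← List.countP_eq_length_filter]; exact sylTr_spec.1)
  have hlt : Nat.card M ≤ 31 := by
    have h1 : ((M : Set (Equiv.Perm Pt)) \ {1}).ncard ≤ (F.toFinset : Set (Equiv.Perm Pt)).ncard :=
      Set.ncard_le_ncard_of_injOn (fun x => (g : Equiv.Perm Pt) * x * (g : Equiv.Perm Pt)⁻¹)
        (fun x hx => Finset.mem_coe.2 (List.mem_toFinset.2 (hmem x hx.1 hx.2)))
        (fun a _ b _ e => mul_left_cancel (mul_right_cancel e)) (Finset.finite_toSet _)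
    rw [Set.ncard_coe_finset] at h1
    have h2 := Set.ncard_sdiff_singleton_add_one (show (1 : Equiv.Perm Pt) ∈ (M : Set _) from one_mem M) (Set.toFinite _)
    rw [← SetLike.coe_sort_coe, Nat.card_coe_set_eq]
    omega
  obtain ⟨k, hk⟩ := (IsPGroup.iff_card.1 (isPGroup_sq (M := M) fun a ha => by rw [hsq a ha, mul_one]))
  rw [hk] at hlt ⊢
  have : k < 5 := by
    by_contra h
    have := Nat.pow_le_pow_right (show 2 > 0 by norm_num) (show 5 ≤ k by omega)
    omega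
  exact Nat.pow_le_pow_right (show 2 > 0 by norm_num) (show k ≤ 4 by omega)

theorem word_par (N : Subgroup (Equiv.Perm Pt)) (m : ℕ)
    (hgen : ∀ g < 3, ((sylP (sylGenIdx.getD g 0) ∈ N) ↔ m.testBit g = false))
    (hmul : ∀ a b : Equiv.Perm Pt, (∃ i < 64, a = sylP i) → (∃ i < 64, b = sylP i) →
      (a * b ∈ N ↔ (a ∈ N ↔ b ∈ N)))
    (hclos : ∀ i < 64, ∀ j < 64, ∃ k < 64, sylP i * sylP j = sylP k) (hone : ∃ k < 64, (1 : Equiv.Perm Pt) = sylP k) :
    ∀ w : List ℕ, (∀ g ∈ w, g < 3) → ∃ k < 64, Rep 6 (wordE w) (sylP k) ∧ (sylP k ∈ N ↔ par m w = false)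
  | [], _ => by
    obtain ⟨k, hk, e⟩ := hone
    refine ⟨k, hk, e ▸ rep_one (by norm_num), ?_⟩
    simp [← e, par]
  | g :: w, hw => by
    obtain ⟨k, hk, hr, hp⟩ := word_par N m hgen hmul hclos hone w fun x hx => hw x (List.mem_cons_of_mem _ hx)
    have hg := hw g List.mem_cons_self
    have hi := (sylTr_spec.2.2.1 g hg)
    obtain ⟨l, hl, e⟩ := hclos _ hi k hk
    refine ⟨l, hl, e ▸ rep_mul (rep_syl hi) hr, ?_⟩
    rw [← e, hmul _ _ ⟨_, hi, rfl⟩ ⟨k, hk, rfl⟩, hgen g hg, hp]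
    simp only [par, List.foldr_cons]
    cases m.testBit g <;> cases (List.foldr (fun g b => xor (m.testBit g) b) false w) <;> simp

/-- A subgroup with squares in the group of a transvection centralising it. -/
theorem tr32 {p : Pt} {M : Subgroup (Equiv.Perm Pt)} (hM : M ≤ Grp)
    (hsq : ∀ a ∈ M, a * a = 1 ∨ a * a = tvP p) (hc : ∀ a ∈ M, Commute a (tvP p)) :
    Nat.card M ≤ 32 ∧ (Nat.card M = 32 →
      ∀ a ∈ M, (∀ b ∈ M, Commute a b) → a = 1 ∨ a = tvP p) := by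
  classical
  haveI : Fact (Nat.Prime 2) := ⟨Nat.prime_two⟩
  obtain ⟨h, hh, hp⟩ := exists_move p p15
  set T0 := tvP p15 with hT0
  have hT : h * tvP p * h⁻¹ = T0 := by rw [tvP_conj hh, hp]
  obtain ⟨S, hS64, hSi⟩ := exists_syl
  let K : Subgroup Grp := Subgroup.centralizer {⟨T0, tvP_mem p15⟩}
  have hSK : (S : Subgroup Grp) ≤ K := fun x hx => Subgroup.mem_centralizer_singleton_iff.2 (Subtype.ext (by
    obtain ⟨i, hi, e⟩ := (hSi x).1 ⟨x, hx, rfl⟩
    simp only [Subgroup.coe_mul, e]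
    exact (syl_comm hi).eq))
  let M1 : Subgroup Grp := (M.map (MulAut.conj h).toMonoidHom).subgroupOf Grp
  have hM1 : ∀ x ∈ M1, ∃ a ∈ M, (x : Equiv.Perm Pt) = h * a * h⁻¹ := fun x hx => by
    obtain ⟨a, ha, e⟩ := Subgroup.mem_subgroupOf.1 hx
    exact ⟨a, ha, e.symm⟩
  have hM1K : M1 ≤ K := fun x hx => by
    obtain ⟨a, ha, e⟩ := hM1 x hx
    refine Subgroup.mem_centralizer_singleton_iff.2 (Subtype.ext ?_)
    simp only [Subgroup.coe_mul, e, ← hT]
    rw [show h * a * h⁻¹ * (h * tvP p * h⁻¹) = h * (a * tvP p) * h⁻¹ from by group, (hc a ha).eq]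
    group
  have hp2 : IsPGroup 2 (M1.subgroupOf K) := isPGroup_sq fun x hx => Subtype.ext (Subtype.ext (by
    obtain ⟨a, ha, e⟩ := hM1 x.1 hx
    simp only [Subgroup.coe_mul, Subgroup.coe_one, e]
    have h4 : a * a * (a * a) = 1 := by
      rcases hsq a ha with q | q <;> rw [q]
      exacts [one_mul 1, tvP_sq p]
    rw [show h * a * h⁻¹ * (h * a * h⁻¹) * (h * a * h⁻¹ * (h * a * h⁻¹)) = h * (a * a * (a * a)) * h⁻¹ from by group,
      h4, mul_one, mul_inv_cancel]))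
  obtain ⟨Q, hQ⟩ := hp2.exists_le_sylow
  obtain ⟨k, hk⟩ := MulAction.exists_smul_eq K Q (S.subtype hSK)
  set c : Equiv.Perm Pt := ((k : Grp) : Equiv.Perm Pt) * h with hcdef
  have hkT : ((k : Grp) : Equiv.Perm Pt) * T0 = T0 * ((k : Grp) : Equiv.Perm Pt) :=
    congrArg Subtype.val (Subgroup.mem_centralizer_singleton_iff.1 k.2)
  have hcT : c * tvP p * c⁻¹ = T0 := by
    rw [hcdef, show ((k : Grp) : Equiv.Perm Pt) * h * tvP p * (((k : Grp) : Equiv.Perm Pt) * h)⁻¹ =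
      ((k : Grp) : Equiv.Perm Pt) * (h * tvP p * h⁻¹) * ((k : Grp) : Equiv.Perm Pt)⁻¹ from by group, hT, hkT,
      mul_inv_cancel_right]
  set N := M.map (MulAut.conj c).toMonoidHom with hN
  have hNS : N ≤ (S : Subgroup Grp).map Grp.subtype := by
    rintro _ ⟨a, ha, rfl⟩
    have hmem : h * a * h⁻¹ ∈ Grp := mul_mem (mul_mem hh (hM ha)) (inv_mem hh)
    have h1 : (⟨⟨h * a * h⁻¹, hmem⟩, hM1K ⟨a, ha, rfl⟩⟩ : K) ∈ M1.subgroupOf K := ⟨a, ha, rfl⟩
    have h2 : k * ⟨⟨h * a * h⁻¹, hmem⟩, hM1K ⟨a, ha, rfl⟩⟩ * k⁻¹ ∈ (S.subtype hSK : Subgroup K) := by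
      rw [← hk, Sylow.coe_subgroup_smul, ← MulAut.conj_apply]
      exact Subgroup.smul_mem_pointwise_smul _ _ _ (hQ h1)
    rw [Sylow.coe_subtype, Subgroup.mem_subgroupOf] at h2
    refine ⟨_, h2, ?_⟩
    show ((k : Grp) : Equiv.Perm Pt) * (h * a * h⁻¹) * ((k : Grp) : Equiv.Perm Pt)⁻¹ = c * a * c⁻¹
    rw [hcdef]
    group
  have hNsq : ∀ i < 64, sylP i ∈ N → badSq i = false := by
    intro i hi hiN
    obtain ⟨a, ha, e⟩ := hiN
    have e2 : sylP i * sylP i = c * (a * a) * c⁻¹ := by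
      rw [← e]; show c * a * c⁻¹ * (c * a * c⁻¹) = _; group
    cases hb : badSq i
    · rfl
    exfalso
    simp only [badSq, Bool.and_eq_true, Bool.not_eq_true', Nat.beq_eq, ← Bool.not_eq_true] at hb
    have hr := rep_mul (rep_syl hi) (rep_syl hi)
    rcases hsq a ha with q | q
    · rw [q, mul_one, mul_inv_cancel] at e2
      rw [e2] at hr
      exact hb.1 (canon_eq (a := mul 6 45 (sylE i) (sylE i)) (b := one 6 45) hr (rep_one (by norm_num)))
    · rw [q, hcT] at e2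
      rw [e2] at hr
      exact hb.2 (canon_eq (a := mul 6 45 (sylE i) (sylE i)) (b := tvElt 15) hr (rep_tv p15))
  have hcard : Nat.card N = Nat.card M := conj_map_card c M
  set S0 := (S : Subgroup Grp).map Grp.subtype with hS0
  have hdvd : Nat.card N ∣ 64 := hS64 ▸ Subgroup.card_dvd_of_le hNS
  have hne : Nat.card N ≠ 64 := fun e => by
    obtain ⟨i, hi, hb⟩ := sylTr_spec.2.2.2.1
    have : N = S0 := Subgroup.eq_of_le_of_card_ge hNS (by rw [e, hS64])
    rw [hNsq i hi (this ▸ (hSi _).2 ⟨i, hi, rfl⟩)] at hb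
    exact Bool.false_ne_true hb
  rw [← hcard]
  refine ⟨?_, fun h32 a ha hcom => ?_⟩
  · obtain ⟨j, hj, e⟩ := (Nat.dvd_prime_pow Nat.prime_two).1 (show Nat.card N ∣ 2 ^ 6 from hdvd)
    have : j ≠ 6 := fun h => hne (by rw [e, h]; rfl)
    rw [e]
    exact Nat.pow_le_pow_right (show 2 > 0 by norm_num) (show j ≤ 5 by omega)
  have hidx : (N.subgroupOf S0).index = 2 := by
    have h1 := (N.subgroupOf S0).card_mul_index
    rw [Nat.card_congr (Subgroup.subgroupOfEquivOfLe hNS).toEquiv, h32, hS64] at h1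
    omega
  have hmul : ∀ x y : Equiv.Perm Pt, (∃ i < 64, x = sylP i) → (∃ i < 64, y = sylP i) →
      (x * y ∈ N ↔ (x ∈ N ↔ y ∈ N)) := fun x y hx hy => by
    have := Subgroup.mul_mem_iff_of_index_two hidx (a := ⟨x, (hSi x).2 hx⟩) (b := ⟨y, (hSi y).2 hy⟩)
    simpa [Subgroup.mem_subgroupOf] using this
  have hclos : ∀ i < 64, ∀ j < 64, ∃ l < 64, sylP i * sylP j = sylP l := fun i hi j hj =>
    (hSi _).1 (mul_mem ((hSi _).2 ⟨i, hi, rfl⟩) ((hSi _).2 ⟨j, hj, rfl⟩))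
  obtain ⟨o, ho, hone⟩ := (hSi 1).1 (one_mem S0)
  obtain ⟨m, hm8, hgen⟩ : ∃ m < 8, ∀ g < 3, ((sylP (sylGenIdx.getD g 0) ∈ N) ↔ m.testBit g = false) := by
    have key : ∀ b0 b1 b2 : Bool, ∃ m < 8, m.testBit 0 = b0 ∧ m.testBit 1 = b1 ∧ m.testBit 2 = b2 := by
      decide +kernel
    obtain ⟨m, hm, e0, e1, e2⟩ := key (decide (sylP (sylGenIdx.getD 0 0) ∉ N))
      (decide (sylP (sylGenIdx.getD 1 0) ∉ N)) (decide (sylP (sylGenIdx.getD 2 0) ∉ N))
    refine ⟨m, hm, fun g hg => ?_⟩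
    interval_cases g
    · rw [e0]; simp
    · rw [e1]; simp
    · rw [e2]; simp
  have hpar : ∀ i < 64, (sylP i ∈ N ↔ i ∈ maskMem m) := fun i hi => by
    obtain ⟨e1, e2, -⟩ := sylTr_spec.2.1 i hi
    obtain ⟨l, hl, hr, hiff⟩ := word_par N m hgen hmul hclos ⟨o, ho, hone⟩ _ e2
    rw [eq_of_canon (rep_syl hi) hr e1, hiff]
    simp [maskMem, hi]
  have hm0 : m ≠ 0 := fun e0 => hne (by
    rw [← hS64]
    refine congrArg (fun X : Subgroup (Equiv.Perm Pt) => Nat.card X) (le_antisymm hNS fun x hx => ?_)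
    obtain ⟨i, hi, rfl⟩ := (hSi x).1 hx
    rw [hpar i hi, maskMem, List.mem_filter, e0]
    refine ⟨List.mem_range.2 hi, ?_⟩
    have hp0 : ∀ w : List ℕ, par 0 w = false := fun w => by
      induction w with
      | nil => rfl
      | cons g w ih =>
        show (xor ((0 : ℕ).testBit g) (par 0 w)) = false
        rw [ih, Nat.zero_testBit]
        rfl
    rw [hp0]
    rfl)
  rcases sylTr_spec.2.2.2.2 m hm8 hm0 with ⟨i, hi, hb⟩ | hcent
  · have hi64 : i < 64 := List.mem_range.1 (List.mem_of_mem_filter hi)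
    rw [hNsq i hi64 ((hpar i hi64).2 hi)] at hb
    exact absurd hb Bool.false_ne_true
  obtain ⟨i, hi, e⟩ := (hSi _).1 (hNS (Subgroup.mem_map_of_mem (MulAut.conj c).toMonoidHom ha))
  change c * a * c⁻¹ = sylP i at e
  have hiN : sylP i ∈ N := e ▸ ⟨a, ha, rfl⟩
  rcases hcent i ((hpar i hi).1 hiN) with h1 | h1 | ⟨j, hj, h1⟩
  · left
    have h0 := eq_of_canon (rep_syl hi) (b := one 6 45) (rep_one (by norm_num)) h1
    rw [← e] at h0
    exact conj_eq_one_iff.1 h0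
  · right
    have h0 := eq_of_canon (rep_syl hi) (rep_tv p15) h1
    rw [← e, ← hT0, ← hcT] at h0
    exact mul_left_cancel (mul_right_cancel h0)
  · exfalso
    have hj64 : j < 64 := List.mem_range.1 (List.mem_of_mem_filter hj)
    obtain ⟨b, hb, eb⟩ := (hpar j hj64).2 hj
    change c * b * c⁻¹ = sylP j at eb
    refine h1 (canon_eq (a := mul 6 45 (sylE i) (sylE j)) (b := mul 6 45 (sylE j) (sylE i))
      (rep_mul (rep_syl hi) (rep_syl hj64)) ?_)
    have : sylP i * sylP j = sylP j * sylP i := by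
      rw [← e, ← eb, show c * a * c⁻¹ * (c * b * c⁻¹) = c * (a * b) * c⁻¹ from by group, (hcom b hb).eq]
      group
    rw [this]
    exact rep_mul (rep_syl hj64) (rep_syl hi)

end Cfsg.Agent.U62Rec.Model
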