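import Cfsg.Agent.Lib.U62Rec.Model.Crd
import Cfsg.Agent.Lib.U62Rec.Model.PtFacts
import Cfsg.Agent.Lib.U62Rec.Model.OtherFacts

/-!
The local hypotheses at an involution whose centralizer has an extraspecial 2-core of order `2^9` with
quotient the symplectic group in dimension four over three elements and no fixed vector.
-/

set_option autoImplicit false
set_option linter.unusedSectionVars false
set_option linter.style.haveILetI false
set_option maxRecDepth 20000

namespace Cfsg.Agent.U62Rec.Model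

open Subgroup LargeExtra
open scoped commutatorElement

variable {G : Type*} [Group G] [Finite G] {z : G}

/-- The zero vector. -/
def zeroV : Vec := ⟨0, by norm_num⟩

theorem xorV_self (a : Vec) : xorV a a = zeroV := Fin.ext (Nat.xor_self _)

theorem xorV_eq_zero {a b : Vec} (h : xorV a b = zeroV) : a = b :=
  Fin.ext (Nat.xor_eq_zero_iff.1 (congrArg Fin.val h))

theorem xorV_zero (a : Vec) : xorV a zeroV = a := Fin.ext (Nat.xor_zero _)

theorem xorV_comm (a b : Vec) : xorV a b = xorV b a := Fin.ext (Nat.xor_comm _ _)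

/-- The line of a point. -/
def InLine (p : Pt) (v : Vec) : Prop :=
  v = zeroV ∨ v = repV p ∨ v = omV (repV p) ∨ v = omV (omV (repV p))

theorem omega_facts (v : Vec) : omV (omV (omV v)) = v ∧ xorV v (xorV (omV v) (omV (omV v))) = zeroV := by
  have := reps_ok
  simp only [repsOK, Bool.and_eq_true] at this
  have h := PermCert.allBelow_spec _ _ this.1 v v.2
  simp only [Bool.and_eq_true, Nat.beq_eq] at h
  exact ⟨Fin.ext h.1.1, Fin.ext h.1.2⟩

theorem omV_zero : omV zeroV = zeroV := by decide +kernel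

theorem inLine_sing {p : Pt} {v : Vec} (h : InLine p v) (h0 : v ≠ zeroV) : Sing v ∧ pIdx v = p := by
  obtain ⟨hs, hp⟩ := rep_spec p
  obtain ⟨-, hs1, hp1, -⟩ := sing_spec hs
  obtain ⟨-, hs2, hp2, -⟩ := sing_spec hs1
  rcases h with rfl | rfl | rfl | rfl
  exacts [absurd rfl h0, ⟨hs, hp⟩, ⟨hs1, hp1.trans hp⟩, ⟨hs2, (hp2.trans hp1).trans hp⟩]

theorem inLine_of_sing {v : Vec} (h : Sing v) : InLine (pIdx v) v := Or.inr (sing_spec h).1

theorem inLine_q {p : Pt} {v : Vec} (h : InLine p v) : q0 v = 0 := by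
  by_cases h0 : v = zeroV
  · subst h0; decide +kernel
  · exact (inLine_sing h h0).1.2

theorem inLine_om {p : Pt} {v : Vec} (h : InLine p v) : InLine p (omV v) := by
  rcases h with rfl | rfl | rfl | rfl
  · exact Or.inl omV_zero
  · exact Or.inr (Or.inr (Or.inl rfl))
  · exact Or.inr (Or.inr (Or.inr rfl))
  · exact Or.inr (Or.inl (omega_facts _).1)

theorem inLine_xor {p : Pt} {u v : Vec} (hu : InLine p u) (hv : InLine p v) : InLine p (xorV u v) := by
  have key : ∀ {r : Vec}, xorV r (omV r) = omV (omV r) := fun {r} => by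
    apply xorV_eq_zero
    rw [show xorV (xorV r (omV r)) (omV (omV r)) = xorV r (xorV (omV r) (omV (omV r))) from
      Fin.ext (Nat.xor_assoc _ _ _)]
    exact (omega_facts r).2
  have k1 := key (r := repV p)
  have k2 := key (r := omV (repV p))
  have k3 := key (r := omV (omV (repV p)))
  rw [(omega_facts (repV p)).1] at k2 k3
  rcases hu with rfl | rfl | rfl | rfl <;> rcases hv with rfl | rfl | rfl | rfl <;>
    first
    | exact Or.inl (xorV_self _)
    | (rw [xorV_zero]; simp only [InLine, true_or, or_true])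
    | (rw [xorV_comm, xorV_zero]; simp only [InLine, true_or, or_true])
    | (rw [k1]; simp only [InLine, true_or, or_true])
    | (rw [xorV_comm, k1]; simp only [InLine, true_or, or_true])
    | (rw [k2]; simp only [InLine, true_or, or_true])
    | (rw [xorV_comm, k2]; simp only [InLine, true_or, or_true])
    | (rw [k3]; simp only [InLine, true_or, or_true])
    | (rw [xorV_comm, k3]; simp only [InLine, true_or, or_true])

theorem inLine_map {g : Lgrp} {p : Pt} {v : Vec} (h : InLine p v) : InLine (ptHom g p) (g.1 v) := by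
  by_cases h0 : v = zeroV
  · subst h0; exact Or.inl (lin_zero g.2)
  obtain ⟨hs, hp⟩ := inLine_sing h h0
  rw [ptHom_apply, ← hp, ← pIdx_map g.2 hs]
  exact inLine_of_sing (sing_map g.2 hs)

theorem inLine_fixed {g : Lgrp} {p : Pt} {n : Vec} (hn : InLine p n) (h0 : n ≠ zeroV) (hfix : g.1 n = n) {v : Vec}
    (hv : InLine p v) : g.1 v = v := by
  have h1 := (linLike g.2).2.1
  have e : v = zeroV ∨ v = n ∨ v = omV n ∨ v = omV (omV n) := by
    have o3 := (omega_facts (repV p)).1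
    rcases hn with rfl | rfl | rfl | rfl
    · exact absurd rfl h0
    · exact hv
    · rw [o3]; rcases hv with h | h | h | h
      exacts [.inl h, .inr (.inr (.inr h)), .inr (.inl h), .inr (.inr (.inl h))]
    · rw [o3]; rcases hv with h | h | h | h
      exacts [.inl h, .inr (.inr (.inl h)), .inr (.inr (.inr h)), .inr (.inl h)]
  rcases e with rfl | rfl | rfl | rfl
  exacts [lin_zero g.2, hfix, by rw [h1, hfix], by rw [h1, h1, hfix]]

theorem line_card (p : Pt) : {v : Vec | InLine p v}.ncard = 4 := by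
  have hne : ∀ p : Fin 45, (repC p ≠ 0 ∧ omC (repC p) ≠ 0 ∧ omC (omC (repC p)) ≠ 0) ∧
      repC p ≠ omC (repC p) ∧ repC p ≠ omC (omC (repC p)) ∧ omC (repC p) ≠ omC (omC (repC p)) := by decide +kernel
  obtain ⟨⟨a, b, c⟩, d, e, f⟩ := hne p
  have : {v : Vec | InLine p v} = ↑({zeroV, repV p, omV (repV p), omV (omV (repV p))} : Finset Vec) := by
    ext v; simp [InLine]
  rw [this, Set.ncard_coe_finset]
  simp only [Finset.mem_insert, Finset.mem_singleton, not_or, Fin.ext_iff, zeroV, repV, omV,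
    Finset.card_insert_of_notMem, Finset.card_singleton, not_false_eq_true, Ne.symm a, Ne.symm b, Ne.symm c, d, e, f,
    and_self]

theorem perp_facts (p : Pt) : (∀ x : Vec, herm x (repC p) = 0 ↔ polC x (repV p) = 0 ∧ polC x (omV (repV p)) = 0) ∧
    {x : Vec | herm x (repC p) = 0}.ncard = 64 := by
  have := perp_ok
  simp only [perpOK, Bool.and_eq_true] at this
  have h := PermCert.allBelow_spec _ _ this.2 p p.2
  simp only [Bool.and_eq_true] at h
  refine ⟨fun x => ?_, ?_⟩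
  · have h' := PermCert.allBelow_spec _ _ h.1 x x.2
    rw [beq_iff_eq] at h'
    rw [← Nat.beq_eq, h', Bool.and_eq_true, Nat.beq_eq, Nat.beq_eq]
    rfl
  · classical
    rw [← Nat.eq_of_beq_eq_true h.2, List.countP_eq_length_filter,
      ← List.toFinset_card_of_nodup (List.nodup_range.filter _), Set.ncard_eq_toFinset_card']
    rw [← Finset.card_map Fin.valEmbedding]
    refine congrArg Finset.card (Finset.ext fun i => ?_)
    simp only [Finset.mem_map, Set.mem_toFinset, Set.mem_ofPred_eq, List.mem_toFinset, List.mem_filter,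
      List.mem_range, Nat.beq_eq, Fin.valEmbedding_apply]
    exact ⟨fun ⟨x, hx, e⟩ => e ▸ ⟨x.2, hx⟩, fun hi => ⟨⟨i, hi.1⟩, hi.2, rfl⟩⟩

theorem pol_xor {p : Pt} {x v : Vec} (hv : InLine p v) (h : herm x (repC p) = 0) : polC x v = 0 := by
  obtain ⟨h1, h2⟩ := ((perp_facts p).1 x).1 h
  have h0 : polC x zeroV = 0 := (show ∀ x : Vec, polC x zeroV = 0 by decide +kernel) x
  have hlist : ∀ p : Fin 45, ∀ x : Fin 256, polC x (repC p) = 0 → polC x (omC (repC p)) = 0 →
      polC x (omC (omC (repC p))) = 0 := by decide +kernel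
  rcases hv with rfl | rfl | rfl | rfl
  exacts [h0, h1, h2, hlist p x h1 h2]

namespace Crd

variable (K : Crd z)

include K

theorem sq : z * z = 1 := K.xs.toXSub.sq

theorem comm_z {a : G} (ha : a ∈ coreAt z) : Commute z a := (K.xs.comm ha).symm

theorem conj_core {g : G} (hg : Commute z g) {a : G} (ha : a ∈ coreAt z) : g * a * g⁻¹ ∈ coreAt z :=
  conj_mem (coreAt_normal z (mem_centralizer_one.2 hg.eq.symm)) ha

theorem comm_mem {g : G} (hg : Commute z g) {a : G} (ha : a ∈ coreAt z) : ⁅g, a⁆ ∈ coreAt z := by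
  rw [commutatorElement_def]
  exact mul_mem (K.conj_core hg ha) (inv_mem ha)

theorem nv_one : K.nv 1 = zeroV := by
  have := K.nv_mul 1 (one_mem _) 1 (one_mem _)
  rw [one_mul] at this
  rw [this, xorV_self]

theorem nv_z : K.nv z = zeroV := by
  rw [← K.nv_one]
  exact ((K.nv_eq 1 (one_mem _) z K.xs.mem).2 (Or.inr (one_mul z).symm)).symm

theorem nv_zero {a : G} (ha : a ∈ coreAt z) : K.nv a = zeroV ↔ a ∈ zpowers z := by
  rw [K.xs.mem_zpowers_iff, ← K.nv_one, eq_comm, K.nv_eq 1 (one_mem _) a ha, one_mul]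

theorem nv_inv {a : G} (ha : a ∈ coreAt z) : K.nv a⁻¹ = K.nv a := by
  have h := K.nv_mul a⁻¹ (inv_mem ha) a ha
  rw [inv_mul_cancel, K.nv_one] at h
  exact xorV_eq_zero h.symm

theorem nv_comm {g : G} (hg : Commute z g) {a : G} (ha : a ∈ coreAt z) :
    K.nv ⁅g, a⁆ = xorV (K.nv a) ((K.lin g).1 (K.nv a)) := by
  rw [commutatorElement_def, K.nv_mul _ (K.conj_core hg ha) _ (inv_mem ha), K.nv_inv ha, K.lin_conj g hg a ha,
    xorV_comm]

theorem comm_zpowers {g : G} (hg : Commute z g) {a : G} (ha : a ∈ coreAt z) :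
    ⁅g, a⁆ ∈ zpowers z ↔ (K.lin g).1 (K.nv a) = K.nv a := by
  rw [← K.nv_zero (K.comm_mem hg ha), K.nv_comm hg ha]
  exact ⟨fun h => (xorV_eq_zero h).symm, fun h => by rw [h, xorV_self]⟩

theorem conj_z {g : G} (hg : Commute z g) {a : G} (ha : a ∈ coreAt z) (h : (K.lin g).1 (K.nv a) = K.nv a) :
    g * a * g⁻¹ = a ∨ g * a * g⁻¹ = a * z := by
  rw [← K.lin_conj g hg a ha] at h
  exact (K.nv_eq a ha _ (K.conj_core hg ha)).1 h.symm

theorem lin_fix {g : G} (hg : Commute z g) {s : G} (hs : s ∈ coreAt z) (hgs : Commute s g) :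
    (K.lin g).1 (K.nv s) = K.nv s := by
  rw [← K.lin_conj g hg s hs, ← hgs.eq, mul_inv_cancel_right]

theorem pol_comm {a b : G} (ha : a ∈ coreAt z) (hb : b ∈ coreAt z) :
    Commute a b ↔ polC (K.nv a) (K.nv b) = 0 := by
  have hX := K.xs.toXSub
  have hab := mul_mem ha hb
  have hq : ∀ v : Vec, q0 v = 0 ∨ q0 v = 1 := by decide +kernel
  have hval : ∀ {c : G}, c ∈ coreAt z → (c * c = 1 ∧ q0 (K.nv c) = 0) ∨ (c * c = z ∧ q0 (K.nv c) = 1) := by
    intro c hc
    rcases hX.sq_cases hc with h | h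
    · exact Or.inl ⟨h, (K.nv_sq c hc).1 h⟩
    · refine Or.inr ⟨h, (hq _).resolve_left fun e => hX.ne_one ?_⟩
      rw [← h]; exact (K.nv_sq c hc).2 e
  have hp : polC (K.nv a) (K.nv b) = Nat.xor (q0 (K.nv (a * b))) (Nat.xor (q0 (K.nv a)) (q0 (K.nv b))) := by
    rw [K.nv_mul a ha b hb]; rfl
  have hrel : a * b * (a * b) = ⁅a, b⁆ * (b * a * (a * b)) := by rw [commutatorElement_def]; group
  have hsq : b * a * (a * b) = (a * a) * (b * b) := by
    rw [show b * a * (a * b) = b * (a * a) * b from by group]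
    rcases hX.sq_cases ha with h | h <;> rw [h]
    · simp
    · rw [hX.comm hb, mul_assoc]
  rw [hsq] at hrel
  have hne := hX.ne_one
  have hiff : Commute a b ↔ ⁅a, b⁆ = 1 := commutatorElement_eq_one_iff_mul_comm.symm
  rw [hiff, hp]
  rcases hX.comm_cases ha hb with hc | hc <;> rcases hval hab with ⟨hs, e⟩ | ⟨hs, e⟩ <;>
    rcases hval ha with ⟨hsa, ea⟩ | ⟨hsa, ea⟩ <;> rcases hval hb with ⟨hsb, eb⟩ | ⟨hsb, eb⟩ <;>
    (rw [hs, hc, hsa, hsb] at hrel; rw [hc, e, ea, eb]) <;>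
    simp [hne, hne.symm, hX.sq] at hrel ⊢

theorem pre_ncard (S : Set Vec) : {a | a ∈ coreAt z ∧ K.nv a ∈ S}.ncard = 2 * S.ncard := by
  classical
  induction S, Set.toFinite S using Set.Finite.induction_on with
  | empty => simp
  | @insert v S hv hS ih =>
    obtain ⟨b, hb, rfl⟩ := K.nv_surj v
    have e : {a | a ∈ coreAt z ∧ K.nv a ∈ insert (K.nv b) S} = {b, b * z} ∪ {a | a ∈ coreAt z ∧ K.nv a ∈ S} := by
      ext a
      simp only [Set.mem_ofPred_eq, Set.mem_insert_iff, Set.mem_union, Set.mem_singleton_iff]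
      constructor
      · rintro ⟨ha, h | h⟩
        · exact Or.inl ((K.nv_eq b hb a ha).1 h.symm)
        · exact Or.inr ⟨ha, h⟩
      · rintro (h | ⟨ha, h⟩)
        · have ha : a ∈ coreAt z := by rcases h with rfl | rfl; exacts [hb, mul_mem hb K.xs.mem]
          exact ⟨ha, Or.inl ((K.nv_eq b hb a ha).2 h).symm⟩
        · exact ⟨ha, Or.inr h⟩
    rw [e, Set.ncard_union_eq ?_ (Set.toFinite _) (Set.toFinite _), Set.ncard_pair (K.xs.toXSub.ne_mul_z b), ih,
      Set.ncard_insert_of_notMem hv hS]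
    · ring
    · rw [Set.disjoint_left]
      rintro a ha ⟨ha', h⟩
      exact hv ((K.nv_eq b hb a ha').2 ha ▸ h)

/-- The action on the points. -/
noncomputable def perm (g : G) : Equiv.Perm Pt := by
  classical exact if Commute z g then ptHom (K.lin g) else 1

theorem perm_eq {g : G} (hg : Commute z g) : K.perm g = ptHom (K.lin g) := by
  classical
  rw [perm, if_pos hg]

/-- The preimage of a line. -/
def rad (p : Pt) : Subgroup G where
  carrier := {a | a ∈ coreAt z ∧ InLine p (K.nv a)}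
  one_mem' := ⟨one_mem _, Or.inl K.nv_one⟩
  mul_mem' := fun {a b} ha hb => ⟨mul_mem ha.1 hb.1, by rw [K.nv_mul a ha.1 b hb.1]; exact inLine_xor ha.2 hb.2⟩
  inv_mem' := fun {a} ha => ⟨inv_mem ha.1, by rw [K.nv_inv ha.1]; exact ha.2⟩

theorem rad_nv_ne {s : G} (hs : s ∈ coreAt z) (h1 : s ≠ 1) (hz : s ≠ z) : K.nv s ≠ zeroV := fun h =>
  (K.xs.mem_zpowers_iff.1 ((K.nv_zero hs).1 h)).elim h1 hz

theorem centralizer_rad (p : Pt) {a : G} (ha : a ∈ coreAt z) :
    (∀ r ∈ K.rad p, Commute a r) ↔ herm (K.nv a) (repC p) = 0 := by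
  constructor
  · intro h
    obtain ⟨b, hb, e⟩ := K.nv_surj (repV p)
    obtain ⟨c, hc, e'⟩ := K.nv_surj (omV (repV p))
    refine ((perp_facts p).1 _).2 ⟨?_, ?_⟩
    · rw [← e, ← K.pol_comm ha hb]
      exact h b ⟨hb, by rw [e]; exact Or.inr (Or.inl rfl)⟩
    · rw [← e', ← K.pol_comm ha hc]
      exact h c ⟨hc, by rw [e']; exact Or.inr (Or.inr (Or.inl rfl))⟩
  · exact fun h r hr => (K.pol_comm ha hr.1).2 (pol_xor hr.2 h)

/-- The image of a subgroup of the centralizer. -/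
noncomputable def imgHom (N : Subgroup G) (hN : N ≤ centralizer ({z} : Set G)) : N →* Lgrp :=
  MonoidHom.mk' (fun a => K.lin a) fun a b => K.lin_mul a b
    (mem_centralizer_one.1 (hN a.2) : (a : G) * z = z * a).symm
    (mem_centralizer_one.1 (hN b.2) : (b : G) * z = z * b).symm

omit K in
theorem comm_of_le {N : Subgroup G} (hN : N ≤ centralizer ({z} : Set G)) {a : G} (ha : a ∈ N) : Commute z a :=
  (mem_centralizer_one.1 (hN ha)).symm

theorem perm_image (N : Subgroup G) (hN : N ≤ centralizer ({z} : Set G)) :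
    (K.perm '' (N : Set G)) = (((K.imgHom N hN).range.map ptHom : Subgroup (Equiv.Perm Pt)) : Set (Equiv.Perm Pt)) := by
  ext x
  constructor
  · rintro ⟨a, ha, rfl⟩
    exact ⟨K.lin a, ⟨⟨a, ha⟩, rfl⟩, (K.perm_eq (comm_of_le hN ha)).symm⟩
  · rintro ⟨_, ⟨a, rfl⟩, rfl⟩
    exact ⟨a, a.2, K.perm_eq (comm_of_le hN a.2)⟩

theorem perm_ncard (N : Subgroup G) (hN : N ≤ centralizer ({z} : Set G)) :
    (K.perm '' (N : Set G)).ncard = Nat.card ↥((K.imgHom N hN).range.map ptHom) := by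
  rw [K.perm_image N hN, ← Nat.card_coe_set_eq]
  rfl

theorem lift_fix {s : G} (hs : s ∈ coreAt z) (h1 : s ≠ 1) (h2 : s ≠ z) {σ : Lgrp} (hσ : σ.1 (K.nv s) = K.nv s) :
    ∃ g ∈ centralizer ({z, s} : Set G), K.lin g = σ := by
  obtain ⟨g, hg, rfl⟩ := K.lin_surj σ
  have key : ∀ h : G, Commute z h → h * s * h⁻¹ = s → h ∈ centralizer ({z, s} : Set G) := fun h hh e => by
    refine mem_centralizer_iff.2 fun y hy => ?_
    rcases hy with rfl | rfl
    · exact hh.eq
    · exact (mul_inv_eq_iff_eq_mul.1 e).symm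
  rcases K.conj_z hg hs hσ with e | e
  · exact ⟨g, key g hg e, rfl⟩
  · obtain ⟨q, hq, hqe⟩ := K.xs.toXSub.exists_conj hs h1 h2
    refine ⟨g * q, key _ (hg.mul_right (K.comm_z hq)) ?_, ?_⟩
    · rw [show g * q * s * (g * q)⁻¹ = g * (q * s * q⁻¹) * g⁻¹ from by group, hqe,
        show g * (s * z) * g⁻¹ = g * s * g⁻¹ * (g * z * g⁻¹) from by group, e, ← hg.eq, mul_inv_cancel_right,
        mul_assoc, K.sq, mul_one]
    · rw [K.lin_mul g q hg (K.comm_z hq), (K.lin_one q (K.comm_z hq)).2 hq, mul_one]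

theorem lin_sq {g : G} (hg : Commute z g) (h : g * g ∈ coreAt z) : K.lin g * K.lin g = 1 := by
  rw [← K.lin_mul g g hg hg]
  exact (K.lin_one _ (hg.mul_right hg)).2 h

theorem other_data {t : G} (ht : Commute z t) (ht2 : t * t = 1) (htJ : t ∉ coreAt z)
    (hne : ∀ p, K.perm t ≠ tvP p) : ∃ γ ∈ Lgrp, (K.lin t).1 = γ * s0V * γ⁻¹ :=
  exists_std (K.lin_sq ht (ht2 ▸ one_mem _)) (fun h => htJ ((K.lin_one t ht).1 h))
    fun p e => hne p ((K.perm_eq ht).trans e)

set_option maxHeartbeats 800000 in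
/-- The local hypotheses. -/
noncomputable def loc : Loc geo z where
  perm := K.perm
  rad := K.rad
  xs := K.xs
  card := K.card
  perm_mul g h hg hh := by rw [K.perm_eq (hg.mul_right hh), K.perm_eq hg, K.perm_eq hh, K.lin_mul g h hg hh, map_mul]
  perm_eq_one g hg := by
    rw [K.perm_eq hg, map_eq_one_iff ptHom ptHom_injective]
    exact K.lin_one g hg
  perm_adj g hg p q := by rw [K.perm_eq hg]; exact adj_perm (ptHom_mem _) p q
  perm_tr g hg p := by rw [K.perm_eq hg]; exact tvP_conj (ptHom_mem _) p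
  trans p q := by
    obtain ⟨τ, hτ, e⟩ := exists_move p q
    obtain ⟨σ, rfl⟩ := exists_lin hτ
    obtain ⟨g, hg, rfl⟩ := K.lin_surj σ
    exact ⟨g, hg, by rw [K.perm_eq hg]; exact e⟩
  perm_invs g hg h2 h1 := by
    rw [K.perm_eq hg]
    refine mem_invs (ptHom_mem _) (by rw [← map_mul, K.lin_sq hg h2, map_one]) fun e => h1 ?_
    exact (K.lin_one g hg).1 (ptHom_injective (e.trans (map_one ptHom).symm))
  rad_le _ := fun _ ha => ha.1
  z_mem_rad _ := ⟨K.xs.mem, Or.inl K.nv_z⟩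
  rad_card p := by
    rw [← SetLike.coe_sort_coe, Nat.card_coe_set_eq]
    exact (K.pre_ncard {v | InLine p v}).trans (by rw [line_card p])
  rad_sq p x hx := (K.nv_sq x hx.1).2 (inLine_q hx.2)
  perp_card p := by
    have e : ((coreAt z ⊓ centralizer (K.rad p : Set G) : Subgroup G) : Set G) =
        {a | a ∈ coreAt z ∧ K.nv a ∈ {x : Vec | herm x (repC p) = 0}} := by
      ext a
      simp only [coe_inf, Set.mem_inter_iff, SetLike.mem_coe, Set.mem_ofPred_eq]
      refine and_congr_right fun ha => ?_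
      rw [← K.centralizer_rad p ha, mem_centralizer_iff]
      exact ⟨fun h r hr => (h r hr).symm, fun h r hr => (h r hr).eq.symm⟩
    rw [← SetLike.coe_sort_coe, Nat.card_coe_set_eq, e, K.pre_ncard, (perp_facts p).2]
  rad_conj g hg p x hx := by
    refine ⟨K.conj_core hg hx.1, ?_⟩
    rw [K.lin_conj g hg x hx.1, K.perm_eq hg]
    exact inLine_map hx.2
  rad_inf p q hpq x hp hq := by
    rw [← K.nv_zero hp.1]
    by_contra h
    exact hpq ((inLine_sing hp.2 h).2.symm.trans (inLine_sing hq.2 h).2)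
  rad_cover x hx h2 h1 hz := by
    have hs : Sing (K.nv x) := ⟨fun h => K.rad_nv_ne hx h1 hz (Fin.ext h), (K.nv_sq x hx).1 h2⟩
    exact ⟨pIdx (K.nv x), hx, inLine_of_sing hs⟩
  tr_comm_mem p g hg he a ha := by
    refine ⟨K.comm_mem hg ha, ?_⟩
    rw [K.perm_eq hg] at he
    rw [K.nv_comm hg ha, eq_tvV he]
    rcases ((tvC_check p).1 (K.nv a) (K.nv a).2).2.2.2 with h | h | h | h
    · left
      rw [show tvV p (K.nv a) = K.nv a from Fin.ext h, xorV_self]
    · exact Or.inr (Or.inl (Fin.ext h))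
    · exact Or.inr (Or.inr (Or.inl (Fin.ext h)))
    · exact Or.inr (Or.inr (Or.inr (Fin.ext h)))
  tr_ker p g hg he a ha := by
    rw [K.perm_eq hg] at he
    rw [K.comm_zpowers hg ha, eq_tvV he, K.centralizer_rad p ha, ← ((tvC_check p).1 (K.nv a) (K.nv a).2).2.2.1,
      Fin.ext_iff]
    rfl
  stab_fix p s hs h1 hz g hg hgs v hv := by
    refine K.conj_z hg hv.1 ?_
    exact inLine_fixed hs.2 (K.rad_nv_ne hs.1 h1 hz) (K.lin_fix hg hs.1 hgs) hv.2
  stab_elem p s hs h1 hz N hN hnor hsq := by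
    have hle : N ≤ centralizer ({z} : Set G) := hN.trans (centralizer_le (by simp))
    rw [K.perm_ncard N hle, Subgroup.card_map_of_injective ptHom_injective,
      ← Subgroup.card_map_of_injective (f := Lgrp.subtype) Lgrp.subtype_injective]
    have hsing : Sing (K.nv s) := (inLine_sing hs.2 (K.rad_nv_ne hs.1 h1 hz)).1
    refine stab_elem8 hsing ?_ ?_ ?_
    · rintro _ ⟨_, ⟨a, rfl⟩, rfl⟩
      exact ⟨(K.lin a).2, K.lin_fix (comm_of_le hle a.2) hs.1
        (show Commute s a from mem_centralizer_iff.1 (hN a.2) s (by simp))⟩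
    · rintro _ ⟨_, ⟨a, rfl⟩, rfl⟩
      exact congrArg Subtype.val (K.lin_sq (comm_of_le hle a.2) (hsq a a.2))
    · rintro σ hσ hfix _ ⟨_, ⟨a, rfl⟩, rfl⟩
      obtain ⟨g, hg, e⟩ := K.lift_fix hs.1 h1 hz (σ := ⟨σ, hσ⟩) hfix
      have hgz : Commute z g := (mem_centralizer_iff.1 hg z (by simp) : z * g = g * z)
      have hm : g * a * g⁻¹ ∈ N := (mem_normalizer_iff.1 (hnor hg) a).1 a.2
      refine ⟨K.lin (g * a * g⁻¹), ⟨⟨_, hm⟩, rfl⟩, ?_⟩
      have ha : Commute z (a : G) := comm_of_le hle a.2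
      have h1' : K.lin g * K.lin g⁻¹ = 1 := by
        rw [← K.lin_mul g g⁻¹ hgz hgz.inv_right, mul_inv_cancel]
        exact (K.lin_one 1 (Commute.one_right z)).2 (one_mem _)
      rw [K.lin_mul _ _ (hgz.mul_right ha) hgz.inv_right, K.lin_mul g a hgz ha, eq_inv_of_mul_eq_one_right h1', e]
      rfl
  stab_closure p s hs h1 hz W hW hWsq hzW hsW h8 hnor := by
    have hn := K.rad_nv_ne hs.1 h1 hz
    have hsing : Sing (K.nv s) := (inLine_sing hs.2 hn).1
    obtain ⟨x, hx, hx0, hxn⟩ : ∃ x ∈ W, K.nv x ≠ zeroV ∧ K.nv x ≠ K.nv s := by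
      by_contra hcon
      push Not at hcon
      have hsub : (W : Set G) ⊆ {a | a ∈ coreAt z ∧ K.nv a ∈ ({zeroV, K.nv s} : Set Vec)} := fun a ha =>
        ⟨hW ha, (em (K.nv a = zeroV)).elim Or.inl fun h => Or.inr (hcon a ha h)⟩
      have := Set.ncard_le_ncard hsub (Set.toFinite _)
      rw [K.pre_ncard, Set.ncard_pair (fun h => hn h.symm), ← Nat.card_coe_set_eq] at this
      have h8' : 8 ≤ Nat.card ((W : Set G) : Type _) := h8
      omega
    have hom : omV (K.nv s) ∈ K.nv '' (W : Set G) := by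
      refine close_line hsing (W := K.nv '' (W : Set G)) ?_ ?_ ?_ ⟨s, hsW, rfl⟩ ⟨x, hx, rfl⟩
        (fun h => hx0 (Fin.ext h)) hxn
      · rintro _ ⟨a, ha, rfl⟩
        exact (K.nv_sq a (hW ha)).1 (hWsq a ha)
      · rintro _ ⟨a, ha, rfl⟩ _ ⟨b, hb, rfl⟩
        exact ⟨a * b, mul_mem ha hb, K.nv_mul a (hW ha) b (hW hb)⟩
      · rintro σ hσ hfix _ ⟨a, ha, rfl⟩
        obtain ⟨g, hg, e⟩ := K.lift_fix hs.1 h1 hz (σ := ⟨σ, hσ⟩) hfix
        have hgz : Commute z g := (mem_centralizer_iff.1 hg z (by simp) : z * g = g * z)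
        exact ⟨g * a * g⁻¹, (mem_normalizer_iff.1 (hnor hg) a).1 ha, by rw [K.lin_conj g hgz a (hW ha), e]⟩
    intro a ha
    have hall : ∀ v, InLine p v → v ∈ K.nv '' (W : Set G) := by
      have h0 : zeroV ∈ K.nv '' (W : Set G) := ⟨1, one_mem W, K.nv_one⟩
      obtain ⟨b, hb, eb⟩ := hom
      have h3 : omV (omV (K.nv s)) ∈ K.nv '' (W : Set G) := by
        refine ⟨s * b, mul_mem hsW hb, ?_⟩
        rw [K.nv_mul s hs.1 b (hW hb), eb]
        apply xorV_eq_zero
        rw [show xorV (xorV (K.nv s) (omV (K.nv s))) (omV (omV (K.nv s))) =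
          xorV (K.nv s) (xorV (omV (K.nv s)) (omV (omV (K.nv s)))) from Fin.ext (Nat.xor_assoc _ _ _)]
        exact (omega_facts _).2
      have hn' : K.nv s ∈ K.nv '' (W : Set G) := ⟨s, hsW, rfl⟩
      have hb' : omV (K.nv s) ∈ K.nv '' (W : Set G) := ⟨b, hb, eb⟩
      intro v hv
      have o3 := (omega_facts (repV p)).1
      rcases hv with rfl | rfl | rfl | rfl
      · exact h0
      all_goals
        rcases hs.2 with e | e | e | e
        · exact absurd e hn
        all_goals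
          rw [e] at hn' hb' h3
          try simp only [o3] at hn' hb' h3
          assumption
    obtain ⟨w, hw, e⟩ := hall _ ha.2
    rcases (K.nv_eq w (hW hw) a ha.1).1 e with rfl | rfl
    exacts [hw, mul_mem hw hzW]
  elem_le N hN hsq := by
    rw [K.perm_ncard N hN]
    refine elem16 ?_ ?_
    · rintro _ ⟨σ, -, rfl⟩; exact ptHom_mem σ
    · rintro _ ⟨_, ⟨a, rfl⟩, rfl⟩
      show ptHom (K.lin a) * ptHom (K.lin a) = 1
      rw [← map_mul, K.lin_sq (comm_of_le hN a.2) (hsq a a.2), map_one]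
  tr_small p N hN hsq hc := by
    have hM : ∀ x ∈ (K.imgHom N hN).range.map ptHom, ∃ a ∈ N, Commute z a ∧ x = K.perm a := by
      rintro _ ⟨_, ⟨a, rfl⟩, rfl⟩
      exact ⟨a, a.2, comm_of_le hN a.2, (K.perm_eq (comm_of_le hN a.2)).symm⟩
    obtain ⟨h32, hcen⟩ := tr32 (p := p) (M := (K.imgHom N hN).range.map ptHom)
      (by rintro _ ⟨σ, -, rfl⟩; exact ptHom_mem σ)
      (fun x hx => by
        obtain ⟨a, ha, haz, rfl⟩ := hM x hx
        have := hsq a ha
        rwa [K.perm_eq (haz.mul_right haz), K.lin_mul a a haz haz, map_mul, ← K.perm_eq haz] at this)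
      (fun x hx => by obtain ⟨a, ha, -, rfl⟩ := hM x hx; exact hc a ha)
    refine ⟨(K.perm_ncard N hN).le.trans h32, fun h a ha hcom => ?_⟩
    refine hcen ((K.perm_ncard N hN).symm.trans h) _ ?_ fun x hx => ?_
    · rw [← SetLike.mem_coe, ← K.perm_image N hN]
      exact ⟨a, ha, rfl⟩
    · obtain ⟨b, hb, -, rfl⟩ := hM x hx
      exact hcom b hb
  other_comm t ht ht2 htJ hne a ha hcomm := by
    obtain ⟨γ, hγ, hσ⟩ := K.other_data ht ht2 htJ hne
    obtain ⟨hq, y, hy⟩ := other_fix hγ hσ ((K.comm_zpowers ht ha).1 hcomm)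
    obtain ⟨b, hb, rfl⟩ := K.nv_surj y
    refine ⟨(K.nv_sq a ha).2 hq, b, hb, ?_⟩
    rw [← K.nv_comm ht hb] at hy
    exact (K.nv_eq _ (K.comm_mem ht hb) a ha).1 hy
  other_card t ht ht2 htJ hne := by
    obtain ⟨γ, -, hσ⟩ := K.other_data ht ht2 htJ hne
    have e : {a | a ∈ coreAt z ∧ ⁅t, a⁆ ∈ zpowers z} =
        {a | a ∈ coreAt z ∧ K.nv a ∈ {x : Vec | (K.lin t).1 x = x}} := by
      ext a
      exact and_congr_right fun ha => K.comm_zpowers ht ha
    rw [e, K.pre_ncard]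
    have := other_count hσ
    omega
  other_pair t ht ht2 htJ hne W hW hzW hx hWt hnor := by
    obtain ⟨γ, hγ, hσ⟩ := K.other_data ht ht2 htJ hne
    obtain ⟨x, hxW, hxz⟩ := hx
    have hWnv : ∀ u, u ∈ coreAt z → K.nv u ∈ K.nv '' (W : Set G) → u ∈ W := fun u hu ⟨w, hw, e⟩ => by
      rcases (K.nv_eq w (hW hw) u hu).1 e with rfl | rfl
      exacts [hw, mul_mem hw hzW]
    obtain ⟨a, b, ha, hb, ha0, hb0, hab, hpol⟩ := other_wit hγ hσ (W := K.nv '' (W : Set G))
      (by rintro _ ⟨a, ha, rfl⟩ _ ⟨b, hb, rfl⟩; exact ⟨a * b, mul_mem ha hb, K.nv_mul a (hW ha) b (hW hb)⟩)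
      (by rintro _ ⟨a, ha, rfl⟩; exact (K.comm_zpowers ht (hW ha)).1 (hWt a ha))
      (by
        rintro σ hσ' hcomm _ ⟨a, ha, rfl⟩
        obtain ⟨g, hg, e⟩ := K.lin_surj ⟨σ, hσ'⟩
        have hcg : Commute (K.perm g) (K.perm t) := by
          rw [K.perm_eq hg, K.perm_eq ht]
          exact (show Commute (K.lin g) (K.lin t) from Subtype.ext (by
            rw [coe_mul, coe_mul, e]; exact hcomm)).map ptHom
        exact ⟨g * a * g⁻¹, (mem_normalizer_iff.1 (hnor g hg hcg) a).1 ha, by rw [K.lin_conj g hg a (hW ha), e]⟩)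
      (x := K.nv x) ⟨x, hxW, rfl⟩ (fun h => hxz ((K.nv_zero (hW hxW)).1 (Fin.ext h)))
    obtain ⟨a, haJ, rfl⟩ := K.nv_surj a
    obtain ⟨b, hbJ, rfl⟩ := K.nv_surj b
    rw [← K.nv_comm ht haJ] at ha ha0 hab
    rw [← K.nv_comm ht hbJ] at hb hb0 hab hpol
    have hA := K.comm_mem ht haJ
    have hB := K.comm_mem ht hbJ
    refine ⟨a, haJ, b, hbJ, hWnv _ hA ha, hWnv _ hB hb, fun h => ha0 ?_, fun h => hb0 ?_, fun h => hab ?_,
      (K.pol_comm haJ hB).2 hpol⟩
    · rw [(K.nv_zero hA).2 h]; rfl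
    · rw [(K.nv_zero hB).2 h]; rfl
    · exact xorV_eq_zero ((K.nv_mul _ hA _ hB).symm.trans ((K.nv_zero (mul_mem hA hB)).2 h))

end Crd

/-- The local hypotheses from the hypotheses on the centralizer. -/
theorem exists_loc {z : G} (hz : orderOf z = 2) {F : Type*} [Field F] [Fintype F] (hF : Fintype.card F = 3)
    (hJ : Cfsg.IsExtraspecial 2 ↥(Cfsg.pCore 2 ↥(centralizer ({z} : Set G))))
    (hJc : Nat.card ↥(Cfsg.pCore 2 ↥(centralizer ({z} : Set G))) = 2 ^ 9)
    (hCJ : centralizer ((Cfsg.pCore 2 ↥(centralizer ({z} : Set G))) : Set ↥(centralizer ({z} : Set G))) ≤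
      Cfsg.pCore 2 ↥(centralizer ({z} : Set G)))
    [hJn : (Cfsg.pCore 2 ↥(centralizer ({z} : Set G))).Normal]
    (e : (↥(centralizer ({z} : Set G)) ⧸ Cfsg.pCore 2 ↥(centralizer ({z} : Set G))) ≃* Cfsg.PSp 2 F)
    (hfix : ∀ x ∈ coreAt z, (∀ g : G, Commute z g → g * x * g⁻¹ = x ∨ g * x * g⁻¹ = x * z) → x = 1 ∨ x = z) :
    Nonempty (Loc geo z) :=
  let ⟨K⟩ := exists_crd hz hF hJ hJc hCJ e hfix
  ⟨K.loc⟩

end Cfsg.Agent.U62Rec.Model
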