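import Cfsg.Agent.Lib.U62Rec.Model.Checks

/-! Kernel checks on the transvections of the 45 points. -/

set_option autoImplicit false
set_option maxRecDepth 100000

namespace Cfsg.Agent.U62Rec.Model

open Cfsg.Agent.PermCert

/-- The relations between two transvections. -/
def tvPairOK : Bool :=
  distinctKeys (tvPts.map fun e => canon e.1) &&
  allBelow (fun p => allBelow (fun q =>
    bif Nat.beq p q || adjB p q then Nat.beq (get 6 (tvElt p).1 q) q
    else
      let m := comp 6 45 (tvElt p).1 (tvElt q).1
      Nat.beq (canon (comp 6 45 m (comp 6 45 m m))) (canon (idCode 6 45))) 45) 45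

theorem tvPair_ok : tvPairOK = true := by decide +kernel

end Cfsg.Agent.U62Rec.Model
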