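import Cfsg.Agent.Lib.U62Rec.Model.Points
import Cfsg.Agent.Lib.U62Rec.Model.GeoChecks
import Cfsg.Agent.Lib.U62Rec.Local

/-!
The involutions on the 45 points and the facts about the quotient used by the recognition.
-/

set_option autoImplicit false
set_option maxRecDepth 20000

namespace Cfsg.Agent.U62Rec.Model

open Cfsg.Agent.PermCert

/-- The permutations of involutions. -/
def invs : Finset (Equiv.Perm Pt) := (invList.map (toPerm 6 45)).toFinset

theorem mem_invs_iff {g : Equiv.Perm Pt} : g ∈ invs ↔ ∃ e ∈ invList, toPerm 6 45 e = g := by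
  simp [invs, List.mem_toFinset, List.mem_map]

theorem invs_card : invs.card ≤ 315 := by
  refine (List.toFinset_card_le _).trans ?_
  rw [List.length_map, invList, List.length_append, lengths.2.2.2.2.2.1, lengths.2.2.2.2.2.2.2]

theorem invList_cases {e : Elt} (he : e ∈ invList) :
    validElt 6 45 e = true ∧ ((∃ p, toPerm 6 45 e = tvP p) ∨
      ∃ p q, adjP p q ∧ toPerm 6 45 e = tvP p * tvP q) := by
  rcases List.mem_append.1 he with h | h
  · obtain ⟨i, hi, rfl⟩ := List.getElem_of_mem h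
    have hi' : i < 45 := lengths.2.2.2.2.2.1 ▸ hi
    have e' : tvElt i = tvPts[i] := List.getD_eq_getElem _ _ hi
    exact ⟨e' ▸ (tv_check ⟨i, hi'⟩).1, Or.inl ⟨⟨i, hi'⟩, (congrArg (toPerm 6 45) e').symm⟩⟩
  · obtain ⟨i, hi, rfl⟩ := List.getElem_of_mem h
    have hi' : i < 270 := lengths.2.2.2.2.2.2.2 ▸ hi
    have e' : prodElt i = prodPts[i] := List.getD_eq_getElem _ _ hi
    obtain ⟨a, b, -, -, -, hadj, hr, -⟩ := prod_check i hi'
    have hv : validElt 6 45 (prodElt i) = true := by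
      have := prod_ok
      simp only [prodOK, Bool.and_eq_true] at this
      have h := allBelow_spec _ _ this.1.1 i hi'
      simp only [Bool.and_eq_true] at h
      exact h.1.1.1.1.1.1.1.1.1
    exact ⟨e' ▸ hv, Or.inr ⟨a, b, hadj, (congrArg (toPerm 6 45) e').symm.trans (rep_unique (rep_toPerm hv) hr)⟩⟩

theorem invs_cases {g : Equiv.Perm Pt} (hg : g ∈ invs) :
    (∃ p, g = tvP p) ∨ ∃ p q, adjP p q ∧ g = tvP p * tvP q := by
  obtain ⟨e, he, rfl⟩ := mem_invs_iff.1 hg
  exact (invList_cases he).2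

theorem tvP_mem_invs (p : Pt) : tvP p ∈ invs :=
  mem_invs_iff.2 ⟨tvElt p, List.mem_append.2 (Or.inl (by
    rw [tvElt, List.getD_eq_getElem _ _ (by rw [lengths.2.2.2.2.2.1]; exact p.2)]
    exact List.getElem_mem _)), rfl⟩

theorem prod_mem_invs {p q : Pt} (h : adjP p q) : tvP p * tvP q ∈ invs := by
  obtain ⟨k, hk, hr, -⟩ := exists_pair h
  have hm : prodElt k ∈ prodPts := by
    rw [prodElt, List.getD_eq_getElem _ _ (by rw [lengths.2.2.2.2.2.2.2]; exact hk)]
    exact List.getElem_mem _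
  have hv := (invList_cases (List.mem_append.2 (Or.inr hm))).1
  exact mem_invs_iff.2 ⟨_, List.mem_append.2 (Or.inr hm), rep_unique (rep_toPerm hv) hr⟩

theorem invs_conj {g s : Equiv.Perm Pt} (hg : g ∈ Grp) (hs : s ∈ invs) : g * s * g⁻¹ ∈ invs := by
  rcases invs_cases hs with ⟨p, rfl⟩ | ⟨p, q, h, rfl⟩
  · rw [tvP_conj hg]; exact tvP_mem_invs _
  · rw [show g * (tvP p * tvP q) * g⁻¹ = (g * tvP p * g⁻¹) * (g * tvP q * g⁻¹) from by group, tvP_conj hg,
      tvP_conj hg]
    exact prod_mem_invs ((adj_perm hg p q).2 h)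

/-- The canonical code of a permutation. -/
def canon' (s : Equiv.Perm Pt) : ℕ := pack 6 (fun i => if h : i < 45 then (s ⟨i, h⟩ : ℕ) else 0) 45

theorem canon'_eq {a : Elt} {s : Equiv.Perm Pt} (h : Rep 6 a s) : canon' s = canon a.1 :=
  pack_congr fun i hi => by
    simp only [dif_pos hi, get_idCode 6 45 i (by norm_num) hi]
    exact (h ⟨i, hi⟩).1.symm

theorem syl_spec : Finite Grp ∧ ∃ S : Sylow 2 Grp, ∀ x : Grp, x ∈ S →
    ∃ a ∈ sylPts, toPerm 6 45 a = x := by
  refine ⟨inferInstance, ?_⟩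
  have := syl_ok
  simp only [sylOK, Bool.and_eq_true, List.all_eq_true, List.any_eq_true, Nat.beq_eq] at this
  obtain ⟨⟨⟨hlen, hnd⟩, hall⟩, a1, ha1, ha1'⟩ := this
  let K : Set Grp := {x | ∃ a ∈ sylPts, toPerm 6 45 a = x}
  have rp : ∀ a ∈ sylPts, Rep 6 a (toPerm 6 45 a) := fun a ha => rep_toPerm (hall a ha).1.1.1
  let S0 : Submonoid Grp :=
    { carrier := K
      one_mem' := ⟨a1, ha1, rep_eq_code (rp a1 ha1) (rep_one (by norm_num)) ha1'⟩
      mul_mem' := by
        rintro x y ⟨a, ha, hx⟩ ⟨b, hb, hy⟩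
        obtain ⟨c, hc, hcb⟩ := (hall a ha).1.2 b hb
        refine ⟨c, hc, ?_⟩
        rw [Subgroup.coe_mul, ← hx, ← hy]
        exact rep_eq_code (rp c hc) (rep_mul (rp a ha) (rp b hb)) hcb }
  let H : Subgroup Grp :=
    { S0 with
      inv_mem' := fun {x} hx => Submonoid.powers_le.2 hx (mem_powers_iff_mem_zpowers.2
        (Subgroup.inv_mem _ (Subgroup.mem_zpowers x))) }
  have hcard : Nat.card H = 64 := by
    classical
    let f : H → Equiv.Perm Pt := fun x => x.1.1
    have hf : Set.range f = ((sylPts.map (toPerm 6 45)).toFinset : Set (Equiv.Perm Pt)) := by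
      ext s
      simp only [Set.mem_range, List.coe_toFinset, Set.mem_ofPred_eq, List.mem_map]
      constructor
      · rintro ⟨⟨x, a, ha, e⟩, rfl⟩; exact ⟨a, ha, e⟩
      · rintro ⟨a, ha, rfl⟩
        exact ⟨⟨⟨_, cert_mem pt_cert (hall a ha).1.1.1 (hall a ha).1.1.2⟩, a, ha, rfl⟩, rfl⟩
    rw [← Nat.card_range_of_injective (f := f) (fun x y h => Subtype.ext (Subtype.ext h)), hf,
      Nat.card_coe_set_eq, Set.ncard_coe_finset, List.toFinset_card_of_nodup, List.length_map, hlen]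
    refine (List.Nodup.of_map canon' ?_)
    rw [List.map_map]
    convert distinctKeys_spec _ hnd using 1
    refine List.map_congr_left fun a ha => ?_
    exact canon'_eq (rp a ha)
  haveI : Fact (Nat.Prime 2) := ⟨Nat.prime_two⟩
  refine ⟨Sylow.ofCard H ?_, fun x hx => hx⟩
  rw [hcard, card_Grp, show (25920 : ℕ) = 2 ^ 6 * 405 from rfl, Nat.factorization_mul (by norm_num) (by norm_num),
    Nat.Prime.factorization_pow Nat.prime_two]
  simp [Nat.factorization_eq_zero_of_not_dvd (show ¬ 2 ∣ 405 by norm_num)]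

theorem mem_invs {g : Equiv.Perm Pt} (hg : g ∈ Grp) (h2 : g * g = 1) (h1 : g ≠ 1) : g ∈ invs := by
  obtain ⟨-, S, hS⟩ := syl_spec
  haveI : Fact (Nat.Prime 2) := ⟨Nat.prime_two⟩
  let x : Grp := ⟨g, hg⟩
  have hx2 : x ^ 2 = 1 := Subtype.ext (by rw [sq]; exact h2)
  have hP : IsPGroup 2 (Subgroup.zpowers x) := by
    rintro ⟨y, hy⟩
    obtain ⟨k, rfl⟩ := hy
    refine ⟨1, Subtype.ext ?_⟩
    show (x ^ k) ^ 2 = 1
    rw [← zpow_natCast, ← zpow_mul, mul_comm, zpow_mul, zpow_natCast, hx2, one_zpow]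
  obtain ⟨Q, hQ⟩ := hP.exists_le_sylow
  obtain ⟨c, hc⟩ := MulAction.exists_smul_eq Grp S Q
  obtain ⟨y, hy, hyx⟩ : ∃ y ∈ S, c * y * c⁻¹ = x := by
    have hxQ := hQ (Subgroup.mem_zpowers x)
    rw [← hc] at hxQ
    obtain ⟨y, hy, hyx⟩ := hxQ
    exact ⟨y, hy, hyx⟩
  obtain ⟨a, ha, hay⟩ := hS y hy
  have hyx' : (c : Equiv.Perm Pt) * y * (c : Equiv.Perm Pt)⁻¹ = g := congrArg Subtype.val hyx
  rw [← hyx']
  refine invs_conj c.2 ?_
  have := syl_ok
  simp only [sylOK, Bool.and_eq_true, List.all_eq_true] at this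
  have h := (this.1.2 a ha).2
  have hr := rep_toPerm (this.1.2 a ha).1.1.1
  rw [hay] at hr
  have hy2 : (y : Equiv.Perm Pt) * y = 1 := by
    have : x * x = 1 := by rw [← sq, hx2]
    rw [← hyx, show c * y * c⁻¹ * (c * y * c⁻¹) = c * (y * y) * c⁻¹ from by group, mul_inv_eq_one,
      mul_eq_left] at this
    exact congrArg Subtype.val this
  have hy1 : (y : Equiv.Perm Pt) ≠ 1 := fun e => h1 (by rw [← hyx', e, mul_one, mul_inv_cancel])
  have hm := rep_mul hr hr
  rw [hy2] at hm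
  have hsq : Nat.beq (comp 6 45 a.1 a.1) (idCode 6 45) = true := by
    rw [Nat.beq_eq]
    refine pack_congr fun i hi => ?_
    have := (hm ⟨i, hi⟩).1
    simp only [mul, get_comp _ _ _ _ _ hi] at this
    rw [this]
    rfl
  simp only [hsq, Bool.not_true, Bool.false_or, Bool.or_eq_true, List.any_eq_true, Nat.beq_eq] at h
  rcases h with h | ⟨e, he, hee⟩
  · exact absurd (rep_eq_code hr (rep_one (by norm_num)) h) hy1
  · exact mem_invs_iff.2 ⟨e, he, rep_eq_code (rep_toPerm (invList_cases he).1) hr hee⟩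

theorem fix_check {s : Equiv.Perm Pt} (hs : s ∈ invs) :
    (Finset.univ.filter fun p => s p = p).card ≤ 13 ∧
      ∀ p, s p = p → {q | s q = q ∧ q ≠ p ∧ ¬ adjP p q}.ncard ≤ 8 := by
  obtain ⟨e, he, rfl⟩ := mem_invs_iff.1 hs
  have hr := rep_toPerm (invList_cases he).1
  have h := List.all_eq_true.1 fix_ok e he
  simp only [Bool.and_eq_true, Nat.ble_eq, List.all_eq_true, List.mem_filter, List.mem_range, Nat.beq_eq] at h
  have key : ∀ p : Pt, toPerm 6 45 e p = p ↔ Nat.beq (get 6 e.1 p) p = true := fun p => by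
    rw [Nat.beq_eq, (hr p).1, Fin.ext_iff]
  constructor
  · refine le_trans (le_of_eq ?_) h.1
    rw [← Set.ncard_coe_finset, Finset.coe_filter]
    simp only [Finset.mem_univ, true_and]
    rw [ncard_eq_countP (fun p => toPerm 6 45 e p = p) (fun i => Nat.beq (get 6 e.1 i) i) key,
      List.countP_eq_length_filter]
  · intro p hp
    refine le_trans (le_of_eq ?_) (h.2 p ⟨p.2, by have := key p; rw [Nat.beq_eq] at this; exact this.1 hp⟩)
    rw [ncard_eq_countP (fun q => toPerm 6 45 e q = q ∧ q ≠ p ∧ ¬ adjP p q)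
      (fun i => Nat.beq (get 6 e.1 i) i && (!Nat.beq i p && !adjB p i))]
    · rw [List.countP_filter]
      congr 1
      funext i
      rw [Bool.and_comm]
    · intro q
      rw [key q]
      simp [adjP, Fin.ext_iff, ← Bool.not_eq_true, Nat.beq_eq]

theorem tvP_inj : Function.Injective tvP := by
  intro p q h
  have := tvPair_ok
  simp only [tvPairOK, Bool.and_eq_true] at this
  have hnd := distinctKeys_spec _ this.1
  have hl : tvPts.length = 45 := lengths.2.2.2.2.2.1
  have e : ∀ r : Pt, (tvPts.map fun e => canon e.1)[(r : ℕ)]'(by simp [hl, r.2]) = canon (tvElt r).1 := fun r => by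
    rw [List.getElem_map, tvElt, List.getD_eq_getElem]
  have hpq : (tvPts.map fun e => canon e.1)[(p : ℕ)]'(by simp [hl, p.2]) =
      (tvPts.map fun e => canon e.1)[(q : ℕ)]'(by simp [hl, q.2]) := by
    rw [e, e]; exact canon_eq (rep_tv p) (h ▸ rep_tv q)
  exact Fin.ext ((List.Nodup.getElem_inj_iff hnd).1 hpq)

theorem tvP_fix {p q : Pt} (h : p = q ∨ adjP p q) : tvP p q = q := by
  have := tvPair_ok
  simp only [tvPairOK, Bool.and_eq_true] at this
  have h1 := allBelow_spec _ _ (allBelow_spec _ _ this.2 p p.2) q q.2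
  have hc : (Nat.beq p q || adjB p q) = true := by
    rcases h with rfl | h
    · simp [Nat.beq_refl]
    · simp [show adjB p q = true from h]
  rw [hc, cond_true, Nat.beq_eq, (rep_tv p q).1] at h1
  exact Fin.ext h1

theorem tvP_three {p q : Pt} (hne : p ≠ q) (h : ¬ adjP p q) :
    (tvP p * tvP q) ^ 3 = 1 ∧ tvP p * tvP q ≠ 1 := by
  refine ⟨?_, fun e => hne (tvP_inj (mul_eq_one_iff_eq_inv.1 e |>.trans
    (inv_eq_of_mul_eq_one_right (tvP_sq q))))⟩
  have := tvPair_ok
  simp only [tvPairOK, Bool.and_eq_true] at this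
  have h1 := allBelow_spec _ _ (allBelow_spec _ _ this.2 p p.2) q q.2
  have hc : (Nat.beq p q || adjB p q) = false := by
    rw [Bool.or_eq_false_iff, ← Bool.not_eq_true, ← Bool.not_eq_true, Nat.beq_eq]
    exact ⟨fun e => hne (Fin.ext e), h⟩
  rw [hc, cond_false, Nat.beq_eq] at h1
  have hm := rep_mul (rep_tv p) (rep_tv q)
  have h3 := rep_mul hm (rep_mul hm hm)
  have hone : Rep 6 (one 6 45) (1 : Equiv.Perm Pt) := rep_one (by norm_num)
  refine Equiv.ext fun i => Fin.ext ?_
  rw [pow_succ', pow_two, ← (h3 i).1, ← (hone i).1]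
  have := congrArg (fun c => get 6 c i) h1
  simp only [canon, get_comp _ _ _ _ _ i.2, get_idCode 6 45 i (by norm_num) i.2] at this
  simpa [mul, one, get_comp _ _ _ _ _ i.2, get_idCode 6 45 i (by norm_num) i.2] using this

theorem comm_iff {p q : Pt} (hne : p ≠ q) : Commute (tvP p) (tvP q) ↔ adjP p q := by
  refine ⟨fun hc => by_contra fun h => ?_, fun h => tv_comm h⟩
  obtain ⟨h3, hne1⟩ := tvP_three hne h
  have h2 : (tvP p * tvP q) ^ 2 = 1 := by rw [hc.mul_pow, pow_two, tvP_sq, pow_two, tvP_sq, mul_one]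
  exact hne1 (by rwa [pow_succ, h2, one_mul] at h3)

/-- The facts about the quotient. -/
def geo : Geo Pt where
  adj := adjP
  tr := tvP
  invs := invs
  invs_card := invs_card
  fix_card := fun s hs => (fix_check hs).1
  fix_far := fun s hs => (fix_check hs).2
  card_P := Fintype.card_fin 45
  adj_symm := fun _ _ => adj_symm
  adj_irrefl := adj_irrefl
  adj_card := adj_card
  common := common
  connected := connected
  tr_sq := tvP_sq
  tr_ne_one := tvP_ne_one
  tr_inj := tvP_inj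
  tr_fix := fun _ _ => tvP_fix
  tr_comm := fun _ _ h => tv_comm h
  tr_three := fun _ _ => tvP_three
  tr_mul_ne := fun _ _ _ hne hc => prod_ne_tv ((comm_iff hne).1 hc)

end Cfsg.Agent.U62Rec.Model
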