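import Cfsg.Agent.Lib.U62Rec.Model.Data

/-!
Arithmetic of the natural module of the unitary group in dimension four over four elements: a vector is a
natural number below 256, two bits for a coordinate, the first the coefficient of one and the second that
of `ω`.
-/

set_option autoImplicit false

namespace Cfsg.Agent.U62Rec.Model

open Cfsg.Agent.PermCert

/-- Multiplication by `ω`. -/
def omC (v : ℕ) : ℕ :=
  Nat.lor (Nat.land (Nat.shiftRight v 1) 85)
    (Nat.shiftLeft (Nat.land (Nat.xor (Nat.shiftRight v 1) v) 85) 1)

/-- A coordinate. -/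
def coord (v i : ℕ) : ℕ := Nat.land (Nat.shiftRight v (2 * i)) 3

/-- The scalar multiple. -/
def smul (c v : ℕ) : ℕ :=
  Nat.xor (bif Nat.beq (c % 2) 1 then v else 0) (bif Nat.ble 2 c then omC v else 0)

/-- Conjugation of four elements. -/
def conj4 (a : ℕ) : ℕ := Nat.xor a (bif Nat.ble 2 a then 1 else 0)

/-- The product of two field elements. -/
def fmul (a b : ℕ) : ℕ := Nat.land (smul a b) 3

/-- One term of the hermitian form. -/
def hterm (u v i : ℕ) : ℕ := fmul (coord u i) (conj4 (coord v i))

/-- The hermitian form. -/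
def herm (u v : ℕ) : ℕ :=
  Nat.xor (Nat.xor (hterm u v 0) (hterm u v 1)) (Nat.xor (hterm u v 2) (hterm u v 3))

/-- The quadratic form `h(v, v)`. -/
def q0 (v : ℕ) : ℕ := herm v v

/-- One term of a linear map. -/
def colTerm (cols : List ℕ) (v j : ℕ) : ℕ := bif v.testBit j then cols.getD j 0 else 0

/-- The linear map with the given images of the basis. -/
def linC (cols : List ℕ) (v : ℕ) : ℕ :=
  Nat.xor
    (Nat.xor (Nat.xor (colTerm cols v 0) (colTerm cols v 1)) (Nat.xor (colTerm cols v 2) (colTerm cols v 3)))
    (Nat.xor (Nat.xor (colTerm cols v 4) (colTerm cols v 5)) (Nat.xor (colTerm cols v 6) (colTerm cols v 7)))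

/-- A non-zero singular vector. -/
def singB (v : ℕ) : Bool := !Nat.beq v 0 && Nat.beq (q0 v) 0

/-- The chosen vector of a point. -/
def repC (p : ℕ) : ℕ := repList.getD p 0

/-- The point of a singular vector. -/
def ptIdx (v : ℕ) : ℕ :=
  repList.findIdx fun r => Nat.beq r v || Nat.beq r (omC v) || Nat.beq r (omC (omC v))

/-- The transvection with centre the given point. -/
def tvC (p x : ℕ) : ℕ := Nat.xor x (smul (herm x (repC p)) (repC p))

/-- Orthogonality of points. -/
def adjB (p q : ℕ) : Bool := (adjMasks.getD p 0).testBit q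

/-- The six generators on the points. -/
def ptElt (j : ℕ) : Elt := ptGens.getD j (0, 0)

/-- The six generators on the vectors. -/
def linElt (j : ℕ) : Elt := linGens.getD j (0, 0)

/-- The columns of a generator. -/
def colsOf (j : ℕ) : List ℕ := genCols.getD j []

theorem linC_xor (cols : List ℕ) (a b : ℕ) : linC cols (Nat.xor a b) = Nat.xor (linC cols a) (linC cols b) := by
  have key : ∀ j, colTerm cols (a ^^^ b) j = colTerm cols a j ^^^ colTerm cols b j := fun j => by
    simp only [colTerm]
    show (bif (a ^^^ b).testBit j then cols.getD j 0 else (0 : ℕ)) =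
      (bif a.testBit j then cols.getD j 0 else (0 : ℕ)) ^^^ (bif b.testBit j then cols.getD j 0 else (0 : ℕ))
    rw [Nat.testBit_xor]
    cases a.testBit j <;> cases b.testBit j <;> simp
  have hx : ∀ x y : ℕ, Nat.xor x y = x ^^^ y := fun _ _ => rfl
  simp only [linC, hx, key]
  ac_rfl

end Cfsg.Agent.U62Rec.Model
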