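import Cfsg.Agent.Lib.U62Rec.Model.Defs

/-!
Kernel checks on the coded model of the unitary group in dimension four over four elements.
-/

set_option autoImplicit false
set_option maxRecDepth 100000

namespace Cfsg.Agent.U62Rec.Model

open Cfsg.Agent.PermCert

theorem pt_cert : checkCert 6 45 ptGens ptDerived ptLevels = true := by decide +kernel
theorem pt_order : certOrder ptLevels = 25920 := by decide +kernel
theorem lin_cert : checkCert 8 256 linGens linDerived linLevels = true := by decide +kernel
theorem lin_order : certOrder linLevels = 25920 := by decide +kernel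
theorem stab_cert : checkCert 8 256 stabGens stabDerived stabLevels = true := by decide +kernel
theorem stab_order : certOrder stabLevels = 192 := by decide +kernel

/-- The generators on the vectors are the linear maps, commute with `ω` and preserve the forms. -/
def genLinOK : Bool :=
  allBelow (fun j =>
    validElt 8 256 (linElt j) && validElt 6 45 (ptElt j) &&
    allBelow (fun v => Nat.beq (get 8 (linElt j).1 v) (linC (colsOf j) v) &&
      Nat.beq (linC (colsOf j) (omC v)) (omC (linC (colsOf j) v)) &&
      Nat.beq (q0 (linC (colsOf j) v)) (q0 v)) 256 &&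
    allBelow (fun a => allBelow (fun b =>
      Nat.beq (herm (linC (colsOf j) (2 ^ a)) (linC (colsOf j) (2 ^ b))) (herm (2 ^ a) (2 ^ b))) 8) 8) 6

theorem genLin_ok : genLinOK = true := by decide +kernel

theorem lengths : linGens.length = 6 ∧ ptGens.length = 6 ∧ genCols.length = 6 ∧ repList.length = 45 ∧
    adjMasks.length = 45 ∧ tvPts.length = 45 ∧ pairList.length = 270 ∧ prodPts.length = 270 := by
  decide +kernel

/-- The chosen vectors represent the singular lines. -/
def repsOK : Bool :=
  allBelow (fun v => Nat.beq (omC (omC (omC v))) v && Nat.beq (Nat.xor v (Nat.xor (omC v) (omC (omC v)))) 0 &&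
    (!singB v || (singB (omC v) && Nat.blt (ptIdx v) 45 && Nat.beq (ptIdx (omC v)) (ptIdx v) &&
      (Nat.beq v (repC (ptIdx v)) || Nat.beq v (omC (repC (ptIdx v))) ||
        Nat.beq v (omC (omC (repC (ptIdx v)))))))) 256 &&
  allBelow (fun p => singB (repC p) && Nat.beq (ptIdx (repC p)) p && Nat.blt (repC p) 256) 45

theorem reps_ok : repsOK = true := by decide +kernel

/-- The point generators are induced by the linear ones. -/
def inducedOK : Bool :=
  allBelow (fun j => allBelow (fun p =>
    Nat.beq (get 6 (ptElt j).1 p) (ptIdx (linC (colsOf j) (repC p)))) 45) 6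

theorem induced_ok : inducedOK = true := by decide +kernel

/-- The orthogonality table. -/
def adjOK : Bool :=
  allBelow (fun p => allBelow (fun q =>
    (adjB p q == (!Nat.beq p q && Nat.beq (herm (repC p) (repC q)) 0)) && (adjB p q == adjB q p)) 45 &&
    Nat.beq ((List.range 45).countP (adjB p)) 12 &&
    allBelow (fun q => Nat.beq p q || adjB p q ||
      Nat.ble 3 ((List.range 45).countP fun r => adjB p r && adjB q r)) 45) 45 &&
  allBelow (fun j => allBelow (fun p => allBelow (fun q =>
    adjB (get 6 (ptElt j).1 p) (get 6 (ptElt j).1 q) == adjB p q) 45) 45) 6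

theorem adj_ok : adjOK = true := by decide +kernel

/-- The canonical code of a permutation of the points. -/
def canon (a : ℕ) : ℕ := comp 6 45 a (idCode 6 45)

/-- The code of a transvection on the points. -/
def tvElt (p : ℕ) : Elt := tvPts.getD p (0, 0)

/-- The code of a product of transvections. -/
def prodElt (k : ℕ) : Elt := prodPts.getD k (0, 0)

/-- The pair of a product. -/
def pairOf (k : ℕ) : ℕ × ℕ := pairList.getD k (0, 0)

/-- The transvections. -/
def tvOK : Bool :=
  allBelow (fun p =>
    validElt 6 45 (tvElt p) && Nat.beq (tvElt p).1 (tvElt p).2 && !Nat.beq (canon (tvElt p).1) (canon (idCode 6 45)) &&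
    sift 6 45 ptLevels (tvElt p).1 &&
    allBelow (fun x => Nat.blt (tvC p x) 256 && Nat.beq (tvC p (tvC p x)) x &&
      (Nat.beq (tvC p x) x == Nat.beq (herm x (repC p)) 0) &&
      (Nat.beq (tvC p x) x || Nat.beq (Nat.xor x (tvC p x)) (repC p) ||
        Nat.beq (Nat.xor x (tvC p x)) (omC (repC p)) || Nat.beq (Nat.xor x (tvC p x)) (omC (omC (repC p))))) 256 &&
    allBelow (fun q => Nat.beq (get 6 (tvElt p).1 q) (ptIdx (tvC p (repC q)))) 45 &&
    sift 8 256 linLevels (pack 8 (tvC p) 256) &&
    allBelow (fun j => Nat.beq (comp 6 45 (comp 6 45 (ptElt j).1 (tvElt p).1) (ptElt j).2)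
      (tvElt (get 6 (ptElt j).1 p)).1) 6) 45 &&
  ((List.range 45).all fun p => ptLevels.headD (0, [], []) |>.2.2.any fun t =>
    Nat.beq t.1 p && Nat.beq (get 6 t.2.1.1 0) p && validElt 6 45 t.2.1 && sift 6 45 ptLevels t.2.1.1)

theorem tv_ok : tvOK = true := by decide +kernel

/-- The products of orthogonal transvections. -/
def prodOK : Bool :=
  allBelow (fun k =>
    let a := (pairOf k).1
    let b := (pairOf k).2
    validElt 6 45 (prodElt k) && Nat.blt a b && Nat.blt b 45 && adjB a b &&
      Nat.beq (prodElt k).1 (comp 6 45 (tvElt a).1 (tvElt b).1) &&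
      Nat.beq (prodElt k).1 (comp 6 45 (tvElt b).1 (tvElt a).1) &&
      Nat.beq (prodElt k).1 (prodElt k).2 && !Nat.beq (canon (prodElt k).1) (canon (idCode 6 45)) &&
      (tvPts.all fun t => !Nat.beq (canon t.1) (canon (prodElt k).1)) &&
      allBelow (fun j => (pairList.findIdx fun ab =>
          Nat.beq ab.1 (Nat.min (get 6 (ptElt j).1 a) (get 6 (ptElt j).1 b)) &&
          Nat.beq ab.2 (Nat.max (get 6 (ptElt j).1 a) (get 6 (ptElt j).1 b))) < 270) 6) 270 &&
  distinctKeys (prodPts.map fun e => canon e.1) &&
  allBelow (fun a => allBelow (fun b => !(Nat.blt a b && adjB a b) ||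
    pairList.any fun ab => Nat.beq ab.1 a && Nat.beq ab.2 b) 45) 45

theorem prod_ok : prodOK = true := by decide +kernel

/-- The products are connected under conjugation by the generators. -/
def treeOK : Bool :=
  Nat.beq prodTree.length 270 && Nat.beq (prodTree.headD (1, 0, 0)).1 0 &&
    allBelow (fun i => prodTree.any fun t => Nat.beq t.1 i) 270 &&
    allBelow (fun i => Nat.beq i 0 ||
      let t := prodTree.getD i (0, 0, 0)
      Nat.blt t.2.1 i && Nat.blt t.2.2 6 &&
        Nat.beq (prodElt t.1).1
          (comp 6 45 (comp 6 45 (ptElt t.2.2).1 (prodElt (prodTree.getD t.2.1 (0, 0, 0)).1).1) (ptElt t.2.2).2)) 270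

theorem tree_ok : treeOK = true := by decide +kernel

/-- The involutions on the points. -/
def invList : List Elt := tvPts ++ prodPts

/-- Fixed points of the involutions. -/
def fixOK : Bool :=
  invList.all fun e =>
    let F := (List.range 45).filter fun p => Nat.beq (get 6 e.1 p) p
    Nat.ble F.length 13 && F.all fun p => Nat.ble (F.countP fun q => !Nat.beq q p && !adjB p q) 8

theorem fix_ok : fixOK = true := by decide +kernel

/-- A Sylow 2-subgroup, with all its involutions listed. -/
def sylOK : Bool :=
  Nat.beq sylPts.length 64 && distinctKeys (sylPts.map fun e => canon e.1) &&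
    (sylPts.all fun a => validElt 6 45 a && sift 6 45 ptLevels a.1 &&
      (sylPts.all fun b => sylPts.any fun c => Nat.beq c.1 (comp 6 45 a.1 b.1)) &&
      (!Nat.beq (comp 6 45 a.1 a.1) (idCode 6 45) || Nat.beq a.1 (idCode 6 45) ||
        invList.any fun t => Nat.beq t.1 a.1)) &&
    sylPts.any fun a => Nat.beq a.1 (idCode 6 45)

theorem syl_ok : sylOK = true := by decide +kernel

/-- The stabiliser of the vector 5 and its core. -/
def coreOK : Bool :=
  Nat.beq (linLevels.headD (0, [], [])).1 5 && Nat.beq (linLevels.headD (0, [], [])).2.2.length 135 &&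
    Nat.beq ((List.range 256).countP singB) 135 &&
    (stabGens.all fun g => validElt 8 256 g && sift 8 256 linLevels g.1 && Nat.beq (get 8 g.1 5) 5) &&
    Nat.beq coreLin.length 32 && distinctKeys (coreLin.map fun e => comp 8 256 e.1 (idCode 8 256)) &&
    (coreLin.all fun a => validElt 8 256 a && sift 8 256 stabLevels a.1 &&
      (coreLin.all fun b => coreLin.any fun c => Nat.beq c.1 (comp 8 256 a.1 b.1)) &&
      (stabGens.all fun g => coreLin.any fun c =>
        Nat.beq c.1 (comp 8 256 (comp 8 256 g.1 a.1) g.2))) &&
    (coreLin.any fun a => Nat.beq a.1 (idCode 8 256)) &&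
    (let x := stabPair.1; let y := stabPair.2; let xy := mul 8 256 x y
     validElt 8 256 x && validElt 8 256 y && sift 8 256 stabLevels x.1 && sift 8 256 stabLevels y.1 &&
     Nat.beq (comp 8 256 x.1 x.1) (idCode 8 256) &&
     Nat.beq (comp 8 256 (comp 8 256 y.1 y.1) (comp 8 256 y.1 y.1)) (idCode 8 256) &&
     Nat.beq (comp 8 256 xy.1 (comp 8 256 xy.1 xy.1)) (idCode 8 256) && !Nat.beq (comp 8 256 xy.1 (idCode 8 256)) (comp 8 256 (idCode 8 256) (idCode 8 256)))

theorem core_ok : coreOK = true := by decide +kernel

end Cfsg.Agent.U62Rec.Model
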