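import Cfsg.Agent.Lib.U62Rec.Model.Shape

/-!
With four planes, coordinates in which the six endomorphisms are the six maps of the model.
-/

set_option autoImplicit false
set_option maxRecDepth 20000

namespace Cfsg.Agent.U62Rec.Model.Forced

variable {V : Type*} [AddCommGroup V] {A : Fin 6 → AddMonoid.End V}

/-- The action of a word on exponents. -/
def mactW : List (Fin 6) → K3 → K3
  | [], k => k
  | g :: w, k => mact g (mactW w k)

theorem factW_dot : ∀ {w : List (Fin 6)}, (∀ g ∈ w, g = 3 ∨ g = 4) → ∀ f k : K3,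
    dot (factW w f) (mactW w k) = dot f k
  | [], _, _, _ => rfl
  | g :: w, hw, f, k => by
    rw [factW, mactW, fact_dot g (hw g List.mem_cons_self),
      factW_dot (fun x hx => hw x (List.mem_cons_of_mem _ hx))]

theorem Six.word_conj (S : Six A) : ∀ {w : List (Fin 6)}, (∀ g ∈ w, g = 3 ∨ g = 4) → ∀ k : K3,
    ev A w * eps A k = eps A (mactW w k) * ev A w
  | [], _, k => by rw [ev_nil, one_mul, mul_one]; rfl
  | g :: w, hw, k => by
    rw [ev_cons, mul_assoc, S.word_conj (fun x hx => hw x (List.mem_cons_of_mem _ hx)) k, ← mul_assoc,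
      S.gen_conj g (hw g List.mem_cons_self), mul_assoc]
    rfl

theorem Six.eps_congr (S : Six A) {f : K3} {v : V} (hv : InU A f v) {k k' : K3} (h : dot f k = dot f k') :
    eps A k v = eps A k' v := by
  have h0 : dot f (k - k') = 0 := by
    have : dot f (k - k') = dot f k - dot f k' := by simp [dot]; ring
    rw [this, h, sub_self]
  conv_lhs => rw [← sub_add_cancel k k', add_comm, S.eps_add]
  show eps A k' (eps A (k - k') v) = _
  rw [(hv _).1 h0]

/-- The elements of the last plane. -/
def plane (A : Fin 6 → AddMonoid.End V) (v : V) : ℕ → V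
  | 0 => 0
  | 1 => v
  | 2 => A 0 v
  | _ => v + A 0 v

/-- The word moving the last plane to a position. -/
def tw (i : ℕ) : List (Fin 6) := wChi.getD i []

/-- The coordinates. -/
def phi (A : Fin 6 → AddMonoid.End V) (v : V) (n : ℕ) : V :=
  ev A (tw 0) (plane A v (coord n 0)) + ev A (tw 1) (plane A v (coord n 1)) +
    ev A (tw 2) (plane A v (coord n 2)) + ev A (tw 3) (plane A v (coord n 3))

/-- A value in a position. -/
def slot (i c : ℕ) : ℕ := Nat.shiftLeft c (2 * i)

/-- The action of a word in the model. -/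
def evC : List (Fin 6) → ℕ → ℕ
  | [], n => n
  | g :: w, n => linC (colsOf g) (evC w n)

theorem coord_xor (a b i : ℕ) : coord (Nat.xor a b) i = coord a i ^^^ coord b i := by
  show ((a ^^^ b) >>> (2 * i)) &&& 3 = ((a >>> (2 * i)) &&& 3) ^^^ ((b >>> (2 * i)) &&& 3)
  rw [Nat.shiftRight_xor_distrib, Nat.and_xor_distrib_right]

theorem coord_lt (a i : ℕ) : coord a i < 4 := Nat.lt_succ_of_le Nat.and_le_right

theorem Six.plane_xor (S : Six A) (v : V) {a b : ℕ} (ha : a < 4) (hb : b < 4) :
    plane A v (a ^^^ b) = plane A v a + plane A v b := by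
  have c := S.char
  have e1 : ∀ x y : V, x + (x + y) = y := fun x y => by rw [← add_assoc, c, zero_add]
  interval_cases a <;> interval_cases b <;> simp [plane, c, e1, add_comm, add_left_comm]

theorem Six.phi_xor (S : Six A) (v : V) (a b : ℕ) : phi A v (Nat.xor a b) = phi A v a + phi A v b := by
  simp only [phi, coord_xor, S.plane_xor v (coord_lt a _) (coord_lt b _), map_add]
  abel

theorem phi_zero (v : V) : phi A v 0 = 0 := by simp [phi, coord, plane]

theorem slot_coord : ∀ i < 4, ∀ c < 4, ∀ j < 4, coord (slot i c) j = if i = j then c else 0 := by decide +kernel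

theorem phi_slot (v : V) {i c : ℕ} (hi : i < 4) (hc : c < 4) : phi A v (slot i c) = ev A (tw i) (plane A v c) := by
  have h := slot_coord i hi c hc
  simp only [phi, h 0 (by norm_num), h 1 (by norm_num), h 2 (by norm_num), h 3 (by norm_num)]
  interval_cases i <;> simp [plane]

theorem split_ok : ∀ n < 256, Nat.xor (Nat.xor (slot 0 (coord n 0)) (slot 1 (coord n 1)))
    (Nat.xor (slot 2 (coord n 2)) (slot 3 (coord n 3))) = n := by decide +kernel

/-- Maps agreeing on the positions agree. -/
theorem Six.intertwine (S : Six A) (v : V) (g : AddMonoid.End V) (cols : List ℕ)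
    (h : ∀ i < 4, ∀ c < 4, g (ev A (tw i) (plane A v c)) = phi A v (linC cols (slot i c))) :
    ∀ n < 256, g (phi A v n) = phi A v (linC cols n) := by
  intro n hn
  conv_rhs => rw [← split_ok n hn]
  rw [linC_xor, linC_xor, linC_xor, S.phi_xor, S.phi_xor, S.phi_xor]
  simp only [phi, map_add, h _ (show 0 < 4 by norm_num) _ (coord_lt n 0), h _ (show 1 < 4 by norm_num) _ (coord_lt n 1),
    h _ (show 2 < 4 by norm_num) _ (coord_lt n 2), h _ (show 3 < 4 by norm_num) _ (coord_lt n 3)]
  abel

theorem linC_lt {cols : List ℕ} (h : ∀ x ∈ cols, x < 256) (n : ℕ) : linC cols n < 256 := by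
  have hc : ∀ j, colTerm cols n j < 2 ^ 8 := fun j => by
    unfold colTerm
    cases n.testBit j
    · simp
    · rw [Bool.cond_true, List.getD_eq_getElem?_getD]
      rcases lt_or_ge j cols.length with hj | hj
      · rw [List.getElem?_eq_getElem hj]; exact h _ (List.getElem_mem hj)
      · rw [List.getElem?_eq_none hj]; simp
  exact Nat.xor_lt_two_pow (Nat.xor_lt_two_pow (Nat.xor_lt_two_pow (hc 0) (hc 1)) (Nat.xor_lt_two_pow (hc 2) (hc 3)))
    (Nat.xor_lt_two_pow (Nat.xor_lt_two_pow (hc 4) (hc 5)) (Nat.xor_lt_two_pow (hc 6) (hc 7)))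

theorem cols_lt : ∀ j : Fin 6, ∀ x ∈ colsOf j, x < 256 := by decide +kernel

theorem evC_lt (w : List (Fin 6)) {n : ℕ} (hn : n < 256) : evC w n < 256 := by
  induction w with
  | nil => exact hn
  | cons g w _ => exact linC_lt (cols_lt g) _

theorem ev_evC (v : V) : ∀ {w : List (Fin 6)},
    (∀ g ∈ w, ∀ n < 256, A g (phi A v n) = phi A v (linC (colsOf g) n)) → ∀ n < 256,
    ev A w (phi A v n) = phi A v (evC w n)
  | [], _, _, _ => rfl
  | g :: w, hw, n, hn => by
    rw [ev_cons]
    show A g (ev A w (phi A v n)) = _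
    rw [ev_evC v (fun x hx => hw x (List.mem_cons_of_mem _ hx)) n hn, hw g List.mem_cons_self _ (evC_lt w hn)]
    rfl

/-- Words fixing the last plane. -/
def stabW : List (List (Fin 6)) := [[], [3], [3, 4, 4, 3, 4], [3, 3, 4, 4, 3, 4], [3, 4, 4, 3, 4, 3]]

theorem diag_table : ∀ j : Fin 3, ∀ i : Fin 4, ∃ k : K3,
    mactW (tw i) k = (if j = 0 then (1, 0, 0) else if j = 1 then (0, 1, 0) else (0, 0, 1)) ∧
    ∀ c : Fin 4, linC (colsOf j) (slot i c) = slot i ((omC^[(dot (lineF 3) k).val]) c) := by
  decide +kernel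

theorem perm_table : ∀ g : Fin 6, g = 3 ∨ g = 4 → ∀ i : Fin 4, ∃ j : Fin 4, ∃ w ∈ stabW,
    (g :: tw i, tw j ++ w) ∈ relList ∧ ∀ c : Fin 4, linC (colsOf g) (slot i c) = slot j c := by
  decide +kernel

theorem tw_ok : ∀ i : Fin 4, ∀ g ∈ tw i, g = 3 ∨ g = 4 := words_ok.1

/-- The data of the case of four planes, with a chosen vector. -/
structure Four (A : Fin 6 → AddMonoid.End V) (v : V) : Prop where
  six : Six A
  mem : InU A (lineF 3) v
  ne : v ≠ 0
  card : ∀ i < 4, Nat.card (U A (lineF i)) = 4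
  triv : ∀ j < 13, 4 ≤ j → Nat.card (U A (lineF j)) = 1
  fixed : Nat.card (U A 0) = 1

variable {v : V}

theorem zero_eq (A : Fin 6 → AddMonoid.End V) : A 0 = eps A (1, 0, 0) := by simp [eps, ZMod.val_one]

theorem Four.omega_ne (F : Four A v) : A 0 v ≠ v ∧ A 0 v ≠ 0 ∧ A 0 (A 0 v) = v + A 0 v ∧ v + A 0 v ≠ 0 := by
  have hk : dot (lineF 3) (1, 0, 0) ≠ 0 := by decide +kernel
  have hp := (F.mem (1, 0, 0)).2 hk
  rw [pk_apply, ← zero_eq A] at hp
  have h3 : A 0 (A 0 (A 0 v)) = v := by rw [zero_eq A]; exact F.six.eps_cube _ _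
  have h1 : A 0 v ≠ v := fun e => F.ne (by rw [e, e, F.six.three_eq] at hp; exact hp)
  refine ⟨h1, fun e => F.ne (by rw [← h3, e, map_zero, map_zero]), ?_, fun e => h1 ?_⟩
  · rw [← add_zero (A 0 (A 0 v)), ← F.six.char (v + A 0 v), ← add_assoc]
    rw [show A 0 (A 0 v) + (v + A 0 v) = 0 by rw [← hp]; abel, zero_add]
  · rw [← add_zero (A 0 v), ← F.six.char v, ← add_assoc, add_comm (A 0 v) v, e, zero_add]

theorem Four.plane_inj (F : Four A v) {a b : ℕ} (ha : a < 4) (hb : b < 4) (h : plane A v a = plane A v b) :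
    a = b := by
  have key : ∀ c < 4, plane A v c = 0 → c = 0 := by
    obtain ⟨-, h2, -, h4⟩ := F.omega_ne
    intro c hc h
    interval_cases c
    exacts [rfl, absurd h F.ne, absurd h h2, absurd h h4]
  have := key _ (Nat.xor_lt_two_pow (n := 2) ha hb) (by rw [F.six.plane_xor v ha hb, h, F.six.char])
  exact Nat.xor_eq_zero_iff.1 this

theorem Four.plane_mem (F : Four A v) (c : ℕ) : InU A (lineF 3) (plane A v c) := by
  have h := F.six.inU_eps F.mem (1, 0, 0)
  rw [← zero_eq A] at h
  match c with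
  | 0 => exact InU.zero _
  | 1 => exact F.mem
  | 2 => exact h
  | _ + 3 => exact F.mem.add h

theorem Four.plane_surj (F : Four A v) {u : V} (hu : InU A (lineF 3) u) : ∃ c < 4, plane A v c = u := by
  have := F.six.finite
  have hi : Function.Injective (fun c : Fin 4 => (⟨plane A v c, F.plane_mem c⟩ : U A (lineF 3))) :=
    fun a b h => Fin.ext (F.plane_inj a.2 b.2 (congrArg Subtype.val h))
  obtain ⟨c, hc⟩ := (hi.bijective_of_nat_card_le (by rw [F.card 3 (by norm_num)]; simp)).2 ⟨u, hu⟩
  exact ⟨c, c.2, congrArg Subtype.val hc⟩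

theorem Four.eps_plane (F : Four A v) (k : K3) {c : ℕ} (hc : c < 4) :
    eps A k (plane A v c) = plane A v ((omC^[(dot (lineF 3) k).val]) c) := by
  obtain ⟨h1, h2, h3, h4⟩ := F.omega_ne
  have h5 : A 0 (v + A 0 v) = v := by
    rw [map_add, h3, ← add_assoc, add_comm (A 0 v) v, add_assoc, F.six.char, add_zero]
  have step : ∀ m < 4, A 0 (plane A v m) = plane A v (omC m) := by
    intro m hm
    interval_cases m
    · exact map_zero _
    · rfl
    · exact h3
    · exact h5
  have key : ∀ d : ZMod 3, ∀ m < 4, omC^[d.val] m < 4 ∧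
      dot (lineF 3) (d.val • ((1, 0, 0) : K3)) = d := by decide +kernel
  rw [F.six.eps_congr (F.plane_mem c) (k' := (dot (lineF 3) k).val • ((1, 0, 0) : K3))
    ((key _ 0 (by norm_num)).2).symm, F.six.eps_smul, ← zero_eq A]
  generalize (dot (lineF 3) k).val = m
  induction m generalizing c with
  | zero => rfl
  | succ m ih =>
    rw [pow_succ, Function.iterate_succ_apply]
    show (A 0 ^ m) (A 0 (plane A v c)) = _
    rw [step c hc]
    exact ih (by interval_cases c <;> decide)

theorem Four.stab (F : Four A v) {w : List (Fin 6)} (hw : ∀ g ∈ w, g = 3 ∨ g = 4)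
    (hf : factW w (lineF 3) = lineF 3) (h2 : (w ++ w, []) ∈ relList) {c : ℕ} (hc : c < 4) :
    ev A w (plane A v c) = plane A v c := by
  have hcomm : ∀ k : K3, ∀ u, InU A (lineF 3) u → ev A w (eps A k u) = eps A k (ev A w u) := by
    intro k u hu
    rw [show ev A w (eps A k u) = eps A (mactW w k) (ev A w u) from DFunLike.congr_fun (F.six.word_conj hw k) u]
    refine F.six.eps_congr (hf ▸ (F.six.inU_word hw hu).1) ?_
    conv_lhs => rw [← hf]
    exact factW_dot hw _ _
  have hsq : ∀ u, ev A w (ev A w u) = u := fun u => by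
    have := DFunLike.congr_fun (F.six.ev_eq _ _ h2) u
    rwa [ev_append] at this
  have hfix : ev A w v = v := by
    obtain ⟨m, hm, e⟩ := F.plane_surj (hf ▸ (F.six.inU_word hw F.mem).1)
    obtain ⟨h1, hne, h3, -⟩ := F.omega_ne
    interval_cases m
    · exact absurd (by rw [← hsq v, ← e]; exact map_zero _) F.ne
    · exact e.symm
    · exfalso
      have h := hsq v
      rw [← e, show plane A v 2 = A 0 v from rfl, zero_eq A, hcomm _ _ F.mem, ← e,
        show plane A v 2 = A 0 v from rfl, ← zero_eq A, h3] at h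
      exact hne (by simpa using h)
    · exfalso
      have h := hsq v
      rw [← e, show plane A v 3 = v + A 0 v from rfl, map_add, zero_eq A, hcomm _ _ F.mem, ← e,
        show plane A v 3 = v + A 0 v from rfl, ← zero_eq A, map_add, h3] at h
      refine hne ?_
      rw [show v + A 0 v + (A 0 v + (v + A 0 v)) = A 0 v + (v + v) + (A 0 v + A 0 v) by abel,
        F.six.char, F.six.char, add_zero, add_zero] at h
      exact absurd h h1
  obtain ⟨-, -, -, -⟩ := F.omega_ne
  interval_cases c
  · exact map_zero _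
  · exact hfix
  · show ev A w (A 0 v) = A 0 v
    rw [zero_eq A, hcomm _ _ F.mem, hfix]
  · show ev A w (v + A 0 v) = v + A 0 v
    rw [map_add, zero_eq A, hcomm _ _ F.mem, hfix]

theorem Four.stabW_fix (F : Four A v) {w : List (Fin 6)} (hw : w ∈ stabW) {c : ℕ} (hc : c < 4) :
    ev A w (plane A v c) = plane A v c := by
  have s1 := F.stab (w := [3]) (by decide) (by decide +kernel) (by decide) hc
  have s2 := F.stab (w := [3, 4, 4, 3, 4]) (by decide) (by decide +kernel) (by decide) hc
  simp only [stabW, List.mem_cons, List.not_mem_nil, or_false] at hw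
  rcases hw with rfl | rfl | rfl | rfl | rfl
  · rfl
  · exact s1
  · exact s2
  · rw [show ([3, 3, 4, 4, 3, 4] : List (Fin 6)) = [3] ++ [3, 4, 4, 3, 4] from rfl, ev_append]
    show ev A [3] (ev A [3, 4, 4, 3, 4] _) = _
    rw [s2, s1]
  · rw [show ([3, 4, 4, 3, 4, 3] : List (Fin 6)) = [3, 4, 4, 3, 4] ++ [3] from rfl, ev_append]
    show ev A [3, 4, 4, 3, 4] (ev A [3] _) = _
    rw [s1, s2]

theorem iter_lt : ∀ d : ZMod 3, ∀ c < 4, omC^[d.val] c < 4 := by decide +kernel

theorem Four.mono (F : Four A v) : ∀ g : Fin 6, (g : ℕ) < 5 → ∀ n < 256,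
    A g (phi A v n) = phi A v (linC (colsOf g) n) := by
  intro g hg
  refine F.six.intertwine v _ _ fun i hi c hc => ?_
  by_cases h3 : (g : ℕ) < 3
  · obtain ⟨k, hk, hcol⟩ := diag_table ⟨g, h3⟩ ⟨i, hi⟩
    have e : A g = eps A (mactW (tw i) k) := by
      rw [hk]
      obtain rfl | rfl | rfl : g = 0 ∨ g = 1 ∨ g = 2 := by omega
      · simp [eps, ZMod.val_one]
      · simp [eps, ZMod.val_one]
      · simp [eps, ZMod.val_one, Fin.ext_iff]
    rw [show colsOf g = colsOf (⟨g, h3⟩ : Fin 3) from rfl, hcol ⟨c, hc⟩, phi_slot v hi (iter_lt _ c hc),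
      ← F.eps_plane k hc, e]
    exact (DFunLike.congr_fun (F.six.word_conj (tw_ok ⟨i, hi⟩) k) _).symm
  · have hg34 : g = 3 ∨ g = 4 := by omega
    obtain ⟨j, w, hw, hm, hcol⟩ := perm_table g hg34 ⟨i, hi⟩
    rw [hcol ⟨c, hc⟩, phi_slot v j.2 hc]
    have e := DFunLike.congr_fun (F.six.rel _ hm) (plane A v c)
    rw [ev_cons, ev_append] at e
    change A g (ev A (tw i) (plane A v c)) = ev A (tw j) (ev A w (plane A v c)) at e
    rw [e, F.stabW_fix hw hc]

theorem Four.phi_surj (F : Four A v) : ∀ u, ∃ n < 256, phi A v n = u := by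
  refine F.six.all_of_lines _ ?_ ?_ ?_
  · rintro _ _ ⟨a, ha, rfl⟩ ⟨b, hb, rfl⟩
    exact ⟨Nat.xor a b, Nat.xor_lt_two_pow (n := 8) ha hb, F.six.phi_xor v a b⟩
  · exact fun u hu => ⟨0, by norm_num, by rw [phi_zero, U_eq_zero F.fixed hu]⟩
  · intro i hi u hu
    by_cases h4 : i < 4
    · have hwc := tw_ok ⟨i, h4⟩
      have := F.six.finite
      have hl : factW (tw i) (lineF 3) = lineF i := (wChi_line ⟨i, h4⟩).1
      have hinj : Function.Injective (fun c : Fin 4 =>
          (⟨ev A (tw i) (plane A v c), hl ▸ (F.six.inU_word hwc (F.plane_mem c)).1⟩ : U A (lineF i))) := by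
        intro a b h
        refine Fin.ext (F.plane_inj a.2 b.2 ?_)
        have h0 : ev A (tw i) (plane A v a - plane A v b) = 0 := by
          rw [map_sub, sub_eq_zero]; exact congrArg Subtype.val h
        have hab : InU A (lineF 3) (plane A v a - plane A v b) := (U A (lineF 3)).sub_mem (F.plane_mem a) (F.plane_mem b)
        exact sub_eq_zero.1 ((F.six.inU_word hwc hab).2 h0)
      obtain ⟨c, hc⟩ := (hinj.bijective_of_nat_card_le (by rw [F.card i h4]; simp)).2 ⟨u, hu⟩
      refine ⟨slot i c, ?_, (phi_slot v h4 c.2).trans (congrArg Subtype.val hc)⟩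
      have : ∀ a < 4, ∀ b < 4, slot a b < 256 := by decide +kernel
      exact this i h4 c c.2
    · exact ⟨0, by norm_num, by rw [phi_zero, U_eq_zero (F.triv i hi (by omega)) hu]⟩

theorem Four.phi_inj (F : Four A v) {a b : ℕ} (ha : a < 256) (hb : b < 256) (h : phi A v a = phi A v b) :
    a = b := by
  have := F.six.finite
  have hs : Function.Surjective (fun n : Fin 256 => phi A v n) := fun u => by
    obtain ⟨n, hn, rfl⟩ := F.phi_surj u
    exact ⟨⟨n, hn⟩, rfl⟩
  have := (hs.bijective_of_nat_card_le (by rw [F.six.card]; simp)).1 (a₁ := ⟨a, ha⟩) (a₂ := ⟨b, hb⟩) h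
  exact congrArg Fin.val this

/-- The candidate columns of the last map. -/
def colsT (a b : ℕ) : List ℕ :=
  [evC (tw 0) a, evC (tw 0) b, evC (tw 1) a, evC (tw 1) b, evC (tw 2) a, evC (tw 2) b, evC (tw 3) a, evC (tw 3) b]

/-- Invariance under the two words fixing the last plane. -/
def fixC (a : ℕ) : Bool := Nat.beq (evC [3] a) a && Nat.beq (evC [3, 4, 4, 3, 4] a) a

/-- One step of the long relation. -/
def step9 (T : List ℕ) (n : ℕ) : ℕ := linC (colsOf 0) (linC (colsOf 4) (linC T n))

/-- The relations on a candidate. -/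
def candC (T : List ℕ) : Bool :=
  (List.range 8).all fun l => Nat.beq (linC T (linC T (2 ^ l))) (2 ^ l) && Nat.beq ((step9 T)^[9] (2 ^ l)) (2 ^ l)

theorem cand_ok : ((List.range 256).all fun a => !fixC a || (List.range 256).all fun b =>
    !fixC b || !candC (colsT a b) || decide (colsT a b = colsOf 5)) = true := by
  decide +kernel

theorem Four.last (F : Four A v) : ∀ n < 256, A 5 (phi A v n) = phi A v (linC (colsOf 5) n) := by
  have hcomm : ∀ {w : List (Fin 6)}, (∀ g ∈ w, g = 3 ∨ g = 4) → ∀ u, A 5 (ev A w u) = ev A w (A 5 u) := by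
    have h3 := F.six.ev_eq [5, 3] [3, 5]
    have h4 := F.six.ev_eq [5, 4] [4, 5]
    simp only [ev_cons, ev_nil, mul_one] at h3 h4
    intro w
    induction w with
    | nil => exact fun _ _ => rfl
    | cons g w ih =>
      intro hw u
      rw [ev_cons]
      show A 5 (A g (ev A w u)) = A g (ev A w (A 5 u))
      rw [← ih (fun x hx => hw x (List.mem_cons_of_mem _ hx)) u]
      rcases hw g List.mem_cons_self with rfl | rfl
      · exact DFunLike.congr_fun h3 _
      · exact DFunLike.congr_fun h4 _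
  obtain ⟨a, ha, hae⟩ := F.phi_surj (A 5 v)
  obtain ⟨b, hb, hbe⟩ := F.phi_surj (A 5 (A 0 v))
  have mono34 : ∀ {w : List (Fin 6)}, (∀ g ∈ w, g = 3 ∨ g = 4) → ∀ n < 256,
      ev A w (phi A v n) = phi A v (evC w n) := fun hw =>
    ev_evC v fun g hg => F.mono g (by rcases hw g hg with rfl | rfl <;> decide)
  have hfixC : ∀ c < 256, ∀ m < 4, phi A v c = A 5 (plane A v m) → fixC c = true := by
    intro c hc m hm he
    have hw : ∀ w ∈ [[3], ([3, 4, 4, 3, 4] : List (Fin 6))], evC w c = c := by
      intro w hw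
      have hw34 : ∀ g ∈ w, g = 3 ∨ g = 4 := by
        simp only [List.mem_cons, List.not_mem_nil, or_false] at hw
        rcases hw with rfl | rfl <;> decide
      refine F.phi_inj (evC_lt w hc) hc ?_
      rw [← mono34 hw34 c hc, he, ← hcomm hw34]
      have hs : w ∈ stabW := by
        simp only [List.mem_cons, List.not_mem_nil, or_false] at hw
        rcases hw with rfl | rfl <;> decide
      rw [F.stabW_fix hs hm]
    simp only [fixC, hw [3] (by simp), hw [3, 4, 4, 3, 4] (by simp), Nat.beq_refl, Bool.and_self]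
  have hT : ∀ n < 256, A 5 (phi A v n) = phi A v (linC (colsT a b) n) := by
    refine F.six.intertwine v _ _ fun i hi c hc => ?_
    rw [hcomm (tw_ok ⟨i, hi⟩)]
    have e : A 5 (plane A v c) = phi A v (Nat.xor (bif c.testBit 0 then a else 0) (bif c.testBit 1 then b else 0)) := by
      interval_cases c
      · simp [plane, phi_zero]
      · exact hae.symm.trans (congrArg (phi A v) (Nat.xor_zero a).symm)
      · exact hbe.symm.trans (congrArg (phi A v) (Nat.zero_xor b).symm)
      · show A 5 (v + A 0 v) = phi A v (Nat.xor a b)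
        rw [map_add, F.six.phi_xor, hae, hbe]
    rw [e, mono34 (tw_ok ⟨i, hi⟩) _ (by
      cases c.testBit 0 <;> cases c.testBit 1 <;>
        first | exact Nat.xor_lt_two_pow (n := 8) ha hb | exact Nat.xor_lt_two_pow (n := 8) ha (by norm_num) |
          exact Nat.xor_lt_two_pow (n := 8) (by norm_num) hb | exact Nat.xor_lt_two_pow (n := 8) (by norm_num) (by norm_num))]
    congr 1
    have lin : ∀ (w : List (Fin 6)) (x y : ℕ), evC w (Nat.xor x y) = Nat.xor (evC w x) (evC w y) := by
      intro w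
      induction w with
      | nil => exact fun _ _ => rfl
      | cons g w ih => intro x y; simp only [evC, ih, linC_xor]
    have z : ∀ w : List (Fin 6), evC w 0 = 0 := by
      intro w
      induction w with
      | nil => rfl
      | cons g w ih => simp only [evC, ih]; simp [linC, colTerm]
    rw [lin]
    interval_cases i <;> interval_cases c <;>
      simp [linC, colTerm, colsT, slot, Nat.testBit, z]
  have hlt : ∀ n, linC (colsT a b) n < 256 := linC_lt fun x hx => by
    simp only [colsT, List.mem_cons, List.not_mem_nil, or_false] at hx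
    rcases hx with rfl | rfl | rfl | rfl | rfl | rfl | rfl | rfl <;> first | assumption | exact evC_lt _ ha | exact evC_lt _ hb
  have hc : candC (colsT a b) = true := by
    simp only [candC, List.all_eq_true, List.mem_range, Bool.and_eq_true]
    intro l hl
    have hl' : 2 ^ l < 256 := Nat.pow_lt_pow_right (by norm_num) hl
    constructor
    · refine Nat.beq_eq ▸ F.phi_inj (hlt _) hl' ?_
      rw [← hT _ (hlt _), ← hT _ hl']
      have e := DFunLike.congr_fun (F.six.ev_eq [5, 5] []) (phi A v (2 ^ l))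
      simpa [ev_cons, ev_nil] using e
    · have stp : ∀ n < 256, ev A [0, 4, 5] (phi A v n) = phi A v (step9 (colsT a b) n) ∧
          step9 (colsT a b) n < 256 := by
        intro n hn
        refine ⟨?_, linC_lt (cols_lt 0) _⟩
        simp only [ev_cons, ev_nil, mul_one]
        show A 0 (A 4 (A 5 (phi A v n))) = _
        rw [hT n hn, F.mono 4 (by decide) _ (hlt _), F.mono 0 (by decide) _ (linC_lt (cols_lt 4) _)]
        rfl
      have it : ∀ m, (ev A [0, 4, 5] ^ m) (phi A v (2 ^ l)) = phi A v ((step9 (colsT a b))^[m] (2 ^ l)) ∧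
          (step9 (colsT a b))^[m] (2 ^ l) < 256 := by
        intro m
        induction m with
        | zero => exact ⟨rfl, hl'⟩
        | succ m ih =>
          rw [pow_succ', Function.iterate_succ_apply']
          refine ⟨?_, (stp _ ih.2).2⟩
          show ev A [0, 4, 5] ((ev A [0, 4, 5] ^ m) _) = _
          rw [ih.1, (stp _ ih.2).1]
      have e : ev A [0, 4, 5] ^ 9 = 1 := by
        rw [← ev_nil A, ← F.six.ev_eq [0, 4, 5, 0, 4, 5, 0, 4, 5, 0, 4, 5, 0, 4, 5, 0, 4, 5, 0, 4, 5, 0, 4, 5, 0, 4, 5] []]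
        simp [ev_cons, ev_nil, pow_succ, mul_assoc]
      refine Nat.beq_eq ▸ F.phi_inj (it 9).2 hl' ?_
      rw [← (it 9).1, e]
      rfl
  have hfa := hfixC a ha 1 (by norm_num) hae
  have hfb := hfixC b hb 2 (by norm_num) hbe
  have h := List.all_eq_true.1 cand_ok a (List.mem_range.2 ha)
  rw [hfa, Bool.not_true, Bool.false_or, List.all_eq_true] at h
  have h' := h b (List.mem_range.2 hb)
  rw [hfb, hc, Bool.not_true, Bool.false_or, Bool.false_or, decide_eq_true_eq] at h'
  exact h' ▸ hT

theorem Four.all (F : Four A v) (j : Fin 6) : ∀ n < 256, A j (phi A v n) = phi A v (linC (colsOf j) n) := by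
  by_cases h : (j : ℕ) < 5
  · exact F.mono j h
  · obtain rfl : j = 5 := by omega
    exact F.last

end Cfsg.Agent.U62Rec.Model.Forced
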