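import Cfsg.Agent.Lib.U62Rec.Model.Coords

/-!
An invariant quadratic form with non-degenerate polar is the form of the model.
-/

set_option autoImplicit false
set_option maxRecDepth 20000

namespace Cfsg.Agent.U62Rec.Model.Forced

variable {V : Type*} [AddCommGroup V] {A : Fin 6 → AddMonoid.End V}

theorem conn_table : ∀ i : Fin 4, ∀ c : Fin 4, c ≠ 0 →
    ∃ w ∈ [([] : List (Fin 6)), [4], [4, 4], [4, 4, 4], [2], [4, 2], [4, 4, 2], [4, 4, 4, 2], [2, 2], [4, 2, 2],
      [4, 4, 2, 2], [4, 4, 4, 2, 2]],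
    (∀ g ∈ w, (g : ℕ) < 5) ∧ evC w 1 = slot i c := by
  decide +kernel

theorem orth_table : ∀ i j : Fin 4, i ≠ j → ∃ w ∈ [([0] : List (Fin 6)), [1], [2], [0, 1], [0, 2], [1, 2],
      [0, 0, 1], [0, 0, 2], [1, 1, 2]],
    (∀ c : Fin 4, evC w (slot i c) = slot i c) ∧
      ∀ c : Fin 4, Nat.xor (Nat.xor (slot j c) (evC w (slot j c))) (evC w (evC w (slot j c))) = 0 := by
  decide +kernel

theorem slot_lt : ∀ i < 4, ∀ c < 4, slot i c < 256 := by decide +kernel

theorem q0_split : ∀ n < 256, (q0 n : ZMod 2) = (if coord n 0 = 0 then 0 else 1) +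
    (if coord n 1 = 0 then 0 else 1) + (if coord n 2 = 0 then 0 else 1) + (if coord n 3 = 0 then 0 else 1) := by
  decide +kernel

/-- An invariant form on the coordinates. -/
theorem Four.form {v : V} (F : Four A v) (q : V → ZMod 2) (B : V → V → ZMod 2)
    (hq : ∀ a b, q (a + b) = q a + q b + B a b) (hB : ∀ a b c, B (a + b) c = B a c + B b c)
    (hnd : ∀ a, a ≠ 0 → ∃ b, B a b ≠ 0) (hinv : ∀ j a, q (A j a) = q a) :
    ∀ n < 256, q (phi A v n) = q0 n := by
  have two : ∀ x : ZMod 2, x + x = 0 := by decide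
  have q00 : q 0 = 0 := by
    have h0 : ∀ c, B 0 c = 0 := fun c => by
      have := hB 0 0 c
      rw [add_zero, two] at this
      exact this
    have := hq 0 0
    rw [add_zero, h0, add_zero, two] at this
    exact this
  have hsymm : ∀ a b, B a b = B b a := fun a b => by
    have := (hq a b).symm.trans ((congrArg q (add_comm a b)).trans (hq b a))
    rw [add_comm (q b) (q a)] at this
    exact add_left_cancel this
  have hB' : ∀ a b c, B a (b + c) = B a b + B a c := fun a b c => by
    rw [hsymm, hB, hsymm b, hsymm c]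
  have hB0 : ∀ a, B a 0 = 0 := fun a => by
    have := hB' a 0 0
    rw [add_zero, two] at this
    exact this
  have hBinv : ∀ j a b, B (A j a) (A j b) = B a b := fun j a b => by
    have h := hinv j (a + b)
    rw [map_add, hq, hq, hinv, hinv] at h
    exact add_left_cancel h
  have hword : ∀ w : List (Fin 6), ∀ a b, q (ev A w a) = q a ∧ B (ev A w a) (ev A w b) = B a b := by
    intro w
    induction w with
    | nil => exact fun _ _ => ⟨rfl, rfl⟩
    | cons g w ih =>
      intro a b
      rw [ev_cons]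
      exact ⟨(hinv g _).trans (ih a b).1, (hBinv g _ _).trans (ih a b).2⟩
  have hev : ∀ w : List (Fin 6), ∀ n < 256, ev A w (phi A v n) = phi A v (evC w n) :=
    fun w => ev_evC v fun g _ => F.all g
  have hc0 : ∀ i < 4, ∀ c < 4, c ≠ 0 → q (phi A v (slot i c)) = q (phi A v 1) := by
    intro i hi c hc h0
    obtain ⟨w, -, -, e⟩ := conn_table ⟨i, hi⟩ ⟨c, hc⟩ fun h => h0 (congrArg Fin.val h)
    rw [show slot i c = evC w 1 from e.symm, ← hev w 1 (by norm_num), (hword w _ 0).1]
  have horth : ∀ i < 4, ∀ j < 4, i ≠ j → ∀ c < 4, ∀ d < 4,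
      B (phi A v (slot i c)) (phi A v (slot j d)) = 0 := by
    intro i hi j hj hij c hc d hd
    obtain ⟨w, -, h1, h2⟩ := orth_table ⟨i, hi⟩ ⟨j, hj⟩ fun h => hij (congrArg Fin.val h)
    have hs := slot_lt j hj d hd
    have hfix : ev A w (phi A v (slot i c)) = phi A v (slot i c) := by
      rw [hev w _ (slot_lt i hi c hc)]
      exact congrArg (phi A v) (h1 ⟨c, hc⟩)
    have hsum : phi A v (slot j d) + ev A w (phi A v (slot j d)) + ev A w (ev A w (phi A v (slot j d))) = 0 := by
      rw [hev w _ hs, hev w _ (evC_lt w hs), ← F.six.phi_xor, ← F.six.phi_xor]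
      exact (congrArg (phi A v) (h2 ⟨d, hd⟩)).trans (phi_zero v)
    set x := phi A v (slot i c)
    set y := phi A v (slot j d)
    have e1 : B x (ev A w y) = B x y := by
      conv_lhs => rw [← hfix]
      exact (hword w x y).2
    have e2 : B x (ev A w (ev A w y)) = B x y := by
      conv_lhs => rw [← hfix]
      rw [(hword w x (ev A w y)).2, e1]
    have h := congrArg (B x) hsum
    rw [hB', hB', e1, e2, hB0, two, zero_add] at h
    exact h
  have hval : ∀ n < 256, q (phi A v n) = q (phi A v 1) * q0 n := by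
    intro n hn
    have hc := fun k => coord_lt n k
    have e : phi A v n = phi A v (slot 0 (coord n 0)) + phi A v (slot 1 (coord n 1)) +
        (phi A v (slot 2 (coord n 2)) + phi A v (slot 3 (coord n 3))) := by
      conv_lhs => rw [← split_ok n hn, F.six.phi_xor, F.six.phi_xor, F.six.phi_xor]
    have hterm : ∀ i < 4, q (phi A v (slot i (coord n i))) =
        q (phi A v 1) * (if coord n i = 0 then 0 else 1) := by
      intro i hi
      by_cases h : coord n i = 0
      · rw [if_pos h, mul_zero, h, show slot i 0 = 0 from Nat.zero_shiftLeft _, phi_zero, q00]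
      · rw [if_neg h, mul_one, hc0 i hi _ (hc i) h]
    rw [e, hq, hq, hq, hB, hB', hB', horth 0 (by norm_num) 1 (by norm_num) (by norm_num) _ (hc 0) _ (hc 1),
      horth 0 (by norm_num) 2 (by norm_num) (by norm_num) _ (hc 0) _ (hc 2),
      horth 0 (by norm_num) 3 (by norm_num) (by norm_num) _ (hc 0) _ (hc 3),
      horth 1 (by norm_num) 2 (by norm_num) (by norm_num) _ (hc 1) _ (hc 2),
      horth 1 (by norm_num) 3 (by norm_num) (by norm_num) _ (hc 1) _ (hc 3),
      horth 2 (by norm_num) 3 (by norm_num) (by norm_num) _ (hc 2) _ (hc 3),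
      hterm 0 (by norm_num), hterm 1 (by norm_num), hterm 2 (by norm_num), hterm 3 (by norm_num), q0_split n hn]
    ring
  have h1 : q (phi A v 1) = 1 := by
    by_contra hne
    have h0 : q (phi A v 1) = 0 := by
      revert hne
      generalize q (phi A v 1) = x
      revert x
      decide
    have hz : ∀ u, q u = 0 := fun u => by
      obtain ⟨n, hn, rfl⟩ := F.phi_surj u
      rw [hval n hn, h0, zero_mul]
    obtain ⟨b, hb⟩ := hnd v F.ne
    refine hb ?_
    have := hq v b
    rw [hz, hz, hz, add_zero, zero_add] at this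
    exact this.symm
  intro n hn
  rw [hval n hn, h1, one_mul]

/-- The coordinates, for six endomorphisms with an invariant form and no invariant subgroup of order four
among the common fixed vectors. -/
theorem Six.coords (S : Six A)
    (hno : ∀ W : AddSubgroup V, Nat.card W = 4 → (∀ j, ∀ x ∈ W, A j x ∈ W) → False)
    (q : V → ZMod 2) (B : V → V → ZMod 2)
    (hq : ∀ a b, q (a + b) = q a + q b + B a b) (hB : ∀ a b c, B (a + b) c = B a c + B b c)
    (hnd : ∀ a, a ≠ 0 → ∃ b, B a b ≠ 0) (hinv : ∀ j a, q (A j a) = q a) :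
    ∃ φ : ℕ → V, φ 0 = 0 ∧ (∀ a b, φ (Nat.xor a b) = φ a + φ b) ∧ (∀ u, ∃ n < 256, φ n = u) ∧
      (∀ a < 256, ∀ b < 256, φ a = φ b → a = b) ∧
      (∀ j : Fin 6, ∀ n < 256, A j (φ n) = φ (linC (colsOf j) n)) ∧ ∀ n < 256, q (φ n) = q0 n := by
  rcases S.shape with ⟨h0, h4, h13⟩ | ⟨h0, hW, -, -⟩
  · have := S.finite
    obtain ⟨v, hv⟩ : ∃ v, InU A (lineF 3) v ∧ v ≠ 0 := by
      by_contra h
      push Not at h
      have h1 : Nat.card (U A (lineF 3)) ≤ 1 := by
        have : Subsingleton (U A (lineF 3)) := ⟨fun a b => Subtype.ext ((h _ a.2).trans (h _ b.2).symm)⟩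
        exact Finite.card_le_one_iff_subsingleton.2 this
      rw [h4 3 (by norm_num)] at h1
      omega
    have F : Four A v := ⟨S, hv.1, hv.2, h4, h13, h0⟩
    exact ⟨phi A v, phi_zero v, S.phi_xor v, F.phi_surj, fun a ha b hb => F.phi_inj ha hb, F.all,
      F.form q B hq hB hnd hinv⟩
  · exact (hno _ h0 hW).elim

end Cfsg.Agent.U62Rec.Model.Forced
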