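import Cfsg.Agent.Lib.U62Rec.Model.LinGrp
import Cfsg.Agent.Lib.U62Rec.Model.Geo

/-!
The stabiliser of a singular vector, and the product of two orthogonal transvections, on the vectors.
-/

set_option autoImplicit false
set_option maxRecDepth 20000

namespace Cfsg.Agent.U62Rec.Model

open Cfsg.Agent.PermCert

theorem perm_inv_self {α : Type*} (g : Equiv.Perm α) (x : α) : g⁻¹ (g x) = x := g.symm_apply_apply x

theorem perm_self_inv {α : Type*} (g : Equiv.Perm α) (x : α) : g (g⁻¹ x) = x := g.apply_symm_apply x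

/-- Transitivity on singular vectors. -/
def transOK : Bool :=
  allBelow (fun v => !singB v || (linLevels.headD (0, [], [])).2.2.any fun t =>
    Nat.beq t.1 v && Nat.beq (get 8 t.2.1.1 5) v && validElt 8 256 t.2.1 && sift 8 256 linLevels t.2.1.1) 256 &&
  singB 5

theorem trans_ok : transOK = true := by decide +kernel

/-- The chosen singular vector. -/
def v5 : Vec := ⟨5, by norm_num⟩

theorem sing_v5 : Sing v5 := by
  have := trans_ok
  simp only [transOK, Bool.and_eq_true] at this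
  exact (sing_iff v5).2 this.2

theorem exists_to {v : Vec} (hv : Sing v) : ∃ g ∈ Lgrp, g v5 = v := by
  have := trans_ok
  simp only [transOK, Bool.and_eq_true] at this
  have h := allBelow_spec _ _ this.1 v v.2
  simp only [(sing_iff v).1 hv, Bool.not_true, Bool.false_or, List.any_eq_true] at h
  obtain ⟨t, -, ht⟩ := h
  simp only [Bool.and_eq_true, Nat.beq_eq] at ht
  refine ⟨toPerm 8 256 t.2.1, cert_mem lin_cert ht.1.2 ht.2, Fin.ext ?_⟩
  rw [← (rep_toPerm ht.1.2 v5).1]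
  exact ht.1.1.2

theorem get_pick {w n : ℕ} {a b : Elt} {σ τ : Equiv.Perm (Fin n)} (ha : Rep w a σ) (hb : Rep w b τ) (i : Fin n) :
    get w (comp w n a.1 b.1) i = (σ * τ) i := by
  rw [get_comp w n _ _ _ i.2, (hb i).1, (ha _).1]
  rfl

theorem comp_eq_of {w n : ℕ} {a b c d : Elt} {σ τ σ' τ' : Equiv.Perm (Fin n)} (ha : Rep w a σ) (hb : Rep w b τ)
    (hc : Rep w c σ') (hd : Rep w d τ') (h : σ * τ = σ' * τ') : comp w n a.1 b.1 = comp w n c.1 d.1 :=
  pack_congr fun i hi => by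
    have e1 := get_pick ha hb ⟨i, hi⟩
    have e2 := get_pick hc hd ⟨i, hi⟩
    rw [get_comp w n _ _ _ hi] at e1 e2
    rw [e1, e2, h]

/-- The stabiliser of the chosen vector. -/
def St : Subgroup (Equiv.Perm Vec) where
  carrier := {g | g ∈ Lgrp ∧ g v5 = v5}
  one_mem' := ⟨one_mem _, rfl⟩
  mul_mem' := fun {a b} ha hb => ⟨mul_mem ha.1 hb.1, by rw [Equiv.Perm.mul_apply, hb.2, ha.2]⟩
  inv_mem' := fun {a} ha => ⟨inv_mem ha.1, by conv_lhs => rw [← ha.2, perm_inv_self]⟩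

theorem core_facts :
    ((List.range 256).countP singB = 135) ∧
    (∀ g ∈ stabGens, validElt 8 256 g = true ∧ sift 8 256 linLevels g.1 = true ∧ get 8 g.1 5 = 5) ∧
    (coreLin.map fun e => comp 8 256 e.1 (idCode 8 256)).Nodup ∧ coreLin.length = 32 ∧
    (∀ a ∈ coreLin, validElt 8 256 a = true ∧ sift 8 256 stabLevels a.1 = true ∧
      (∀ b ∈ coreLin, ∃ c ∈ coreLin, c.1 = comp 8 256 a.1 b.1) ∧
      ∀ g ∈ stabGens, ∃ c ∈ coreLin, c.1 = comp 8 256 (comp 8 256 g.1 a.1) g.2) ∧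
    (∃ a ∈ coreLin, a.1 = idCode 8 256) := by
  have := core_ok
  simp only [coreOK, Bool.and_eq_true, Nat.beq_eq] at this
  obtain ⟨⟨⟨⟨⟨⟨⟨-, h1⟩, h2⟩, h3⟩, h4⟩, h5⟩, h6⟩, -⟩ := this
  refine ⟨h1, fun g hg => ?_, distinctKeys_spec _ h4, h3, fun a ha => ?_, ?_⟩
  · have h := List.all_eq_true.1 h2 g hg
    simp only [Bool.and_eq_true, Nat.beq_eq] at h
    exact ⟨h.1.1, h.1.2, h.2⟩
  · have h := List.all_eq_true.1 h5 a ha
    simp only [Bool.and_eq_true, List.all_eq_true, List.any_eq_true, Nat.beq_eq] at h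
    exact ⟨h.1.1.1, h.1.1.2, h.1.2, h.2⟩
  · obtain ⟨a, ha, e⟩ := List.any_eq_true.1 h6
    exact ⟨a, ha, Nat.eq_of_beq_eq_true e⟩

theorem genGroup_le_St : genGroup 8 256 stabGens ≤ St := by
  rw [genGroup, Subgroup.closure_le]
  intro x hx
  obtain ⟨g, hg, rfl⟩ := List.mem_map.1 hx
  obtain ⟨h1, h2, h3⟩ := core_facts.2.1 g hg
  refine ⟨cert_mem lin_cert h1 h2, Fin.ext ?_⟩
  rw [← (rep_toPerm h1 v5).1]
  exact h3

theorem card_stabGens : Nat.card (genGroup 8 256 stabGens) = 192 := (cert_card stab_cert).trans stab_order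

theorem St_eq : St = genGroup 8 256 stabGens := by
  classical
  refine (Subgroup.eq_of_le_of_card_ge genGroup_le_St ?_).symm
  rw [card_stabGens]
  have hO : 135 ≤ Nat.card (MulAction.orbit Lgrp v5) := by
    have hsub : ((Finset.univ.filter fun v : Vec => singB v = true) : Set Vec) ⊆ MulAction.orbit Lgrp v5 := by
      intro v hv
      simp only [Finset.coe_filter, Finset.mem_univ, true_and, Set.mem_ofPred_eq] at hv
      obtain ⟨g, hg, e⟩ := exists_to ((sing_iff v).2 hv)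
      exact ⟨⟨g, hg⟩, e⟩
    rw [Nat.card_coe_set_eq]
    refine le_trans ?_ (Set.ncard_le_ncard hsub (Set.toFinite _))
    rw [Set.ncard_coe_finset]
    have e : ((Finset.univ.filter fun v : Vec => singB v = true).map Fin.valEmbedding) =
        (List.range 256).toFinset.filter fun i => singB i = true := by
      ext i
      simp only [Finset.mem_map, Finset.mem_filter, Finset.mem_univ, true_and, List.mem_toFinset, List.mem_range,
        Fin.valEmbedding_apply]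
      exact ⟨fun ⟨p, hp, hpi⟩ => hpi ▸ ⟨p.2, hp⟩, fun h => ⟨⟨i, h.1⟩, h.2, rfl⟩⟩
    rw [← Finset.card_map, e, ← List.toFinset_filter, List.toFinset_card_of_nodup (List.nodup_range.filter _),
      ← List.countP_eq_length_filter]
    exact core_facts.1.ge
  have h := MulAction.index_stabilizer Lgrp v5
  have h2 := (MulAction.stabilizer Lgrp v5).card_mul_index
  rw [card_Lgrp] at h2
  rw [Nat.card_coe_set_eq] at hO
  have hinj : Nat.card St ≤ Nat.card (MulAction.stabilizer Lgrp v5) :=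
    Nat.card_le_card_of_injective (fun g : St => (⟨⟨g.1, g.2.1⟩, g.2.2⟩ : MulAction.stabilizer Lgrp v5))
      fun a b e => Subtype.ext (congrArg (fun x => ((x.1 : Lgrp) : Equiv.Perm Vec)) e)
  have hi : 135 ≤ (MulAction.stabilizer Lgrp v5).index := by omega
  have := Nat.mul_le_mul_left (Nat.card (MulAction.stabilizer Lgrp v5)) hi
  exact le_trans hinj (by omega)

theorem rep_core {a : Elt} (ha : a ∈ coreLin) : Rep 8 a (toPerm 8 256 a) := rep_toPerm (core_facts.2.2.2.2.1 a ha).1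

/-- The core of the stabiliser. -/
def Core : Subgroup (Equiv.Perm Vec) :=
  Subgroup.closure {x | ∃ a ∈ coreLin, toPerm 8 256 a = x}

theorem core_cases {x : Equiv.Perm Vec} (hx : x ∈ Core) : ∃ a ∈ coreLin, toPerm 8 256 a = x := by
  have hx' : x ∈ Submonoid.closure {x | ∃ a ∈ coreLin, toPerm 8 256 a = x} := by
    rw [← Subgroup.closure_toSubmonoid_of_finite]; exact hx
  induction hx' using Submonoid.closure_induction with
  | mem y hy => exact hy
  | one =>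
    obtain ⟨a, ha, e⟩ := core_facts.2.2.2.2.2
    exact ⟨a, ha, rep_eq_code (rep_core ha) (rep_one (by norm_num)) e⟩
  | mul y y' hy hy' ih ih' =>
    have mc : ∀ {u}, u ∈ Submonoid.closure {x | ∃ a ∈ coreLin, toPerm 8 256 a = x} → u ∈ Core := fun hu => by
      rw [← Subgroup.closure_toSubmonoid_of_finite] at hu; exact hu
    obtain ⟨a, ha, rfl⟩ := ih (mc hy)
    obtain ⟨b, hb, rfl⟩ := ih' (mc hy')
    obtain ⟨c, hc, e⟩ := (core_facts.2.2.2.2.1 a ha).2.2.1 b hb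
    exact ⟨c, hc, rep_eq_code (rep_core hc) (rep_mul (rep_core ha) (rep_core hb)) e⟩

theorem core_le_St : Core ≤ St := by
  rw [Core, Subgroup.closure_le, St_eq]
  rintro _ ⟨a, ha, rfl⟩
  exact cert_mem stab_cert (core_facts.2.2.2.2.1 a ha).1 (core_facts.2.2.2.2.1 a ha).2.1

theorem St_conj : ∀ x ∈ St, ∀ n ∈ Core, x * n * x⁻¹ ∈ Core := by
  intro x hx
  rw [St_eq, genGroup] at hx
  have hx' : x ∈ Submonoid.closure {σ | σ ∈ stabGens.map (toPerm 8 256)} := by
    rw [← Subgroup.closure_toSubmonoid_of_finite]; exact hx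
  clear hx
  induction hx' using Submonoid.closure_induction with
  | mem y hy =>
    intro n hn
    obtain ⟨g, hg, rfl⟩ := List.mem_map.1 hy
    have hg' := rep_toPerm (core_facts.2.1 g hg).1
    obtain ⟨a, ha, rfl⟩ := core_cases hn
    obtain ⟨c, hc, e⟩ := (core_facts.2.2.2.2.1 a ha).2.2.2 g hg
    exact Subgroup.subset_closure
      ⟨c, hc, rep_eq_code (rep_core hc) (rep_mul (rep_mul hg' (rep_core ha)) (rep_inv hg')) e⟩
  | one => intro n hn; simpa using hn
  | mul y y' _ _ ih ih' =>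
    intro n hn
    have := ih _ (ih' n hn)
    rwa [show y * y' * n * (y * y')⁻¹ = y * (y' * n * y'⁻¹) * y⁻¹ from by group]

theorem card_Core : Nat.card Core = 32 := by
  classical
  let L := coreLin.map (toPerm 8 256)
  have hnd : L.Nodup := by
    refine (List.Nodup.of_map _ core_facts.2.2.1).map_on fun a ha b hb e => ?_
    refine List.inj_on_of_nodup_map core_facts.2.2.1 ha hb ?_
    exact comp_eq_of (a := a) (b := one 8 256) (c := b) (d := one 8 256) (rep_core ha) (rep_one (by norm_num))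
      (rep_core hb) (rep_one (by norm_num)) (by rw [e])
  have e : (Core : Set (Equiv.Perm Vec)) = (L.toFinset : Set (Equiv.Perm Vec)) := by
    ext x
    simp only [SetLike.mem_coe, List.coe_toFinset, Set.mem_ofPred_eq, L, List.mem_map]
    exact ⟨fun hx => core_cases hx, fun ⟨a, ha, e⟩ => Subgroup.subset_closure ⟨a, ha, e⟩⟩
  rw [← SetLike.coe_sort_coe, e, Nat.card_coe_set_eq, Set.ncard_coe_finset, List.toFinset_card_of_nodup hnd,
    List.length_map, core_facts.2.2.2.1]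

theorem exists_S3 : ∃ x y : Equiv.Perm Vec, x ∈ St ∧ y ∈ St ∧ x * x = 1 ∧ (y * y) * (y * y) = 1 ∧
    x * y * (x * y * (x * y)) = 1 ∧ x * y ≠ 1 := by
  have := core_ok
  simp only [coreOK, Bool.and_eq_true, Nat.beq_eq, Bool.not_eq_true', ← Bool.not_eq_true] at this
  obtain ⟨-, ⟨⟨⟨⟨⟨⟨hvx, hvy⟩, hsx⟩, hsy⟩, e1⟩, e2⟩, e3⟩, e4⟩ := this
  have hx := rep_toPerm hvx
  have hy := rep_toPerm hvy
  have h1 := rep_one (w := 8) (n := 256) (by norm_num)
  refine ⟨toPerm 8 256 stabPair.1, toPerm 8 256 stabPair.2, ?_, ?_, rep_eq_code (rep_mul hx hx) h1 e1,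
    rep_eq_code (rep_mul (rep_mul hy hy) (rep_mul hy hy)) h1 e2,
    rep_eq_code (rep_mul (rep_mul hx hy) (rep_mul (rep_mul hx hy) (rep_mul hx hy))) h1 e3, fun h => e4 ?_⟩
  · rw [St_eq]; exact cert_mem stab_cert hvx hsx
  · rw [St_eq]; exact cert_mem stab_cert hvy hsy
  · exact comp_eq_of (a := mul 8 256 stabPair.1 stabPair.2) (b := one 8 256) (c := one 8 256) (d := one 8 256)
      (rep_mul hx hy) h1 h1 h1 (by rw [h])

/-- A normal subgroup of exponent two of the stabiliser lies in the core. -/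
theorem le_core {N : Subgroup (Equiv.Perm Vec)} (hN : N ≤ St) (hsq : ∀ a ∈ N, a * a = 1)
    (hnor : ∀ g ∈ St, ∀ a ∈ N, g * a * g⁻¹ ∈ N) : N ≤ Core := by
  classical
  haveI : Fact (Nat.Prime 2) := ⟨Nat.prime_two⟩
  let N' := N.subgroupOf St
  let C' := Core.subgroupOf St
  haveI hNn : N'.Normal := ⟨fun a ha g => hnor g g.2 a ha⟩
  haveI hCn : C'.Normal := ⟨fun a ha g => St_conj g g.2 a ha⟩
  have hN2 : IsPGroup 2 N' := fun a => ⟨1, Subtype.ext (Subtype.ext (by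
    rw [pow_one, pow_two, Subgroup.coe_mul, Subgroup.coe_mul]
    exact hsq _ a.2))⟩
  have hC2 : IsPGroup 2 C' := IsPGroup.of_card (n := 5) (by
    rw [Nat.card_congr (Subgroup.subgroupOfEquivOfLe core_le_St).toEquiv, card_Core]; norm_num)
  have hK2 : IsPGroup 2 ↥(N' ⊔ C') := IsPGroup.to_sup_of_normal_right hN2 hC2
  by_cases hle : N' ≤ C'
  · exact fun a ha => Subgroup.mem_subgroupOf.1 (hle (show (⟨a, hN ha⟩ : St) ∈ N' from ha))
  exfalso
  have hlt : C' < N' ⊔ C' := lt_of_le_of_ne le_sup_right fun e => hle (e ▸ le_sup_left)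
  have hStc : Nat.card St = 192 := by rw [St_eq, card_stabGens]
  obtain ⟨k, hk⟩ := IsPGroup.iff_card.1 hK2
  have h32 : 32 < Nat.card ↥(N' ⊔ C') := by
    rw [← card_Core, ← Nat.card_congr (Subgroup.subgroupOfEquivOfLe core_le_St).toEquiv]
    exact (Nat.card_coe_set_eq _).trans_lt ((Set.ncard_lt_ncard (SetLike.coe_ssubset_coe.2 hlt)
      (Set.toFinite _)).trans_eq (Nat.card_coe_set_eq _).symm)
  have hdvd : 2 ^ k ∣ 192 := hStc ▸ hk ▸ Subgroup.card_subgroup_dvd_card _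
  have hk6 : k = 6 := by
    have h7 : k ≤ 6 := by
      by_contra h
      have : 2 ^ 7 ∣ 192 := (pow_dvd_pow 2 (show 7 ≤ k by omega)).trans hdvd
      norm_num at this
    have : 6 ≤ k := by
      by_contra h
      have := Nat.pow_le_pow_right (show 2 > 0 by norm_num) (show k ≤ 5 by omega)
      omega
    omega
  have hfac : Nat.card ↥(N' ⊔ C') = 2 ^ (Nat.card St).factorization 2 := by
    rw [hk, hk6, hStc, show (192 : ℕ) = 2 ^ 6 * 3 from rfl, Nat.factorization_mul (by norm_num) (by norm_num),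
      Nat.Prime.factorization_pow Nat.prime_two]
    simp [Nat.factorization_eq_zero_of_not_dvd (show ¬ 2 ∣ 3 by norm_num)]
  let S : Sylow 2 St := Sylow.ofCard (N' ⊔ C') hfac
  haveI hSn : (S : Subgroup St).Normal := by
    show (N' ⊔ C').Normal
    infer_instance
  haveI : Subsingleton (Sylow 2 St) := by
    haveI := Sylow.unique_of_normal S hSn
    infer_instance
  have hall : ∀ u : St, (∃ j : ℕ, u ^ (2 ^ j) = 1) → u ∈ N' ⊔ C' := by
    rintro u ⟨j, hj⟩
    have hp : IsPGroup 2 (Subgroup.zpowers u) := by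
      rintro ⟨_, m, rfl⟩
      refine ⟨j, Subtype.ext ?_⟩
      show (u ^ m) ^ (2 ^ j) = 1
      rw [← zpow_natCast, ← zpow_mul, mul_comm, zpow_mul, zpow_natCast, hj, one_zpow]
    obtain ⟨Q, hQ⟩ := hp.exists_le_sylow
    have hQS : Q = S := Subsingleton.elim _ _
    exact (show (Q : Subgroup St) = N' ⊔ C' by rw [hQS]; rfl) ▸ hQ (Subgroup.mem_zpowers u)
  obtain ⟨x, y, hx, hy, hx2, hy4, hxy3, hxy⟩ := exists_S3
  have hxK := hall ⟨x, hx⟩ ⟨1, Subtype.ext (by rw [pow_one, pow_two]; exact hx2)⟩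
  have hyK := hall ⟨y, hy⟩ ⟨2, Subtype.ext (by
    rw [show 2 ^ 2 = 2 + 2 from rfl, pow_add, pow_two]; exact hy4)⟩
  obtain ⟨j, hj⟩ := hK2 ⟨_, mul_mem hxK hyK⟩
  apply hxy
  have h3 : (x * y) ^ 3 = 1 := by rw [pow_succ', pow_two]; exact hxy3
  have h2 : (x * y) ^ (2 ^ j) = 1 := by
    have := congrArg (fun u : ↥(N' ⊔ C') => ((u : St) : Equiv.Perm Vec)) hj
    simpa using this
  have := pow_gcd_eq_one.2 ⟨h3, h2⟩
  rwa [Nat.Coprime.pow_right j (show Nat.Coprime 3 2 by norm_num), pow_one] at this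

/-- A normal subgroup of exponent two of the stabiliser has order at most eight. -/
theorem card_le_eight {N : Subgroup (Equiv.Perm Vec)} (hN : N ≤ St) (hsq : ∀ a ∈ N, a * a = 1)
    (hnor : ∀ g ∈ St, ∀ a ∈ N, g * a * g⁻¹ ∈ N) : Nat.card N ≤ 8 := by
  classical
  have hle := le_core hN hsq hnor
  haveI : Fact (Nat.Prime 2) := ⟨Nat.prime_two⟩
  obtain ⟨k, hk⟩ := IsPGroup.iff_card.1 (show IsPGroup 2 N from fun a => ⟨1, Subtype.ext (by
    rw [pow_one, pow_two, Subgroup.coe_mul]; exact hsq _ a.2)⟩)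
  rw [hk]
  by_contra hlt
  have h16 : 16 ≤ Nat.card N := by
    rw [hk]
    exact Nat.pow_le_pow_right (show 2 > 0 by norm_num) (show 4 ≤ k by
      by_contra h
      exact hlt (Nat.pow_le_pow_right (show 2 > 0 by norm_num) (show k ≤ 3 by omega)))
  let D := ((N : Set (Equiv.Perm Vec)) \ {1})
  have hD : 15 ≤ D.ncard := by
    have h := Set.ncard_sdiff_singleton_add_one (show (1 : Equiv.Perm Vec) ∈ (N : Set _) from one_mem N) (Set.toFinite _)
    rw [← SetLike.coe_sort_coe, Nat.card_coe_set_eq] at h16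
    show 15 ≤ ((N : Set (Equiv.Perm Vec)) \ {1}).ncard
    omega
  have count : ∀ (l : List Elt) (E : Set (Equiv.Perm Vec)), (∀ b ∈ E, ∃ a ∈ l, toPerm 8 256 a = b) →
      E.ncard ≤ l.length := by
    intro l E h
    refine le_trans (Set.ncard_le_ncard (t := ((l.map (toPerm 8 256)).toFinset : Set (Equiv.Perm Vec))) ?_
      (Finset.finite_toSet _)) ?_
    · intro b hb
      obtain ⟨a, ha, e⟩ := h b hb
      exact Finset.mem_coe.2 (List.mem_toFinset.2 (List.mem_map.2 ⟨a, ha, e⟩))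
    · rw [Set.ncard_coe_finset]
      exact (List.toFinset_card_le _).trans (le_of_eq (List.length_map _))
  have hinv : ∀ b ∈ D, ∃ a ∈ coreLin.filter isInvL, toPerm 8 256 a = b := by
    rintro b ⟨hb, hb1⟩
    obtain ⟨a, ha, rfl⟩ := core_cases (hle hb)
    have hr := rep_core ha
    have h1 := rep_one (w := 8) (n := 256) (by norm_num)
    refine ⟨a, List.mem_filter.2 ⟨ha, ?_⟩, rfl⟩
    simp only [isInvL, Bool.and_eq_true, Bool.not_eq_true', Nat.beq_eq, ← Bool.not_eq_true]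
    refine ⟨?_, fun hc => hb1 ?_⟩
    · have := comp_eq_of hr hr h1 h1 (by rw [hsq _ hb, mul_one])
      rw [this]
      exact pack_congr fun i hi => by
        show get 8 (idCode 8 256) (get 8 (idCode 8 256) i) = i
        rw [get_idCode 8 256 i (by norm_num) hi, get_idCode 8 256 i (by norm_num) hi]
    · refine Equiv.ext fun i => Fin.ext ?_
      have := congrArg (fun c => get 8 c i) hc
      simp only [get_comp 8 256 _ _ _ i.2, get_idCode 8 256 _ (by norm_num) i.2] at this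
      rw [← (hr i).1]
      exact this
  have hbig : ∀ b ∈ D, ∃ a ∈ coreBig, toPerm 8 256 a = b := by
    intro b hb
    obtain ⟨a, ha, rfl⟩ := hinv b hb
    refine ⟨a, List.mem_filter.2 ⟨ha, Nat.ble_eq.mpr ?_⟩, rfl⟩
    rw [List.countP_eq_length_filter]
    refine hD.trans (count _ D fun c hc => ?_)
    obtain ⟨a', ha', rfl⟩ := hinv c hc
    refine ⟨a', List.mem_filter.2 ⟨ha', ?_⟩, rfl⟩
    rw [Nat.beq_eq]
    have hra := rep_core (List.mem_of_mem_filter ha)
    have hrb := rep_core (List.mem_of_mem_filter ha')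
    refine comp_eq_of hra hrb hrb hra ?_
    have h2 := hsq _ (mul_mem hb.1 hc.1)
    have ea := inv_eq_of_mul_eq_one_right (hsq _ hb.1)
    have eb := inv_eq_of_mul_eq_one_right (hsq _ hc.1)
    rw [← inv_eq_of_mul_eq_one_right h2, mul_inv_rev, ea, eb]
  have := hD.trans (count _ D hbig)
  have hb := coreBig_ok
  rw [Nat.ble_eq] at hb
  omega

/-! ### Transport -/

theorem lin_q {g : Equiv.Perm Vec} (hg : g ∈ Lgrp) (v : Vec) : q0 (g v) = q0 v := (linLike hg).2.2 v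

theorem lin_pol {g : Equiv.Perm Vec} (hg : g ∈ Lgrp) (a b : Vec) : polC (g a) (g b) = polC a b := by
  show Nat.xor (q0 (xorV (g a) (g b))) _ = Nat.xor (q0 (xorV a b)) _
  rw [← (linLike hg).1, lin_q hg, lin_q hg, lin_q hg]

/-- A normal subgroup of exponent two of a stabiliser of a singular vector. -/
theorem stab_elem8 {n : Vec} (hn : Sing n) {N : Subgroup (Equiv.Perm Vec)} (hN : ∀ a ∈ N, a ∈ Lgrp ∧ a n = n)
    (hsq : ∀ a ∈ N, a * a = 1) (hnor : ∀ g ∈ Lgrp, g n = n → ∀ a ∈ N, g * a * g⁻¹ ∈ N) : Nat.card N ≤ 8 := by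
  obtain ⟨γ, hγ, e⟩ := exists_to hn
  rw [← Subgroup.card_map_of_injective (f := (MulAut.conj γ⁻¹).toMonoidHom) (MulAut.conj γ⁻¹).injective]
  refine card_le_eight ?_ ?_ ?_
  · rintro _ ⟨a, ha, rfl⟩
    obtain ⟨hl, hf⟩ := hN a ha
    refine ⟨mul_mem (mul_mem (inv_mem hγ) hl) (inv_mem (inv_mem hγ)), ?_⟩
    show (γ⁻¹ * a * γ⁻¹⁻¹) v5 = v5
    simp only [inv_inv, Equiv.Perm.mul_apply, e, hf]
    rw [← e, perm_inv_self]
  · rintro _ ⟨a, ha, rfl⟩
    show γ⁻¹ * a * γ⁻¹⁻¹ * (γ⁻¹ * a * γ⁻¹⁻¹) = 1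
    rw [show γ⁻¹ * a * γ⁻¹⁻¹ * (γ⁻¹ * a * γ⁻¹⁻¹) = γ⁻¹ * (a * a) * γ from by group, hsq a ha, mul_one, inv_mul_cancel]
  · rintro g ⟨hg, hgf⟩ _ ⟨a, ha, rfl⟩
    refine ⟨γ * g * γ⁻¹ * a * (γ * g * γ⁻¹)⁻¹, hnor _ (mul_mem (mul_mem hγ hg) (inv_mem hγ)) ?_ a ha, ?_⟩
    · simp only [Equiv.Perm.mul_apply]
      rw [← e, perm_inv_self, hgf]
    · show γ⁻¹ * _ * γ⁻¹⁻¹ = g * (γ⁻¹ * a * γ⁻¹⁻¹) * g⁻¹
      group

theorem close_five {W : Set Vec} (hq : ∀ x ∈ W, q0 x = 0) (hadd : ∀ x ∈ W, ∀ y ∈ W, xorV x y ∈ W)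
    (hinv : ∀ g ∈ St, ∀ x ∈ W, g x ∈ W) (h5 : v5 ∈ W) {x : Vec} (hx : x ∈ W) (hx0 : (x : ℕ) ≠ 0)
    (hx5 : x ≠ v5) : omV v5 ∈ W := by
  have := close_ok
  simp only [closeOK, Bool.and_eq_true] at this
  have h := allBelow_spec _ _ this.1 x x.2
  have hq5 : q0 5 = 0 := hq v5 h5
  have hpol : polC x 5 = 0 := by
    show Nat.xor (q0 (xorV x v5)) (Nat.xor (q0 x) (q0 5)) = 0
    rw [hq _ (hadd x hx v5 h5), hq x hx, hq5]
    rfl
  simp only [Bool.or_eq_true, Nat.beq_eq, List.any_eq_true, Bool.not_eq_true', Bool.and_eq_false_iff,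
    ← Bool.not_eq_true] at h
  rcases h with ((h | h) | h) | ⟨g, hg, h⟩
  · exact absurd h hx0
  · exact absurd (Fin.ext h) hx5
  · exact absurd h (by simp [hq x hx, hpol])
  have hmem : ∀ a ∈ coreLin, (toPerm 8 256 a) x ∈ W ∧ ((toPerm 8 256 a x : Vec) : ℕ) = get 8 a.1 x := fun a ha =>
    ⟨hinv _ (core_le_St (Subgroup.subset_closure ⟨a, ha, rfl⟩)) x hx, ((rep_core ha) x).1.symm⟩
  obtain ⟨hgW, hgv⟩ := hmem g hg
  rcases h with h | ⟨k, hk, u, hu, h⟩
  · rw [← hgv] at h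
    change Nat.xor (q0 (xorV x (toPerm 8 256 g x))) (Nat.xor (q0 x) (q0 (toPerm 8 256 g x))) = 1 at h
    rw [hq _ (hadd x hx _ hgW), hq x hx, hq _ hgW] at h
    exact absurd h (by decide)
  · obtain ⟨hkW, hkv⟩ := hmem k hk
    rw [h, ← hgv, ← hkv] at hu
    have h0 : (⟨0, by norm_num⟩ : Vec) ∈ W := by
      have := hadd x hx x hx
      rwa [show xorV x x = (⟨0, by norm_num⟩ : Vec) from Fin.ext (Nat.xor_self _)] at this
    obtain ⟨y, hy, hye⟩ : ∃ y : Vec, y ∈ W ∧ (y : ℕ) = omC 5 := by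
      simp only [spanFour, List.mem_cons, List.not_mem_nil, or_false] at hu
      have W2 := fun {a b : Vec} (ha : a ∈ W) (hb : b ∈ W) => hadd a ha b hb
      rcases hu with e | e | e | e | e | e | e | e | e | e | e | e | e | e | e | e
      exacts [⟨_, h0, e.symm⟩, ⟨_, h5, e.symm⟩, ⟨_, hx, e.symm⟩, ⟨_, W2 h5 hx, e.symm⟩,
        ⟨_, hgW, e.symm⟩, ⟨_, W2 h5 hgW, e.symm⟩, ⟨_, W2 hx hgW, e.symm⟩, ⟨_, W2 (W2 h5 hx) hgW, e.symm⟩,
        ⟨_, hkW, e.symm⟩, ⟨_, W2 h5 hkW, e.symm⟩, ⟨_, W2 hx hkW, e.symm⟩, ⟨_, W2 (W2 h5 hx) hkW, e.symm⟩,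
        ⟨_, W2 hgW hkW, e.symm⟩, ⟨_, W2 (W2 h5 hgW) hkW, e.symm⟩, ⟨_, W2 (W2 hx hgW) hkW, e.symm⟩,
        ⟨_, W2 (W2 (W2 h5 hx) hgW) hkW, e.symm⟩]
    rwa [show omV v5 = y from Fin.ext hye.symm]

/-- A totally singular set invariant under the stabiliser of a vector contains its multiples by `ω`. -/
theorem close_line {n : Vec} (hn : Sing n) {W : Set Vec} (hq : ∀ x ∈ W, q0 x = 0)
    (hadd : ∀ x ∈ W, ∀ y ∈ W, xorV x y ∈ W) (hinv : ∀ g ∈ Lgrp, g n = n → ∀ x ∈ W, g x ∈ W) (hnW : n ∈ W)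
    {x : Vec} (hx : x ∈ W) (hx0 : (x : ℕ) ≠ 0) (hxn : x ≠ n) : omV n ∈ W := by
  obtain ⟨γ, hγ, e⟩ := exists_to hn
  have h := close_five (W := {u | γ u ∈ W}) (fun u hu => (lin_q hγ u).symm.trans (hq _ hu))
    (fun a ha b hb => show γ (xorV a b) ∈ W by rw [(linLike hγ).1]; exact hadd _ ha _ hb)
    (fun g hg u hu => show γ (g u) ∈ W by
      have h := hinv (γ * g * γ⁻¹) (mul_mem (mul_mem hγ hg.1) (inv_mem hγ)) (by
        simp only [Equiv.Perm.mul_apply]; rw [← e, perm_inv_self, hg.2]) _ hu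
      simpa using h)
    (show γ v5 ∈ W by rw [e]; exact hnW)
    (x := γ⁻¹ x) (show γ (γ⁻¹ x) ∈ W by simpa using hx)
    (fun h => hx0 ?_) (fun h => hxn (by rw [← e, ← h]; simp))
  · rw [Set.mem_ofPred_eq, (linLike hγ).2.1, e] at h
    exact h
  · have : γ⁻¹ x = ⟨0, by norm_num⟩ := Fin.ext h
    have h2 : γ (γ⁻¹ x) = ⟨0, by norm_num⟩ := by rw [this, lin_zero hγ]
    rw [perm_self_inv] at h2
    exact congrArg Fin.val h2

end Cfsg.Agent.U62Rec.Model
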