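import Cfsg.Agent.Lib.U62Rec.Model.Checks
import Mathlib.GroupTheory.Sylow

/-!
The unitary group in dimension four over four elements on the 45 points: the transvections, their
orthogonality and the involutions.
-/

set_option autoImplicit false
set_option maxRecDepth 20000

namespace Cfsg.Agent.U62Rec.Model

open Cfsg.Agent.PermCert

/-- The points. -/
abbrev Pt : Type := Fin 45

/-- The orthogonality of points. -/
def adjP (p q : Pt) : Prop := adjB p q = true

instance : DecidableRel adjP := fun p q => inferInstanceAs (Decidable (adjB p q = true))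

/-- The group on the points. -/
abbrev Grp : Subgroup (Equiv.Perm Pt) := genGroup 6 45 ptGens

theorem card_Grp : Nat.card Grp = 25920 := (cert_card pt_cert).trans pt_order

/-- The transvection with given centre, on the points. -/
def tvP (p : Pt) : Equiv.Perm Pt := toPerm 6 45 (tvElt p)

theorem pack_congr {w : ℕ} {f g : ℕ → ℕ} : ∀ {n : ℕ}, (∀ i < n, f i = g i) → pack w f n = pack w g n
  | 0, _ => rfl
  | n + 1, h => by
    rw [pack_succ, pack_succ, h n (Nat.lt_succ_self n), pack_congr fun i hi => h i (hi.trans (Nat.lt_succ_self n))]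

theorem comp_id_eq {w n : ℕ} (hn : n ≤ 2 ^ w) {a b : Elt} {σ : Equiv.Perm (Fin n)} (ha : Rep w a σ)
    (hb : Rep w b σ) : comp w n a.1 (idCode w n) = comp w n b.1 (idCode w n) :=
  pack_congr fun i hi => by
    rw [get_idCode w n i hn hi, (ha ⟨i, hi⟩).1, (hb ⟨i, hi⟩).1]

theorem canon_eq {a b : Elt} {σ : Equiv.Perm Pt} (ha : Rep 6 a σ) (hb : Rep 6 b σ) : canon a.1 = canon b.1 :=
  comp_id_eq (by norm_num) ha hb

theorem rep_inv {w n : ℕ} {e : Elt} {σ : Equiv.Perm (Fin n)} (h : Rep w e σ) : Rep w (e.2, e.1) σ⁻¹ :=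
  fun i => ⟨(h i).2, by rw [inv_inv]; exact (h i).1⟩

theorem rep_pt (j : ℕ) (hj : j < 6) : Rep 6 (ptElt j) (toPerm 6 45 (ptElt j)) := by
  have h := allBelow_spec _ _ genLin_ok j hj
  simp only [Bool.and_eq_true] at h
  exact rep_toPerm h.1.1.2

theorem gen_mem (j : ℕ) (hj : j < 6) : toPerm 6 45 (ptElt j) ∈ Grp :=
  Subgroup.subset_closure (List.mem_map.2 ⟨_, by
    rw [ptElt, List.getD_eq_getElem _ _ (by rw [lengths.2.1]; exact hj)]
    exact List.getElem_mem _, rfl⟩)

/-- A property of the generators closed under products and inverses holds in the group. -/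
theorem grp_induction {P : Equiv.Perm Pt → Prop} (hg : ∀ j < 6, P (toPerm 6 45 (ptElt j))) (h1 : P 1)
    (hm : ∀ a b, P a → P b → P (a * b)) {g : Equiv.Perm Pt} (h : g ∈ Grp) : P g := by
  have h' : g ∈ Submonoid.closure {σ | σ ∈ ptGens.map (toPerm 6 45)} := by
    rw [← Subgroup.closure_toSubmonoid_of_finite]; exact h
  induction h' using Submonoid.closure_induction with
  | mem x hx =>
    obtain ⟨e, he, rfl⟩ := List.mem_map.1 hx
    obtain ⟨j, hj, rfl⟩ := List.getElem_of_mem he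
    have := hg j (by rw [← lengths.2.1]; exact hj)
    rwa [ptElt, List.getD_eq_getElem _ _ hj] at this
  | one => exact h1
  | mul a b ha hb iha ihb =>
    have mg : ∀ {x}, x ∈ Submonoid.closure {σ | σ ∈ ptGens.map (toPerm 6 45)} → x ∈ Grp := fun hx => by
      rw [← Subgroup.closure_toSubmonoid_of_finite] at hx; exact hx
    exact hm a b (iha (mg ha)) (ihb (mg hb))

/-! ### Orthogonality -/

theorem adj_symm {p q : Pt} (h : adjP p q) : adjP q p := by
  have := adj_ok
  simp only [adjOK, Bool.and_eq_true] at this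
  have h1 := allBelow_spec _ _ this.1 p p.2
  simp only [Bool.and_eq_true] at h1
  have h2 := allBelow_spec _ _ h1.1.1 q q.2
  simp only [Bool.and_eq_true, beq_iff_eq] at h2
  rwa [adjP, ← h2.2]

theorem adj_iff_herm {p q : Pt} : adjP p q ↔ p ≠ q ∧ herm (repC p) (repC q) = 0 := by
  have := adj_ok
  simp only [adjOK, Bool.and_eq_true] at this
  have h1 := allBelow_spec _ _ this.1 p p.2
  simp only [Bool.and_eq_true] at h1
  have h2 := allBelow_spec _ _ h1.1.1 q q.2
  simp only [Bool.and_eq_true, beq_iff_eq] at h2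
  rw [adjP, h2.1, Bool.and_eq_true, Bool.not_eq_true', Nat.beq_eq, ← Bool.not_eq_true, Nat.beq_eq]
  simp [Fin.ext_iff]

theorem adj_irrefl (p : Pt) : ¬ adjP p p := fun h => (adj_iff_herm.1 h).1 rfl

theorem ncard_eq_countP (P : Pt → Prop) [DecidablePred P] (b : ℕ → Bool) (h : ∀ p : Pt, P p ↔ b p = true) :
    {p | P p}.ncard = (List.range 45).countP b := by
  classical
  have e : ((Finset.univ.filter P).map Fin.valEmbedding) = (List.range 45).toFinset.filter fun i => b i = true := by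
    ext i
    simp only [Finset.mem_map, Finset.mem_filter, Finset.mem_univ, true_and, List.mem_toFinset, List.mem_range,
      Fin.valEmbedding_apply]
    constructor
    · rintro ⟨p, hp, rfl⟩; exact ⟨p.2, (h p).1 hp⟩
    · rintro ⟨hi, hb⟩; exact ⟨⟨i, hi⟩, (h ⟨i, hi⟩).2 hb, rfl⟩
  rw [Set.ncard_eq_toFinset_card' , List.countP_eq_length_filter,
    ← List.toFinset_card_of_nodup (List.nodup_range.filter _), List.toFinset_filter, ← e, Finset.card_map]
  congr 1
  ext p
  simp

theorem adj_card (p : Pt) : {q | adjP p q}.ncard = 12 := by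
  have := adj_ok
  simp only [adjOK, Bool.and_eq_true] at this
  have h1 := allBelow_spec _ _ this.1 p p.2
  simp only [Bool.and_eq_true, Nat.beq_eq] at h1
  rw [ncard_eq_countP (fun q => adjP p q) (adjB p) fun q => Iff.rfl, h1.1.2]

theorem common (p q : Pt) (hne : p ≠ q) (hadj : ¬ adjP p q) : 3 ≤ {r | adjP p r ∧ adjP q r}.ncard := by
  have := adj_ok
  simp only [adjOK, Bool.and_eq_true] at this
  have h1 := allBelow_spec _ _ this.1 p p.2
  simp only [Bool.and_eq_true] at h1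
  have h2 := allBelow_spec _ _ h1.2 q q.2
  simp only [Bool.or_eq_true, Nat.beq_eq, Nat.ble_eq] at h2
  rw [ncard_eq_countP (fun r => adjP p r ∧ adjP q r) (fun r => adjB p r && adjB q r) fun r => by simp [adjP, Bool.and_eq_true]]
  exact h2.resolve_left fun h => h.elim (fun h => hne (Fin.ext h)) hadj

theorem connected (S : Set Pt) (hS : S.Nonempty) (hc : ∀ p q, p ∈ S → adjP p q → q ∈ S) : S = Set.univ := by
  obtain ⟨p, hp⟩ := hS
  refine Set.eq_univ_of_forall fun q => ?_
  rcases eq_or_ne p q with rfl | hne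
  · exact hp
  by_cases hadj : adjP p q
  · exact hc p q hp hadj
  obtain ⟨r, hr1, hr2⟩ := (Set.ncard_pos (Set.toFinite _)).1 (lt_of_lt_of_le (by norm_num) (common p q hne hadj))
  exact hc r q (hc p r hp hr1) (adj_symm hr2)

theorem adj_perm {g : Equiv.Perm Pt} (hg : g ∈ Grp) : ∀ p q, adjP (g p) (g q) ↔ adjP p q := by
  refine grp_induction (P := fun g => ∀ p q, adjP (g p) (g q) ↔ adjP p q) (fun j hj p q => ?_) (fun p q => Iff.rfl)
    (fun a b ha hb p q => (ha _ _).trans (hb p q)) hg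
  have := adj_ok
  simp only [adjOK, Bool.and_eq_true] at this
  have h := allBelow_spec _ _ (allBelow_spec _ _ (allBelow_spec _ _ this.2 j hj) p p.2) q q.2
  rw [beq_iff_eq, (rep_pt j hj p).1, (rep_pt j hj q).1] at h
  simp only [adjP, h]

/-! ### Transvections -/

set_option maxHeartbeats 2000000 in
theorem tv_check (p : Pt) : validElt 6 45 (tvElt p) = true ∧ (tvElt p).1 = (tvElt p).2 ∧
    canon (tvElt p).1 ≠ canon (idCode 6 45) ∧ sift 6 45 ptLevels (tvElt p).1 = true ∧
    ∀ j < 6, comp 6 45 (comp 6 45 (ptElt j).1 (tvElt p).1) (ptElt j).2 = (tvElt (get 6 (ptElt j).1 p)).1 := by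
  have := tv_ok
  simp only [tvOK, Bool.and_eq_true] at this
  have h := allBelow_spec _ _ this.1 p p.2
  simp only [Bool.and_eq_true, Nat.beq_eq, Bool.not_eq_true', ← Bool.not_eq_true] at h
  exact ⟨h.1.1.1.1.1.1.1, h.1.1.1.1.1.1.2, h.1.1.1.1.1.2, h.1.1.1.1.2,
    fun j hj => Nat.eq_of_beq_eq_true (allBelow_spec _ _ h.2 j hj)⟩

theorem rep_tv (p : Pt) : Rep 6 (tvElt p) (tvP p) := rep_toPerm (tv_check p).1

theorem tvP_mem (p : Pt) : tvP p ∈ Grp := cert_mem pt_cert (tv_check p).1 (tv_check p).2.2.2.1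

theorem tvP_sq (p : Pt) : tvP p * tvP p = 1 := by
  rw [← eq_inv_iff_mul_eq_one]
  exact rep_eq_code (rep_tv p) (rep_inv (rep_tv p)) (tv_check p).2.1

theorem tvP_ne_one (p : Pt) : tvP p ≠ 1 := fun h => by
  have h1 := rep_tv p
  rw [h] at h1
  exact (tv_check p).2.2.1 (canon_eq (b := one 6 45) h1 (rep_one (by norm_num)))

theorem tvP_conj {g : Equiv.Perm Pt} (hg : g ∈ Grp) : ∀ p, g * tvP p * g⁻¹ = tvP (g p) := by
  refine grp_induction (P := fun g => ∀ p, g * tvP p * g⁻¹ = tvP (g p)) (fun j hj p => ?_)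
    (fun p => by simp) (fun a b ha hb p => ?_) hg
  · have hr := rep_pt j hj
    refine rep_eq_code (rep_mul (rep_mul hr (rep_tv p)) (rep_inv hr)) (rep_tv _) ?_
    rw [← (hr p).1]
    exact (tv_check p).2.2.2.2 j hj
  · rw [Equiv.Perm.mul_apply, ← ha, ← hb]; group

set_option maxHeartbeats 2000000 in
theorem exists_move (p q : Pt) : ∃ g ∈ Grp, g p = q := by
  have h0 : ∀ r : Pt, ∃ g ∈ Grp, g 0 = r := fun r => by
    have := tv_ok
    simp only [tvOK, Bool.and_eq_true, List.all_eq_true, List.any_eq_true] at this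
    obtain ⟨t, -, ht⟩ := this.2 r (List.mem_range.2 r.2)
    simp only [Bool.and_eq_true, Nat.beq_eq] at ht
    refine ⟨toPerm 6 45 t.2.1, cert_mem pt_cert ht.1.2 ht.2, Fin.ext ?_⟩
    rw [← (rep_toPerm ht.1.2 0).1]
    exact ht.1.1.2
  obtain ⟨a, ha, rfl⟩ := h0 p
  obtain ⟨b, hb, rfl⟩ := h0 q
  exact ⟨b * a⁻¹, mul_mem hb (inv_mem ha), by simp⟩

/-! ### Products of orthogonal transvections -/

set_option maxHeartbeats 2000000 in
theorem prod_check (k : ℕ) (hk : k < 270) :
    ∃ a b : Pt, (a : ℕ) = (pairOf k).1 ∧ (b : ℕ) = (pairOf k).2 ∧ a < b ∧ adjP a b ∧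
      Rep 6 (prodElt k) (tvP a * tvP b) ∧ tvP a * tvP b = tvP b * tvP a ∧ canon (prodElt k).1 ≠ canon (idCode 6 45) ∧
      (prodElt k).1 = (prodElt k).2 ∧ ∀ t ∈ tvPts, canon t.1 ≠ canon (prodElt k).1 := by
  have := prod_ok
  simp only [prodOK, Bool.and_eq_true] at this
  have h := allBelow_spec _ _ this.1.1 k hk
  simp only [Bool.and_eq_true, Nat.beq_eq, Nat.blt_eq, Bool.not_eq_true', ← Bool.not_eq_true,
    List.all_eq_true] at h
  obtain ⟨⟨⟨⟨⟨⟨⟨⟨⟨hv, hab⟩, hb⟩, hadj⟩, e1⟩, e2⟩, e3⟩, e4⟩, ht⟩, -⟩ := h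
  refine ⟨⟨_, hab.trans hb⟩, ⟨_, hb⟩, rfl, rfl, hab, hadj, ?_, ?_, e4, e3, ht⟩
  · have hr := rep_toPerm hv
    rwa [rep_eq_code hr (rep_mul (rep_tv ⟨_, hab.trans hb⟩) (rep_tv ⟨_, hb⟩)) e1] at hr
  · exact rep_eq_code (rep_mul (rep_tv ⟨_, hab.trans hb⟩) (rep_tv ⟨_, hb⟩))
      (rep_mul (rep_tv ⟨_, hb⟩) (rep_tv ⟨_, hab.trans hb⟩)) (e1.symm.trans e2)

set_option maxHeartbeats 2000000 in
theorem exists_pair {p q : Pt} (h : adjP p q) :
    ∃ k < 270, Rep 6 (prodElt k) (tvP p * tvP q) ∧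
      (((pairOf k).1 = p ∧ (pairOf k).2 = q) ∨ ((pairOf k).1 = q ∧ (pairOf k).2 = p)) := by
  wlog hlt : p < q generalizing p q
  · have hne := (adj_iff_herm.1 h).1
    obtain ⟨k, hk, hr, he⟩ := this (adj_symm h) (lt_of_le_of_ne (not_lt.1 hlt) hne.symm)
    obtain ⟨a, b, ha, hb, -, -, -, hcomm, -⟩ := prod_check k hk
    refine ⟨k, hk, ?_, he.symm⟩
    have hc : tvP q * tvP p = tvP p * tvP q := by
      rcases he with ⟨e1, e2⟩ | ⟨e1, e2⟩
      · obtain rfl : a = q := Fin.ext (ha.trans e1)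
        obtain rfl : b = p := Fin.ext (hb.trans e2)
        exact hcomm
      · obtain rfl : a = p := Fin.ext (ha.trans e1)
        obtain rfl : b = q := Fin.ext (hb.trans e2)
        exact hcomm.symm
    rwa [hc] at hr
  have := prod_ok
  simp only [prodOK, Bool.and_eq_true] at this
  have h1 := allBelow_spec _ _ (allBelow_spec _ _ this.2 p p.2) q q.2
  have hlt' : Nat.blt p q = true := by rw [Nat.blt_eq]; exact hlt
  simp only [hlt', show adjB p q = true from h, Bool.and_self, Bool.not_true, Bool.false_or,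
    List.any_eq_true, Bool.and_eq_true, Nat.beq_eq] at h1
  obtain ⟨ab, hm, e1, e2⟩ := h1
  obtain ⟨k, hk, hek⟩ := List.getElem_of_mem hm
  have hk' : k < 270 := lengths.2.2.2.2.2.2.1 ▸ hk
  have hp : pairOf k = ab := (List.getD_eq_getElem _ _ hk).trans hek
  obtain ⟨a, b, ha, hb, -, -, hr, -⟩ := prod_check k hk'
  obtain rfl : a = p := Fin.ext (by rw [ha, hp, e1])
  obtain rfl : b = q := Fin.ext (by rw [hb, hp, e2])
  exact ⟨k, hk', hr, Or.inl ⟨ha.symm, hb.symm⟩⟩

theorem tv_comm {p q : Pt} (h : adjP p q) : tvP p * tvP q = tvP q * tvP p := by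
  obtain ⟨k, hk, -, he⟩ := exists_pair h
  obtain ⟨a, b, ha, hb, -, -, -, hcomm, -⟩ := prod_check k hk
  rcases he with ⟨e1, e2⟩ | ⟨e1, e2⟩
  · obtain rfl : a = p := Fin.ext (ha.trans e1)
    obtain rfl : b = q := Fin.ext (hb.trans e2)
    exact hcomm
  · obtain rfl : a = q := Fin.ext (ha.trans e1)
    obtain rfl : b = p := Fin.ext (hb.trans e2)
    exact hcomm.symm

theorem prod_ne_tv {p q r : Pt} (h : adjP p q) : tvP p * tvP q ≠ tvP r := by
  obtain ⟨k, hk, hr, -⟩ := exists_pair h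
  obtain ⟨-, -, -, -, -, -, -, -, -, -, ht⟩ := prod_check k hk
  intro e
  rw [e] at hr
  refine ht (tvElt r) ?_ ?_
  · rw [tvElt, List.getD_eq_getElem _ _ (by rw [lengths.2.2.2.2.2.1]; exact r.2)]
    exact List.getElem_mem _
  · exact canon_eq (rep_tv r) hr

end Cfsg.Agent.U62Rec.Model
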