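import Cfsg.Agent.Lib.U62Rec.Model.Defs
import Mathlib.Algebra.Module.LinearMap.End
import Mathlib.Data.ZMod.Basic

/-!
Six endomorphisms of an elementary abelian group of order 256 satisfying relations which hold in the
symplectic group in dimension four over three elements: three commuting elements of order three, two
generators of a complement and a transvection.
-/

set_option autoImplicit false

namespace Cfsg.Agent.U62Rec.Model.Forced

/-- The relations, as pairs of words in the six generators. -/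
def relList : List (List (Fin 6) × List (Fin 6)) :=
  [([0, 0, 0], []),
   ([0, 1], [1, 0]),
   ([0, 2], [2, 0]),
   ([1, 1, 1], []),
   ([1, 2], [2, 1]),
   ([2, 2, 2], []),
   ([3, 0], [2, 3]),
   ([3, 1], [1, 3]),
   ([3, 2], [0, 3]),
   ([4, 0], [2, 4]),
   ([4, 1], [1, 2, 2, 4]),
   ([4, 2], [0, 1, 2, 4]),
   ([3, 3], []),
   ([4, 4, 4, 4], []),
   ([3, 4, 3, 4, 3, 4], []),
   ([5, 5], []),
   ([5, 3], [3, 5]),
   ([5, 4], [4, 5]),
   ([0, 4, 5, 0, 4, 5, 0, 4, 5, 0, 4, 5, 0, 4, 5, 0, 4, 5, 0, 4, 5, 0, 4, 5, 0, 4, 5], []),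
   ([3, 4, 4, 3, 4, 3, 4, 4, 3, 4], []),
   ([4, 4, 3, 4, 4, 4, 4, 3, 4, 4], []),
   ([3, 4], [3, 4]),
   ([3, 3, 4], [4]),
   ([3, 4, 3, 4], [4, 3, 4, 3, 4, 4, 3, 4]),
   ([3], [3]),
   ([3, 3, 4], [4, 4, 4, 4, 4]),
   ([3, 4, 4, 4], [3, 4, 4, 4]),
   ([4, 4], [3, 4, 3, 4, 4, 3, 4, 3]),
   ([4, 3, 4], [4, 3, 4]),
   ([4, 4, 3, 4], [3, 3, 4, 4, 3, 4]),
   ([4], [4]),
   ([4], [4, 4, 4, 4, 4]),
   ([4, 3, 4], [3, 4, 4, 4, 3]),
   ([5, 0, 5, 0], [0, 5, 0, 5]),
   ([5], [2, 2, 5, 0, 5, 5, 0, 5, 3, 2, 5, 0, 5, 2, 0, 0])]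

variable {V : Type*} [AddCommGroup V]

/-- The value of a word. -/
def ev (A : Fin 6 → AddMonoid.End V) (w : List (Fin 6)) : AddMonoid.End V := (w.map A).prod

/-- Six endomorphisms with the relations, the first three not all trivial. -/
structure Six (A : Fin 6 → AddMonoid.End V) : Prop where
  char : ∀ v : V, v + v = 0
  card : Nat.card V = 256
  rel : ∀ r ∈ relList, ev A r.1 = ev A r.2
  nontriv : ∃ j : Fin 6, (j : ℕ) < 3 ∧ A j ≠ 1

/-- Vectors of exponents. -/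
abbrev K3 : Type := ZMod 3 × ZMod 3 × ZMod 3

/-- The value of a functional. -/
def dot (f k : K3) : ZMod 3 := f.1 * k.1 + f.2.1 * k.2.1 + f.2.2 * k.2.2

/-- The action of the complement on the exponents. -/
def mact (g : Fin 6) (k : K3) : K3 :=
  if g = 3 then (k.2.2, k.2.1, k.1) else (k.2.2, k.2.1 + k.2.2, k.1 + 2 * k.2.1 + k.2.2)

/-- The action of the complement on functionals. -/
def fact (g : Fin 6) (f : K3) : K3 :=
  if g = 3 then (f.2.2, f.2.1, f.1) else (f.1 + 2 * f.2.1 + f.2.2, f.1 + f.2.1, f.1)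

end Cfsg.Agent.U62Rec.Model.Forced
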