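import Cfsg.Agent.Lib.U62Rec.Model.Spaces

/-!
Either the four planes of the natural module make up everything, or some vectors are fixed by the three
commuting elements and form a subgroup invariant under all six.
-/

set_option autoImplicit false
set_option maxRecDepth 20000

namespace Cfsg.Agent.U62Rec.Model.Forced

variable {V : Type*} [AddCommGroup V] {A : Fin 6 → AddMonoid.End V}

theorem Six.card_U_zero_or (S : Six A) {f : K3} (hf : f ≠ 0) :
    Nat.card (U A f) = 1 ∨ 4 ≤ Nat.card (U A f) := by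
  have := S.finite
  by_cases h : ∃ v, InU A f v ∧ v ≠ 0
  · obtain ⟨v, hv, h0⟩ := h
    exact .inr (S.card_U hf hv h0)
  · push Not at h
    exact .inl (Nat.card_eq_one_iff_unique.2 ⟨⟨fun a b => Subtype.ext ((h _ a.2).trans (h _ b.2).symm)⟩, ⟨0⟩⟩)

theorem U_eq_zero {f : K3} (h : Nat.card (U A f) = 1) {v : V} (hv : InU A f v) : v = 0 := by
  obtain ⟨h1, -⟩ := Nat.card_eq_one_iff_unique.1 h
  exact congrArg Subtype.val (@Subsingleton.elim _ h1 (⟨v, hv⟩ : U A f) 0)

theorem lineF_ne (i : ℕ) (hi : i < 13) : lineF i ≠ 0 := lists_ok.1 ⟨i, hi⟩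

theorem lineF_sep (i j : ℕ) (hi : i < 13) (hj : j < 13) (h : i ≠ j) :
    lineF j ≠ lineF i ∧ lineF j ≠ -lineF i :=
  lists_ok.2 ⟨i, hi⟩ ⟨j, hj⟩ fun e => h (congrArg Fin.val e)

theorem line_index : ∀ f : K3, f = 0 ∨ ∃ i : Fin 13, lineF i = f ∨ lineF i = -f := by decide +kernel

/-- A property closed under addition holds everywhere once it holds on the fixed space and on the lines. -/
theorem Six.all_of_lines (S : Six A) (P : V → Prop) (hadd : ∀ a b, P a → P b → P (a + b))
    (h0 : ∀ v, InU A 0 v → P v) (hl : ∀ i < 13, ∀ v, InU A (lineF i) v → P v) : ∀ v, P v :=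
  S.decompose P hadd fun f v hv => by
    rcases line_index f with rfl | ⟨i, h | h⟩
    · exact h0 v hv
    · exact hl i i.2 v (h ▸ hv)
    · exact hl i i.2 v (by rw [h]; exact inU_neg hv)

/-- If only the lines of a list are non-trivial, the spaces make up everything. -/
theorem Six.card_eq (S : Six A) {n : ℕ} (ix : Fin n → ℕ) (hix : ∀ i, ix i < 13) (hinj : Function.Injective ix)
    (hrest : ∀ j < 13, (∀ i, ix i ≠ j) → Nat.card (U A (lineF j)) = 1) :
    (∏ i, Nat.card (U A (lineF (ix i)))) * Nat.card (U A 0) = 256 := by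
  classical
  have := S.finite
  obtain ⟨hi, -⟩ := S.card_bound (fun i => lineF (ix i)) (fun i => lineF_ne _ (hix i))
    fun i j h => lineF_sep _ _ (hix i) (hix j) fun e => h (hinj e)
  have hs : Function.Surjective (fun x : (∀ i, U A (lineF (ix i))) × U A 0 => (∑ i, (x.1 i : V)) + x.2) := by
    refine S.all_of_lines _ ?_ ?_ ?_
    · rintro _ _ ⟨a, rfl⟩ ⟨b, rfl⟩
      refine ⟨a + b, ?_⟩
      simp only [Prod.fst_add, Prod.snd_add, Pi.add_apply, AddSubgroup.coe_add, Finset.sum_add_distrib]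
      abel
    · exact fun v hv => ⟨(0, ⟨v, hv⟩), by simp⟩
    · intro j hj v hv
      by_cases h : ∃ i, ix i = j
      · obtain ⟨i, rfl⟩ := h
        refine ⟨(Pi.single i ⟨v, hv⟩, 0), ?_⟩
        simp only [AddSubgroup.coe_zero, add_zero]
        rw [Fintype.sum_eq_single i fun k hk => by simp [Pi.single_eq_of_ne hk]]
        simp
      · push Not at h
        exact ⟨0, by simp [U_eq_zero (hrest j hj h) hv]⟩
  have e := Nat.card_congr (Equiv.ofBijective _ ⟨hi, hs⟩)
  rwa [Nat.card_prod, Nat.card_pi, S.card] at e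

theorem Six.orbit_chi (S : Six A) {i : ℕ} (hi : i < 4) :
    Nat.card (U A (lineF i)) = Nat.card (U A (lineF 3)) := by
  have h := wChi_line ⟨i, hi⟩
  exact le_antisymm (S.card_word (words_ok.2.2.2.1 ⟨i, hi⟩) (.inl h.2))
    (S.card_word (words_ok.1 ⟨i, hi⟩) (.inl h.1))

theorem Six.orbit_tri (S : Six A) {i : ℕ} (hi : i < 3) :
    Nat.card (U A (lineF (4 + i))) = Nat.card (U A (lineF 4)) := by
  have h := wTri_line ⟨i, hi⟩
  exact le_antisymm (S.card_word (words_ok.2.2.2.2 ⟨i, hi⟩) (.inl h.2))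
    (S.card_word (words_ok.2.1 ⟨i, hi⟩) (.inl h.1))

theorem Six.hexa_trivial (S : Six A) {i : ℕ} (hi : i < 6) : Nat.card (U A (lineF (7 + i))) = 1 := by
  refine (S.card_U_zero_or (lineF_ne (7 + i) (by omega))).resolve_right fun h4 => ?_
  have key : ∀ k : Fin 6, 4 ≤ Nat.card (U A (lineF (7 + k))) := by
    have back : ∀ k : Fin 6, ∃ w ∈ wHexa ++ [[3], [4, 4, 4, 3], [4, 4, 4, 4], [4, 4, 4, 3, 4, 4, 4]],
        (∀ g ∈ w, g = 3 ∨ g = 4) ∧ (factW w (lineF (7 + k)) = lineF 7 ∨ factW w (lineF (7 + k)) = -lineF 7) := by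
      decide +kernel
    obtain ⟨w, -, hw, h⟩ := back ⟨i, hi⟩
    intro k
    exact h4.trans ((S.card_word hw h).trans (S.card_word (words_ok.2.2.1 k) (wHexa_line k)))
  have := S.finite
  obtain ⟨-, hb⟩ := S.card_bound (fun k : Fin 6 => lineF (7 + k)) (fun k => lineF_ne _ (by omega))
    fun a b h => lineF_sep _ _ (by omega) (by omega) fun e => h (Fin.ext (by omega))
  have hp : (∏ _k : Fin 6, 4) ≤ ∏ k : Fin 6, Nat.card (U A (lineF (7 + k))) :=
    Finset.prod_le_prod (fun _ _ => Nat.zero_le _) fun k _ => key k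
  have h1 : 1 ≤ Nat.card (U A 0) := Nat.card_pos
  have h2 := (Nat.le_mul_of_pos_right _ h1).trans hb
  simp at hp
  omega

/-- Four planes, or a small invariant subgroup. -/
theorem Six.shape (S : Six A) :
    (Nat.card (U A 0) = 1 ∧ (∀ i < 4, Nat.card (U A (lineF i)) = 4) ∧
      ∀ j < 13, 4 ≤ j → Nat.card (U A (lineF j)) = 1) ∨
    (Nat.card (U A 0) = 4 ∧ (∀ j, ∀ v ∈ U A 0, A j v ∈ U A 0) ∧
      (∀ i < 3, Nat.card (U A (lineF (4 + i))) = 4) ∧
      ∀ j < 13, (j < 4 ∨ 7 ≤ j) → Nat.card (U A (lineF j)) = 1) := by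
  classical
  have := S.finite
  have hpos : ∀ f, 1 ≤ Nat.card (U A f) := fun f => Nat.card_pos
  rcases S.card_U_zero_or (lineF_ne 3 (by norm_num)) with h3 | h3
  swap
  · left
    have hb := S.card_eq (n := 13) (fun i => i) (fun i => i.2) Fin.val_injective fun j hj h => absurd rfl (h ⟨j, hj⟩)
    have hh : ∀ i : Fin 6, Nat.card (U A (lineF (7 + i))) = 1 := fun i => S.hexa_trivial i.2
    simp only [Fin.prod_univ_succ, Fin.prod_univ_zero, Fin.val_zero, Fin.val_succ, mul_one] at hb
    have e0 := S.orbit_chi (show 0 < 4 by norm_num)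
    have e1 := S.orbit_chi (show 1 < 4 by norm_num)
    have e2 := S.orbit_chi (show 2 < 4 by norm_num)
    have f5 := S.orbit_tri (show 1 < 3 by norm_num)
    have f6 := S.orbit_tri (show 2 < 3 by norm_num)
    simp only [Nat.reduceAdd, zero_add] at hb e0 e1 e2 f5 f6
    have a7 : Nat.card (U A (lineF 7)) = 1 := hh 0
    have a8 : Nat.card (U A (lineF 8)) = 1 := hh 1
    have a9 : Nat.card (U A (lineF 9)) = 1 := hh 2
    have a10 : Nat.card (U A (lineF 10)) = 1 := hh 3
    have a11 : Nat.card (U A (lineF 11)) = 1 := hh 4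
    have a12 : Nat.card (U A (lineF 12)) = 1 := hh 5
    rw [e0, e1, e2, f5, f6, a7, a8, a9, a10, a11, a12] at hb
    generalize hc : Nat.card (U A (lineF 3)) = c at h3 hb e0 e1 e2
    generalize hd : Nat.card (U A (lineF 4)) = d at hb f5 f6
    generalize hw : Nat.card (U A 0) = w at hb
    have hd1 : 1 ≤ d := hd ▸ hpos _
    have hw1 : 1 ≤ w := hw ▸ hpos _
    have hb' : c ^ 4 * (d ^ 3 * w) = 256 := by rw [← hb]; ring
    have hc4 : c = 4 := by
      have : c ^ 4 ≤ 256 := hb' ▸ Nat.le_mul_of_pos_right _ (by positivity)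
      by_contra hne
      have : 5 ^ 4 ≤ c ^ 4 := Nat.pow_le_pow_left (by omega) 4
      omega
    subst hc4
    have hdw : d ^ 3 * w = 1 := by omega
    obtain ⟨hd', hw'⟩ := mul_eq_one.1 hdw
    have hd'' : d = 1 := by simpa using hd'
    subst hd''
    refine ⟨hw', fun i hi => (S.orbit_chi hi).trans hc, fun j hj h4 => ?_⟩
    by_cases h : j < 7
    · obtain ⟨k, rfl⟩ : ∃ k, j = 4 + k := ⟨j - 4, by omega⟩
      exact (S.orbit_tri (by omega)).trans hd
    · obtain ⟨k, rfl⟩ : ∃ k, j = 7 + k := ⟨j - 7, by omega⟩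
      exact S.hexa_trivial (by omega)
  right
  have hchi : ∀ i < 4, Nat.card (U A (lineF i)) = 1 := fun i hi => (S.orbit_chi hi).trans h3
  have hb := S.card_eq (n := 3) (fun i => 4 + i) (fun i => by omega) (fun a b h => Fin.ext (Nat.add_left_cancel h))
    fun j hj h => by
      by_cases h4 : j < 4
      · exact hchi j h4
      · by_cases h7 : j < 7
        · exact absurd (show 4 + (⟨j - 4, by omega⟩ : Fin 3).val = j by simp; omega) (h _)
        · obtain ⟨k, rfl⟩ : ∃ k, j = 7 + k := ⟨j - 7, by omega⟩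
          exact S.hexa_trivial (by omega)
  simp only [Fin.prod_univ_succ, Fin.prod_univ_zero, Fin.val_zero, Fin.val_succ, mul_one] at hb
  have f5 := S.orbit_tri (show 1 < 3 by norm_num)
  have f6 := S.orbit_tri (show 2 < 3 by norm_num)
  norm_num at hb f5 f6
  rw [f5, f6] at hb
  have hd : Nat.card (U A (lineF 4)) = 4 := by
    rcases S.card_U_zero_or (lineF_ne 4 (by norm_num)) with h | h
    · exfalso
      obtain ⟨j, hj, hne⟩ := S.nontriv
      refine hne (DFunLike.ext _ _ fun v => ?_)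
      refine S.all_of_lines (fun v => A j v = v) (fun a b ha hb => by simp only [map_add, ha, hb]) ?_ ?_ v
      · intro u hu
        have e : ∀ k, eps A k u = u := (inU_zero_iff u).1 hu
        obtain rfl | rfl | rfl : j = 0 ∨ j = 1 ∨ j = 2 := by omega
        · simpa [eps, ZMod.val_one] using e (1, 0, 0)
        · simpa [eps, ZMod.val_one] using e (0, 1, 0)
        · simpa [eps, ZMod.val_one] using e (0, 0, 1)
      · intro i hi u hu
        have h1 : Nat.card (U A (lineF i)) = 1 := by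
          by_cases h4 : i < 4
          · exact hchi i h4
          · by_cases h7 : i < 7
            · obtain ⟨k, rfl⟩ : ∃ k, i = 4 + k := ⟨i - 4, by omega⟩
              exact (S.orbit_tri (by omega)).trans h
            · obtain ⟨k, rfl⟩ : ∃ k, i = 7 + k := ⟨i - 7, by omega⟩
              exact S.hexa_trivial (by omega)
        rw [U_eq_zero h1 hu, map_zero]
    · have hc : Nat.card (U A (lineF 4)) ≤ 6 := by
        by_contra hne
        have : 7 * (7 * 7) ≤ Nat.card (U A (lineF 4)) * (Nat.card (U A (lineF 4)) * Nat.card (U A (lineF 4))) :=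
          Nat.mul_le_mul (by omega) (Nat.mul_le_mul (by omega) (by omega))
        have := Nat.le_mul_of_pos_right _ (hpos 0) |>.trans_eq hb
        omega
      generalize Nat.card (U A (lineF 4)) = d at hb h hc
      interval_cases d <;> omega
  rw [hd] at hb
  refine ⟨by omega, ?_⟩
  have hfix : ∀ v, A 0 v = v → InU A 0 v := by
    intro v hv
    obtain ⟨u, w, rfl⟩ : ∃ u : ∀ i : Fin 3, U A (lineF (4 + i)), ∃ w : U A 0, (∑ i, (u i : V)) + w = v := by
      refine S.all_of_lines (fun v => ∃ u : ∀ i : Fin 3, U A (lineF (4 + i)),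
        ∃ w : U A 0, (∑ i, (u i : V)) + w = v) ?_ ?_ ?_ v
      · rintro _ _ ⟨a, a', rfl⟩ ⟨b, b', rfl⟩
        refine ⟨a + b, a' + b', ?_⟩
        simp only [Pi.add_apply, AddSubgroup.coe_add, Finset.sum_add_distrib]
        abel
      · exact fun v hv => ⟨0, ⟨v, hv⟩, by simp⟩
      · intro j hj v hv
        by_cases h : 4 ≤ j ∧ j < 7
        · obtain ⟨k, rfl⟩ : ∃ k : Fin 3, j = 4 + k := ⟨⟨j - 4, by omega⟩, by simp; omega⟩
          refine ⟨Pi.single k ⟨v, hv⟩, 0, ?_⟩
          simp only [AddSubgroup.coe_zero, add_zero]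
          rw [Fintype.sum_eq_single k fun i hi => by simp [Pi.single_eq_of_ne hi]]
          simp
        · refine ⟨0, 0, ?_⟩
          have h1 : Nat.card (U A (lineF j)) = 1 := by
            by_cases h4 : j < 4
            · exact hchi j h4
            · obtain ⟨k, rfl⟩ : ∃ k, j = 7 + k := ⟨j - 7, by omega⟩
              exact S.hexa_trivial (by omega)
          simp [U_eq_zero h1 hv]
    have e0 : A 0 = eps A (1, 0, 0) := by simp [eps, ZMod.val_one]
    have hw0 : A 0 (w : V) = w := by rw [e0]; exact (inU_zero_iff _).1 w.2 _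
    have hz : ∀ i : Fin 3, A 0 (u i : V) + u i = 0 := by
      refine (S.indep (fun i : Fin 3 => lineF (4 + i)) (fun i => lineF_ne _ (by omega))
        (fun a b h => lineF_sep _ _ (by omega) (by omega) fun e => h (Fin.ext (by omega))) _ (fun i => ?_)
        (InU.zero 0) ?_).1
      · rw [e0]; exact InU.add (S.inU_eps (u i).2 _) (u i).2
      · rw [add_zero, Finset.sum_add_distrib, ← map_sum]
        rw [map_add, hw0] at hv
        rw [add_right_cancel hv, S.char]
    have hne : ∀ i : Fin 3, dot (lineF (4 + i)) (1, 0, 0) ≠ 0 := by decide +kernel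
    have hu : ∀ i, (u i : V) = 0 := fun i => by
      have h1 : A 0 (u i : V) = u i := by
        rw [← add_zero (A 0 (u i : V)), ← S.char (u i : V), ← add_assoc, hz, zero_add]
      have h2 := ((u i).2 (1, 0, 0)).2 (hne i)
      rw [S.pk_of_fixed (by rw [← e0]; exact h1)] at h2
      exact h2
    simp only [hu, Finset.sum_const_zero, zero_add]
    exact w.2
  have hg : ∀ g : Fin 6, g = 3 ∨ g = 4 → ∀ v ∈ U A 0, A g v ∈ U A 0 := fun g hg v hv => by
    have := S.inU_gen hg hv
    rwa [show fact g 0 = 0 by rcases hg with rfl | rfl <;> decide +kernel] at this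
  have he : ∀ g : Fin 6, (g : ℕ) < 3 → ∀ v ∈ U A 0, A g v ∈ U A 0 := fun g hg v hv => by
    have e : ∀ k, eps A k v = v := (inU_zero_iff v).1 hv
    obtain rfl | rfl | rfl : g = 0 ∨ g = 1 ∨ g = 2 := by omega
    · rw [show A 0 v = v by simpa [eps, ZMod.val_one] using e (1, 0, 0)]; exact hv
    · rw [show A 1 v = v by simpa [eps, ZMod.val_one] using e (0, 1, 0)]; exact hv
    · rw [show A 2 v = v by simpa [eps, ZMod.val_one] using e (0, 0, 1)]; exact hv
  have hy : ∀ v ∈ U A 0, ev A [5, 0, 5] v ∈ U A 0 := fun v hv => by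
    refine hfix _ ?_
    have e := DFunLike.congr_fun (S.ev_eq [5, 0, 5, 0] [0, 5, 0, 5]) v
    simp only [ev_cons, ev_nil, mul_one] at e ⊢
    change A 5 (A 0 (A 5 (A 0 v))) = A 0 (A 5 (A 0 (A 5 v))) at e
    show A 0 (A 5 (A 0 (A 5 v))) = A 5 (A 0 (A 5 v))
    rw [← e, show A 0 v = v by simpa [eps, ZMod.val_one] using (inU_zero_iff v).1 hv (1, 0, 0)]
  have h5 : ∀ v ∈ U A 0, A 5 v ∈ U A 0 := fun v hv => by
    have e := DFunLike.congr_fun (S.ev_eq [5] ([2, 2] ++ [5, 0, 5] ++ [5, 0, 5] ++ [3, 2] ++ [5, 0, 5] ++ [2, 0, 0])) v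
    simp only [ev_append, ev_cons, ev_nil, mul_one] at e
    change A 5 v = _ at e
    rw [e]
    have c2 := he 2 (by decide)
    have c0 := he 0 (by decide)
    have c3 := hg 3 (.inl rfl)
    have cy : ∀ x ∈ U A 0, A 5 (A 0 (A 5 x)) ∈ U A 0 := fun x hx => by
      simpa [ev_cons, ev_nil] using hy x hx
    exact c2 _ (c2 _ (cy _ (cy _ (c3 _ (c2 _ (cy _ (c2 _ (c0 _ (c0 _ hv)))))))))
  refine ⟨?_, fun i hi => (S.orbit_tri hi).trans hd, fun j hj h => ?_⟩
  swap
  · rcases h with h | h
    · exact hchi j h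
    · obtain ⟨k, rfl⟩ : ∃ k, j = 7 + k := ⟨j - 7, by omega⟩
      exact S.hexa_trivial (by omega)
  intro j v hv
  fin_cases j
  exacts [he _ (by decide) v hv, he _ (by decide) v hv, he _ (by decide) v hv, hg _ (.inl rfl) v hv,
    hg _ (.inr rfl) v hv, h5 v hv]

end Cfsg.Agent.U62Rec.Model.Forced
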