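/-!
Codes of the partial products along the relations of the six generators in dimension four over three
elements, each up to sign.
-/

set_option autoImplicit false

namespace Cfsg.Agent.U62Rec.Model

/-- The partial products along the two sides of every relation. -/
def stepData : List (List Nat × List Nat) :=
  [([14408200, 14408206, 14408203, 14408200], [14408200]),
   ([14427913, 14427910, 14408200], [14427913, 14408203, 14408200]),
   ([14585350, 14585347, 14408200], [14585350, 14408203, 14408200]),
   ([14408200, 14447620, 14427910, 14408200], [14408200]),
   ([14605057, 14585347, 14408200], [14605057, 14427910, 14408200]),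
   ([14408200, 14762494, 14585347, 14408200], [14408200]),
   ([1622763, 14408203, 14408200], [1622763, 1603080, 14408200]),
   ([1780230, 14427910, 14408200], [1780230, 1603080, 14408200]),
   ([1603107, 14585347, 14408200], [1603107, 1603080, 14408200]),
   ([1682298, 14408203, 14408200], [1682298, 1662615, 14408200]),
   ([1859448, 14427910, 14408200], [1859448, 1701981, 1682298, 1662615, 14408200]),
   ([1839789, 14585347, 14408200], [1839789, 1839765, 1682298, 1662615, 14408200]),
   ([14408200, 1603080, 14408200], [14408200]),
   ([14408200, 31903975, 17667082, 1662615, 14408200], [14408200]),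
   ([14408200, 1603080, 16002541, 1721421, 17596855, 1662615, 14408200], [14408200]),
   ([14408200, 572292, 14408200], [14408200]),
   ([5137428, 1603080, 14408200], [5137428, 572292, 14408200]),
   ([5158569, 1662615, 14408200], [5158569, 572292, 14408200]),
   ([14408200, 14408206, 31923664, 7794903, 7794901, 12592639, 15580366, 29323453, 1566019, 34910677, 34910718, 16224106, 26348520, 26348553, 8920432, 34481716, 34481779, 1054963, 10409068, 6272194, 16469706, 30367578, 17668702, 12291435, 9783277, 5158569, 572292, 14408200], [14408200]),
   ([14408200, 1603080, 16002541, 30369178, 16077142, 28824904, 15954184, 1721421, 17596855, 1662615, 14408200], [14408200]),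
   ([14408200, 31903975, 17667082, 31954762, 3263256, 28816156, 17552872, 31954762, 17667082, 1662615, 14408200], [14408200]),
   ([17596855, 1662615, 14408200], [17596855, 1662615, 14408200]),
   ([1662615, 17596855, 1662615, 14408200], [1662615, 14408200]),
   ([16002541, 1721421, 17596855, 1662615, 14408200], [16002541, 30369178, 16077142, 28824904, 15954184, 1721421, 17596855, 1662615, 14408200]),
   ([1603080, 14408200], [1603080, 14408200]),
   ([1662615, 17596855, 1662615, 14408200], [1662615, 14408200, 31903975, 17667082, 1662615, 14408200]),
   ([14423509, 31903975, 17667082, 1662615, 14408200], [14423509, 31903975, 17667082, 1662615, 14408200]),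
   ([17667082, 1662615, 14408200], [17667082, 31954762, 3263256, 32004820, 14423509, 30300895, 14419135, 1603080, 14408200]),
   ([1721421, 17596855, 1662615, 14408200], [1721421, 17596855, 1662615, 14408200]),
   ([15954184, 1721421, 17596855, 1662615, 14408200], [15954184, 28824904, 15954184, 1721421, 17596855, 1662615, 14408200]),
   ([1662615, 14408200], [1662615, 14408200]),
   ([1662615, 14408200], [1662615, 14408200, 31903975, 17667082, 1662615, 14408200]),
   ([1721421, 17596855, 1662615, 14408200], [1721421, 16002541, 30369178, 14419135, 1603080, 14408200]),
   ([23974141, 4272003, 2166615, 14408203, 14408200], [23974141, 23974138, 1083357, 572292, 14408200]),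
   ([572292, 14408200], [572292, 585414, 578853, 14408362, 28816483, 4298940, 28816483, 14408364, 1641735, 9743335, 9802384, 2679813, 3765312, 14585353, 14408206, 14408203, 14408200])]

end Cfsg.Agent.U62Rec.Model
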