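import Cfsg.Agent.Lib.U62Rec.Model.Rels
import Cfsg.Agent.Lib.U62Rec.Model.XData
import Cfsg.Agent.Lib.S3342Id.Tables

/-!
Six generators of the symplectic group in dimension four over three elements modulo its centre, satisfying
the relations.
-/

set_option autoImplicit false
set_option maxRecDepth 100000
set_option synthInstance.maxSize 10000

namespace Cfsg.Agent.U62Rec.Model

open Cfsg.Agent.SpAmalgam Cfsg.Agent.SpAmalgam.Four Cfsg.Agent.S3342Id.Seven Matrix

/-- The code of a generator. -/
def cx (j : Fin 6) : ℕ := [14408203, 14427910, 14585347, 1603080, 1662615, 572292].getD j 0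

/-- A generator. -/
noncomputable def gx (j : Fin 6) : Cfsg.PSp 2 (ZMod 3) := QuotientGroup.mk (g4 (cx j))

/-- The check of partial products. -/
def chkW : List (Fin 6) → List ℕ → Bool
  | [], [c] => isSp c && eqv 1 (lit c)
  | g :: w, c :: c' :: cs => isSp c && eqv (lit (cx g) * lit c') (lit c) && chkW w (c' :: cs)
  | _, _ => false

theorem cx_sp : ∀ j : Fin 6, isSp (cx j) = true := by decide +kernel

theorem mk_code {A : G4 (ZMod 3)} {c : ℕ} (hc : isSp c = true) (h : eqv A.1 (lit c) = true) :
    (QuotientGroup.mk A : Cfsg.PSp 2 (ZMod 3)) = QuotientGroup.mk (g4 c) :=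
  mk_eq_iff.2 (by rw [g4_val hc]; exact of_decide_eq_true h)

theorem chk_sp : ∀ {w : List (Fin 6)} {c : ℕ} {cs : List ℕ}, chkW w (c :: cs) = true → isSp c = true
  | [], c, [], h => (Bool.and_eq_true _ _ ▸ h).1
  | [], _, _ :: _, h => by simp [chkW] at h
  | _ :: _, _, [], h => by simp [chkW] at h
  | _ :: _, c, _ :: _, h => by
    simp only [chkW, Bool.and_eq_true] at h
    exact h.1.1

theorem chk_prod : ∀ {w : List (Fin 6)} {c : ℕ} {cs : List ℕ}, chkW w (c :: cs) = true →
    (w.map gx).prod = QuotientGroup.mk (g4 c)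
  | [], c, [], h => by
    simp only [chkW, Bool.and_eq_true] at h
    rw [List.map_nil, List.prod_nil, ← mk_code (A := 1) h.1 h.2]
    rfl
  | [], _, _ :: _, h => by simp [chkW] at h
  | _ :: _, _, [], h => by simp [chkW] at h
  | g :: w, c, c' :: cs, h => by
    simp only [chkW, Bool.and_eq_true] at h
    rw [List.map_cons, List.prod_cons, chk_prod h.2, gx, ← QuotientGroup.mk_mul]
    refine mk_code h.1.1 ?_
    rw [Submonoid.coe_mul, g4_val (cx_sp g), g4_val (chk_sp h.2)]
    exact h.1.2

theorem rels_chk : (List.zip Forced.relList stepData).all (fun x =>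
    chkW x.1.1 x.2.1 && chkW x.1.2 x.2.2 && decide (x.2.1.head? = x.2.2.head?)) = true := by
  decide +kernel

theorem lengths_x : stepData.length = Forced.relList.length := by decide +kernel

theorem gx_rel : ∀ r ∈ Forced.relList, (r.1.map gx).prod = (r.2.map gx).prod := by
  intro r hr
  obtain ⟨i, hi, rfl⟩ := List.getElem_of_mem hr
  have hi' : i < stepData.length := lengths_x ▸ hi
  have hmem : (Forced.relList[i], stepData[i]) ∈ List.zip Forced.relList stepData :=
    List.mem_iff_getElem.2 ⟨i, by rw [List.length_zip]; omega, List.getElem_zip ..⟩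
  have h := List.all_eq_true.1 rels_chk _ hmem
  simp only [Bool.and_eq_true, decide_eq_true_eq] at h
  obtain ⟨⟨h1, h2⟩, h3⟩ := h
  revert h3 h2 h1
  generalize stepData[i].1 = l1
  generalize stepData[i].2 = l2
  generalize (Forced.relList[i]).1 = w1
  generalize (Forced.relList[i]).2 = w2
  intro h3 h1 h2
  match l1, l2 with
  | [], _ => cases w1 <;> simp [chkW] at h1
  | _ :: _, [] => cases w2 <;> simp [chkW] at h2
  | c :: cs, c2 :: cs2 =>
    rw [chk_prod h1, chk_prod h2, show c = c2 by simpa using h3]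

theorem gx_zero_ne : gx 0 ≠ 1 := fun h => by
  rw [gx, ← QuotientGroup.mk_one, mk_eq_iff, g4_val (cx_sp 0)] at h
  have key : eqv (lit (cx 0)) 1 = false := by decide +kernel
  exact of_decide_eq_false key h

theorem s2_list : ∀ g : S2 (ZMod 3), ∃ w ∈ ([[], [0], [1], [0, 0], [1, 0], [0, 1], [1, 1], [1, 0, 0], [0, 1, 0], [1, 1, 0], [0, 0, 1], [1, 0, 1],
    [1, 1, 1], [0, 1, 0, 0], [1, 1, 0, 0], [0, 0, 1, 0], [1, 1, 1, 0], [1, 0, 0, 1], [1, 1, 0, 1], [1, 1, 1, 0, 0], [1, 0, 0, 1, 0], [0, 1, 0, 0, 1], [1, 1, 0, 0, 1], [1, 1, 1, 0, 1]] : List (List (Fin 2))),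
    g.1 = (w.map fun i : Fin 2 => ((if i = 0 then uu 1 else ss : S2 (ZMod 3))).1).prod := by
  decide +kernel

theorem emb_lits : (emb 0 (uu 1) : G4 (ZMod 3)).1 = lit 14408203 ∧
    (emb 0 (ss) : G4 (ZMod 3)).1 = lit 14408043 := by decide +kernel

/-- The words of the named elements. -/
theorem named_chk : chkW [0] [14408203, 14408200] = true := by decide +kernel

theorem gx_top : Subgroup.closure (Set.range gx) = (⊤ : Subgroup (Cfsg.PSp 2 (ZMod 3))) := by
  set K := Subgroup.closure (Set.range gx) with hK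
  have hw : ∀ (w : List (Fin 6)) {c : ℕ} {cs : List ℕ}, chkW w (c :: cs) = true →
      ∀ A : G4 (ZMod 3), eqv A.1 (lit c) = true → QuotientGroup.mk A ∈ K := by
    intro w c cs h A hA
    rw [mk_code (chk_sp h) hA, ← chk_prod h]
    exact list_prod_mem fun x hx => by
      obtain ⟨j, -, rfl⟩ := List.mem_map.1 hx
      exact Subgroup.subset_closure ⟨j, rfl⟩
  set H : Subgroup (G4 (ZMod 3)) := K.comap (QuotientGroup.mk' _) with hH
  have hu : emb 0 (uu 1) ∈ H := hw [0] named_chk _ (by rw [emb_lits.1]; decide +kernel)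
  have hs : emb 0 ss ∈ H := hw [0, 0, 5, 2, 2, 5, 0, 0] (show chkW [0, 0, 5, 2, 2, 5, 0, 0] [28816077, 28816078,
      14408044, 3734694, 3747816, 3760938, 14408206, 14408203, 14408200] = true by decide +kernel) _ (by rw [emb_lits.2]; decide +kernel)
  have h0 : ∀ g : S2 (ZMod 3), emb 0 g ∈ H := fun g => by
    obtain ⟨w, -, e⟩ := s2_list g
    have e' : g = (w.map fun i : Fin 2 => if i = 0 then uu 1 else ss).prod := Subtype.ext (by
      rw [e]
      clear e
      induction w with
      | nil => rfl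
      | cons a w ih => simp only [List.map_cons, List.prod_cons, Matrix.SpecialLinearGroup.coe_mul, ih])
    rw [e', map_list_prod]
    refine list_prod_mem fun x hx => ?_
    simp only [List.map_map, List.mem_map, Function.comp] at hx
    obtain ⟨i, -, rfl⟩ := hx
    by_cases h : i = 0 <;> simp only [h, if_true, if_false] <;> assumption
  have hswap : (swap4 : G4 (ZMod 3)) ∈ H := hw [3] (show chkW [3] [1603080, 14408200] = true by decide +kernel) _ (by rw [swap4_lit]; decide +kernel)
  have hx : (x4 : G4 (ZMod 3)) ∈ H := hw [1, 1] (show chkW [1, 1] [14447620, 14427910, 14408200] = true by decide +kernel) _ (by rw [x4_lit]; decide +kernel)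
  have htop : H = ⊤ := top_of_mem H h0 (fun g => by
    rw [← swap4_emb]; exact mul_mem (mul_mem hswap (h0 g)) (inv_mem hswap)) hx
  rw [eq_top_iff]
  rintro q -
  obtain ⟨A, rfl⟩ := QuotientGroup.mk_surjective q
  exact (show A ∈ H by rw [htop]; trivial)

end Cfsg.Agent.U62Rec.Model
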