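import Cfsg.Agent.Lib.U62Rec.Model.Weights

/-!
The weight spaces: the complement permutes them, and the two possible shapes of the decomposition, four
planes, or three planes and a fixed plane.
-/

set_option autoImplicit false
set_option maxRecDepth 20000

namespace Cfsg.Agent.U62Rec.Model.Forced

variable {V : Type*} [AddCommGroup V] {A : Fin 6 → AddMonoid.End V}

/-- The four functionals of the natural module. -/
def chi : List K3 := [(0, 0, 1), (1, 0, 0), (1, 1, 1), (1, 2, 1)]
/-- The three functionals of the other module. -/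
def tri : List K3 := [(1, 0, 1), (1, 1, 2), (1, 2, 2)]
/-- The remaining six lines. -/
def hexa : List K3 := [(0, 1, 0), (0, 1, 1), (0, 1, 2), (1, 0, 2), (1, 1, 0), (1, 2, 0)]
/-- Words moving the last of the four functionals to each. -/
def wChi : List (List (Fin 6)) := [[4], [3, 4], [4, 3, 4], []]
/-- Words moving each of the four functionals to the last. -/
def wChiBack : List (List (Fin 6)) := [[4, 4, 4], [4, 4, 4, 3], [4, 4, 4, 3, 4, 4, 4], []]
/-- Words moving the first of the three functionals to each. -/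
def wTri : List (List (Fin 6)) := [[], [3, 4], [4, 4, 4]]
/-- Words moving each of the three functionals to the first. -/
def wTriBack : List (List (Fin 6)) := [[], [4, 4, 4, 3], [4]]
/-- Words moving the first of the six functionals to each, up to sign. -/
def wHexa : List (List (Fin 6)) := [[], [4, 4, 4], [3, 4], [4, 4], [4, 3, 4], [4]]

/-- The action of a word on functionals. -/
def factW : List (Fin 6) → K3 → K3
  | [], f => f
  | g :: w, f => fact g (factW w f)

theorem fact_dot : ∀ g : Fin 6, g = 3 ∨ g = 4 → ∀ f k : K3, dot (fact g f) (mact g k) = dot f k := by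
  decide +kernel

theorem mact_surj : ∀ g : Fin 6, g = 3 ∨ g = 4 → ∀ k : K3, ∃ k', mact g k' = k := by decide +kernel

theorem mact_lin : ∀ g : Fin 6, g = 3 ∨ g = 4 → ∀ k : K3,
    k.1.val • mact g (1, 0, 0) + k.2.1.val • mact g (0, 1, 0) + k.2.2.val • mact g (0, 0, 1) = mact g k := by
  decide +kernel

theorem line_cases : ∀ f : K3, f = 0 ∨ ∃ g ∈ chi ++ tri ++ hexa, g = f ∨ g = -f := by decide +kernel

theorem Six.eps_smul (S : Six A) (n : ℕ) (k : K3) : eps A (n • k) = eps A k ^ n := by
  induction n with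
  | zero => rw [zero_smul, eps_zero, pow_zero]
  | succ n ih => rw [succ_nsmul, S.eps_add, ih, pow_succ]

theorem Six.gen_conj (S : Six A) (g : Fin 6) (hg : g = 3 ∨ g = 4) (k : K3) :
    A g * eps A k = eps A (mact g k) * A g := by
  have h : ∀ (j : Fin 6) (k0 : K3) (w : List (Fin 6)), ([g, j], w ++ [g]) ∈ relList → ev A w = eps A k0 →
      SemiconjBy (A g) (A j) (eps A k0) := fun j k0 w hm hw => by
    have e := S.ev_eq _ _ hm
    rw [ev_append, hw] at e
    simpa [ev_cons, ev_nil, SemiconjBy] using e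
  have e0 : SemiconjBy (A g) (A 0) (eps A (mact g (1, 0, 0))) := by
    rcases hg with rfl | rfl
    · exact h 0 _ [2] (by decide) (by simp [ev, eps, mact, ZMod.val_one])
    · exact h 0 _ [2] (by decide) (by simp [ev, eps, mact, ZMod.val_one])
  have e1 : SemiconjBy (A g) (A 1) (eps A (mact g (0, 1, 0))) := by
    rcases hg with rfl | rfl
    · exact h 1 _ [1] (by decide) (by simp [ev, eps, mact, ZMod.val_one])
    · refine h 1 _ [1, 2, 2] (by decide) ?_
      simp [ev, eps, mact, ZMod.val_one, show (2 : ZMod 3).val = 2 from rfl, pow_two, mul_assoc]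
  have e2 : SemiconjBy (A g) (A 2) (eps A (mact g (0, 0, 1))) := by
    rcases hg with rfl | rfl
    · exact h 2 _ [0] (by decide) (by simp [ev, eps, mact, ZMod.val_one])
    · refine h 2 _ [0, 1, 2] (by decide) ?_
      simp [ev, eps, mact, ZMod.val_one, mul_assoc]
  show SemiconjBy (A g) (eps A k) (eps A (mact g k))
  rw [← mact_lin g hg k, S.eps_add, S.eps_add, S.eps_smul, S.eps_smul, S.eps_smul]
  exact ((e0.pow_right _).mul_right (e1.pow_right _)).mul_right (e2.pow_right _)

theorem Six.gen_inj (S : Six A) {g : Fin 6} (hg : g = 3 ∨ g = 4) {v : V} (h : A g v = 0) : v = 0 := by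
  rcases hg with rfl | rfl
  · have e := DFunLike.congr_fun (S.ev_eq [3, 3] []) v
    simp only [ev_cons, ev_nil, mul_one] at e
    change A 3 (A 3 v) = v at e
    rw [← e, h, map_zero]
  · have e := DFunLike.congr_fun (S.ev_eq [4, 4, 4, 4] []) v
    simp only [ev_cons, ev_nil, mul_one] at e
    change A 4 (A 4 (A 4 (A 4 v))) = v at e
    rw [← e, h, map_zero, map_zero, map_zero]

theorem Six.inU_gen (S : Six A) {g : Fin 6} (hg : g = 3 ∨ g = 4) {f : K3} {v : V} (hv : InU A f v) :
    InU A (fact g f) (A g v) := fun k => by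
  obtain ⟨k', rfl⟩ := mact_surj g hg k
  have e : ∀ x, eps A (mact g k') (A g x) = A g (eps A k' x) := fun x =>
    (DFunLike.congr_fun (S.gen_conj g hg k') x).symm
  rw [fact_dot g hg]
  exact ⟨fun h => by rw [e, (hv k').1 h], fun h => by
    rw [pk_apply, e, e, ← map_add, ← map_add, ← pk_apply, (hv k').2 h, map_zero]⟩

theorem Six.inU_word (S : Six A) : ∀ {w : List (Fin 6)}, (∀ g ∈ w, g = 3 ∨ g = 4) → ∀ {f : K3} {v : V},
    InU A f v → InU A (factW w f) (ev A w v) ∧ (ev A w v = 0 → v = 0)
  | [], _, f, v, hv => ⟨hv, fun h => h⟩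
  | g :: w, hw, f, v, hv => by
    obtain ⟨h1, h2⟩ := S.inU_word (w := w) (fun x hx => hw x (List.mem_cons_of_mem _ hx)) hv
    have hg := hw g List.mem_cons_self
    rw [ev_cons]
    exact ⟨S.inU_gen hg h1, fun h => h2 (S.gen_inj hg h)⟩

/-- The weight space as a subgroup. -/
def U (A : Fin 6 → AddMonoid.End V) (f : K3) : AddSubgroup V where
  carrier := {v | InU A f v}
  zero_mem' := InU.zero f
  add_mem' := InU.add
  neg_mem' := fun {v} hv k => ⟨fun h => by rw [map_neg, (hv k).1 h], fun h => by rw [map_neg, (hv k).2 h, neg_zero]⟩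

theorem Six.finite (S : Six A) : Finite V := Nat.finite_of_card_ne_zero (by rw [S.card]; norm_num)

/-- A non-zero weight space has at least four elements. -/
theorem Six.card_U (S : Six A) {f : K3} (hf : f ≠ 0) {v : V} (hv : InU A f v) (h0 : v ≠ 0) :
    4 ≤ Nat.card (U A f) := by
  haveI := S.finite
  have hk : ∀ g : K3, g ≠ 0 → ∃ k, dot g k ≠ 0 := by decide +kernel
  obtain ⟨k, hk⟩ := hk f hf
  have hp := (hv k).2 hk
  rw [pk_apply] at hp
  have h1 : eps A k v ≠ v := fun e => h0 (by rw [e, e, S.three_eq] at hp; exact hp)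
  have h2 : eps A k v ≠ 0 := fun e => h0 (by rw [← S.eps_cube k v, e, map_zero, map_zero])
  let g : Fin 4 → U A f := ![⟨0, InU.zero f⟩, ⟨v, hv⟩, ⟨eps A k v, S.inU_eps hv k⟩,
    ⟨v + eps A k v, hv.add (S.inU_eps hv k)⟩]
  have hg : Function.Injective g := by
    intro i j h
    have h' : ((g i : U A f) : V) = g j := congrArg Subtype.val h
    have c := S.char
    fin_cases i <;> fin_cases j <;> simp [g] at h' ⊢ <;>
      first
      | exact h0 h'.symm
      | exact h2 h'.symm
      | exact h1 h'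
      | exact h1 h'.symm
      | exact h0 h'
      | exact h2 h'
      | exact h1 (by rw [← add_zero (eps A k v), ← c v, ← add_assoc, add_comm (eps A k v) v, ← h', zero_add])
      | exact h1 (by rw [← add_zero (eps A k v), ← c v, ← add_assoc, add_comm (eps A k v) v, h', zero_add])
  simpa using Nat.card_le_card_of_injective g hg

/-- The product of the sizes of independent weight spaces and of the fixed space is at most 256. -/
theorem Six.card_bound (S : Six A) {n : ℕ} (f : Fin n → K3) (hf0 : ∀ i, f i ≠ 0)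
    (hf : ∀ i j, i ≠ j → f j ≠ f i ∧ f j ≠ -f i) :
    Function.Injective (fun x : (∀ i, U A (f i)) × U A 0 => (∑ i, (x.1 i : V)) + x.2) ∧
      (∏ i, Nat.card (U A (f i))) * Nat.card (U A 0) ≤ 256 := by
  haveI := S.finite
  have hinj : Function.Injective (fun x : (∀ i, U A (f i)) × U A 0 => (∑ i, (x.1 i : V)) + x.2) := by
    intro x y h
    have h' : ∑ i, ((x.1 i : V) - y.1 i) + ((x.2 : V) - y.2) = 0 := by
      rw [Finset.sum_sub_distrib]
      change (∑ i, (x.1 i : V)) + x.2 = (∑ i, (y.1 i : V)) + y.2 at h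
      rw [show ∑ i, (x.1 i : V) - ∑ i, (y.1 i : V) + ((x.2 : V) - y.2) =
        (∑ i, (x.1 i : V) + x.2) - (∑ i, (y.1 i : V) + y.2) by abel, h, sub_self]
    obtain ⟨h1, h2⟩ := S.indep f hf0 hf (fun i => (x.1 i : V) - y.1 i)
      (fun i => (x.1 i - y.1 i).2) (w := (x.2 : V) - y.2) (x.2 - y.2).2 h'
    exact Prod.ext (funext fun i => Subtype.ext (sub_eq_zero.1 (h1 i))) (Subtype.ext (sub_eq_zero.1 h2))
  refine ⟨hinj, ?_⟩
  have h := Nat.card_le_card_of_injective _ hinj
  rwa [Nat.card_prod, Nat.card_pi, S.card] at h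

theorem lists_ok : (∀ i : Fin 13, (chi ++ tri ++ hexa).getD i 0 ≠ 0) ∧
    (∀ i j : Fin 13, i ≠ j → (chi ++ tri ++ hexa).getD j 0 ≠ (chi ++ tri ++ hexa).getD i 0 ∧
      (chi ++ tri ++ hexa).getD j 0 ≠ -((chi ++ tri ++ hexa).getD i 0)) := by
  decide +kernel

/-- The functional in a position. -/
def lineF (i : ℕ) : K3 := (chi ++ tri ++ hexa).getD i 0

theorem Six.U_neg (S : Six A) (f : K3) {v : V} (hv : InU A (-f) v) : InU A f v := by
  have := inU_neg hv
  rwa [neg_neg] at this

theorem Six.card_word (S : Six A) {w : List (Fin 6)} (hw : ∀ g ∈ w, g = 3 ∨ g = 4) {f f' : K3}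
    (h : factW w f = f' ∨ factW w f = -f') : Nat.card (U A f) ≤ Nat.card (U A f') := by
  haveI := S.finite
  refine Nat.card_le_card_of_injective (fun v : U A f => (⟨ev A w v, ?_⟩ : U A f')) fun a b e => ?_
  · have := (S.inU_word hw v.2).1
    rcases h with h | h <;> rw [h] at this
    exacts [this, S.U_neg _ this]
  · have e' : ev A w (a : V) = ev A w (b : V) := congrArg Subtype.val e
    have := (S.inU_word hw (a - b).2).2 (by rw [AddSubgroup.coe_sub, map_sub, e', sub_self])
    exact Subtype.ext (sub_eq_zero.1 (by rwa [AddSubgroup.coe_sub] at this))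

theorem words_ok :
    (∀ i : Fin 4, ∀ g ∈ wChi.getD i [], g = 3 ∨ g = 4) ∧
    (∀ i : Fin 3, ∀ g ∈ wTri.getD i [], g = 3 ∨ g = 4) ∧
    (∀ i : Fin 6, ∀ g ∈ wHexa.getD i [], g = 3 ∨ g = 4) ∧
    (∀ i : Fin 4, ∀ g ∈ wChiBack.getD i [], g = 3 ∨ g = 4) ∧
    (∀ i : Fin 3, ∀ g ∈ wTriBack.getD i [], g = 3 ∨ g = 4) := by
  decide +kernel

theorem wChi_line : ∀ i : Fin 4, factW (wChi.getD i []) (lineF 3) = lineF i ∧
    factW (wChiBack.getD i []) (lineF i) = lineF 3 := by
  decide +kernel

theorem wTri_line : ∀ i : Fin 3, factW (wTri.getD i []) (lineF 4) = lineF (4 + i) ∧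
    factW (wTriBack.getD i []) (lineF (4 + i)) = lineF 4 := by
  decide +kernel

theorem wHexa_line : ∀ i : Fin 6, factW (wHexa.getD i []) (lineF 7) = lineF (7 + i) ∨
    factW (wHexa.getD i []) (lineF 7) = -lineF (7 + i) := by
  decide +kernel

end Cfsg.Agent.U62Rec.Model.Forced
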