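import Cfsg.Agent.Lib.U62Rec.Model.Rels
import Mathlib.Data.Fintype.Prod

/-!
Weight vectors of the elementary abelian group of order 27: every vector is a sum of weight vectors and
fixed vectors, weight spaces of distinct lines are independent, and the complement permutes them.
-/

set_option autoImplicit false
set_option maxRecDepth 20000

namespace Cfsg.Agent.U62Rec.Model.Forced

variable {V : Type*} [AddCommGroup V] {A : Fin 6 → AddMonoid.End V}

/-- The action of an exponent vector. -/
def eps (A : Fin 6 → AddMonoid.End V) (k : K3) : AddMonoid.End V :=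
  A 0 ^ k.1.val * A 1 ^ k.2.1.val * A 2 ^ k.2.2.val

theorem Six.ev_eq (S : Six A) (a b : List (Fin 6)) (h : (a, b) ∈ relList := by decide) : ev A a = ev A b :=
  S.rel _ h

theorem ev_append (A : Fin 6 → AddMonoid.End V) (a b : List (Fin 6)) : ev A (a ++ b) = ev A a * ev A b := by
  simp [ev]

theorem ev_cons (A : Fin 6 → AddMonoid.End V) (a : Fin 6) (b : List (Fin 6)) : ev A (a :: b) = A a * ev A b := by
  simp [ev]

theorem ev_nil (A : Fin 6 → AddMonoid.End V) : ev A [] = 1 := rfl

theorem Six.comm (S : Six A) : Commute (A 0) (A 1) ∧ Commute (A 0) (A 2) ∧ Commute (A 1) (A 2) := by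
  have h01 := S.ev_eq [0, 1] [1, 0]
  have h02 := S.ev_eq [0, 2] [2, 0]
  have h12 := S.ev_eq [1, 2] [2, 1]
  simp only [ev_cons, ev_nil, mul_one] at h01 h02 h12
  exact ⟨h01, h02, h12⟩

theorem Six.cube (S : Six A) : A 0 ^ 3 = 1 ∧ A 1 ^ 3 = 1 ∧ A 2 ^ 3 = 1 := by
  have h0 := S.ev_eq [0, 0, 0] []
  have h1 := S.ev_eq [1, 1, 1] []
  have h2 := S.ev_eq [2, 2, 2] []
  simp only [ev_cons, ev_nil, mul_one] at h0 h1 h2
  exact ⟨by rw [pow_succ, pow_two, mul_assoc]; exact h0, by rw [pow_succ, pow_two, mul_assoc]; exact h1,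
    by rw [pow_succ, pow_two, mul_assoc]; exact h2⟩

theorem pow_val_add {M : Type*} [Monoid M] {a : M} (h : a ^ 3 = 1) (i j : ZMod 3) :
    a ^ (i + j).val = a ^ i.val * a ^ j.val := by
  rw [ZMod.val_add, ← pow_eq_pow_mod _ h, pow_add]

theorem Six.eps_add (S : Six A) (k l : K3) : eps A (k + l) = eps A k * eps A l := by
  obtain ⟨h01, h02, h12⟩ := S.comm
  obtain ⟨c0, c1, c2⟩ := S.cube
  simp only [eps, Prod.fst_add, Prod.snd_add, pow_val_add c0, pow_val_add c1, pow_val_add c2]
  have e1 : A 1 ^ k.2.1.val * A 0 ^ l.1.val = A 0 ^ l.1.val * A 1 ^ k.2.1.val := (h01.pow_pow _ _).eq.symm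
  have e2 : A 2 ^ k.2.2.val * A 0 ^ l.1.val = A 0 ^ l.1.val * A 2 ^ k.2.2.val := (h02.pow_pow _ _).eq.symm
  have e3 : A 2 ^ k.2.2.val * A 1 ^ l.2.1.val = A 1 ^ l.2.1.val * A 2 ^ k.2.2.val := (h12.pow_pow _ _).eq.symm
  symm
  calc A 0 ^ k.1.val * A 1 ^ k.2.1.val * A 2 ^ k.2.2.val * (A 0 ^ l.1.val * A 1 ^ l.2.1.val * A 2 ^ l.2.2.val)
      = A 0 ^ k.1.val * A 1 ^ k.2.1.val * (A 2 ^ k.2.2.val * A 0 ^ l.1.val) * (A 1 ^ l.2.1.val * A 2 ^ l.2.2.val) := by
        simp only [mul_assoc]
    _ = A 0 ^ k.1.val * (A 1 ^ k.2.1.val * A 0 ^ l.1.val) * (A 2 ^ k.2.2.val * A 1 ^ l.2.1.val) * A 2 ^ l.2.2.val := by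
        rw [e2]; simp only [mul_assoc]
    _ = A 0 ^ k.1.val * A 0 ^ l.1.val * (A 1 ^ k.2.1.val * A 1 ^ l.2.1.val) * (A 2 ^ k.2.2.val * A 2 ^ l.2.2.val) := by
        rw [e1, e3]; simp only [mul_assoc]

theorem eps_zero (A : Fin 6 → AddMonoid.End V) : eps A 0 = 1 := by simp [eps]

theorem Six.eps_comm (S : Six A) (k l : K3) : Commute (eps A k) (eps A l) := by
  show eps A k * eps A l = eps A l * eps A k
  rw [← S.eps_add, ← S.eps_add, add_comm]

theorem Six.eps_cube (S : Six A) (k : K3) (v : V) : eps A k (eps A k (eps A k v)) = v := by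
  have h : eps A k * (eps A k * eps A k) = 1 := by
    rw [← S.eps_add, ← S.eps_add, show k + (k + k) = 0 by revert k; decide, eps_zero]
  exact DFunLike.congr_fun h v

/-- The sum over the powers. -/
def pk (A : Fin 6 → AddMonoid.End V) (k : K3) : AddMonoid.End V := 1 + eps A k + eps A k * eps A k

theorem pk_apply (k : K3) (v : V) : pk A k v = v + eps A k v + eps A k (eps A k v) := rfl

theorem Six.pk_fixed (S : Six A) (k : K3) (v : V) : eps A k (pk A k v) = pk A k v := by
  rw [pk_apply, map_add, map_add, S.eps_cube]; abel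

theorem Six.three_eq (S : Six A) (v : V) : v + v + v = v := by rw [S.char, zero_add]

/-- The space of a functional. -/
def InU (A : Fin 6 → AddMonoid.End V) (f : K3) (v : V) : Prop :=
  ∀ k : K3, (dot f k = 0 → eps A k v = v) ∧ (dot f k ≠ 0 → pk A k v = 0)

theorem inU_zero_iff (v : V) : InU A 0 v ↔ ∀ k, eps A k v = v :=
  ⟨fun h k => (h k).1 (by simp [dot]), fun h k => ⟨fun _ => h k, fun hk => absurd (by simp [dot]) hk⟩⟩

theorem InU.zero (f : K3) : InU A f 0 := fun k => ⟨fun _ => map_zero _, fun _ => map_zero _⟩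

theorem InU.add {f : K3} {v w : V} (hv : InU A f v) (hw : InU A f w) : InU A f (v + w) := fun k =>
  ⟨fun h => by rw [map_add, (hv k).1 h, (hw k).1 h], fun h => by rw [map_add, (hv k).2 h, (hw k).2 h, add_zero]⟩

theorem Six.inU_eps (S : Six A) {f : K3} {v : V} (hv : InU A f v) (l : K3) : InU A f (eps A l v) := fun k => by
  have e : ∀ x, eps A k (eps A l x) = eps A l (eps A k x) := fun x => DFunLike.congr_fun (S.eps_comm k l) x
  exact ⟨fun h => by rw [e, (hv k).1 h], fun h => by
    rw [pk_apply, e, e, ← map_add, ← map_add, ← pk_apply, (hv k).2 h, map_zero]⟩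

theorem inU_neg {f : K3} {v : V} (hv : InU A f v) : InU A (-f) v := fun k => by
  have e : dot (-f) k = - dot f k := by simp [dot]; ring
  rw [e, neg_eq_zero, neg_ne_zero]
  exact hv k

/-- The functional of a hyperplane. -/
theorem exists_functional : ∀ (a : K3) (st : K3 → Prop), st 0 → (∀ k l, st k → st l → st (k + l)) → ¬ st a →
    (∀ k, ∃ n : ZMod 3, st (k - n • a)) → ∃ f : K3, dot f a ≠ 0 ∧ ∀ k, st k ↔ dot f k = 0 := by
  intro a st h0 hadd ha hcov
  choose n hn using hcov
  have hsm : ∀ (m : ZMod 3) k, st k → st (m • k) := fun m k hk => by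
    have key : ∀ (m : ZMod 3) (k : K3), m • k = 0 ∨ m • k = k ∨ m • k = k + k := by decide +kernel
    rcases key m k with e | e | e <;> rw [e]
    exacts [h0, hk, hadd _ _ hk hk]
  have huniq : ∀ k (m : ZMod 3), st (k - m • a) → m = n k := fun k m hm => by
    by_contra hne
    refine ha ?_
    have h1 := hadd _ _ hm (hsm 2 _ (hn k))
    have h2 := hsm ((n k - m)) _ h1
    have e : ∀ (k a : K3) (m r : ZMod 3), m ≠ r →
        (r - m) • (k - m • a + (2 : ZMod 3) • (k - r • a)) = a := by
      rintro ⟨k1, k2, k3⟩ ⟨a1, a2, a3⟩ m r hmr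
      have key : ∀ (k a m r : ZMod 3), m ≠ r → (r - m) * (k - m * a + 2 * (k - r * a)) = a := by decide
      simp only [Prod.smul_mk, Prod.mk_sub_mk, Prod.mk_add_mk, smul_eq_mul, key _ _ _ _ hmr]
    rwa [e k a m (n k) hne] at h2
  refine ⟨(n (1, 0, 0), n (0, 1, 0), n (0, 0, 1)), ?_, ?_⟩
  all_goals
    have hlin : ∀ k : K3, n k = dot (n (1, 0, 0), n (0, 1, 0), n (0, 0, 1)) k := fun k => by
      refine (huniq k _ ?_).symm
      have := hadd _ _ (hadd _ _ (hsm k.1 _ (hn (1, 0, 0))) (hsm k.2.1 _ (hn (0, 1, 0))))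
        (hsm k.2.2 _ (hn (0, 0, 1)))
      convert this using 1
      obtain ⟨k1, k2, k3⟩ := k
      obtain ⟨a1, a2, a3⟩ := a
      simp only [dot, Prod.smul_mk, Prod.mk_sub_mk, Prod.mk_add_mk, smul_eq_mul]
      refine Prod.ext ?_ (Prod.ext ?_ ?_) <;> simp only <;> ring
  · rw [← hlin, ← huniq a 1 (by simpa using h0)]
    exact one_ne_zero
  · intro k
    rw [← hlin]
    exact ⟨fun h => (huniq k 0 (by simpa using h)).symm, fun h => by simpa [h] using hn k⟩

/-- Every vector is a sum of fixed and weight vectors. -/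
theorem Six.decompose (S : Six A) (P : V → Prop) (hadd : ∀ a b, P a → P b → P (a + b))
    (hU : ∀ f v, InU A f v → P v) : ∀ v, P v := by
  classical
  suffices h : ∀ (n : ℕ) (v : V), (Finset.univ.filter fun k : K3 => eps A k v ≠ v).card = n → P v from
    fun v => h _ v rfl
  intro n
  induction n using Nat.strong_induction_on with
  | _ n ih =>
  intro v hn
  let st : K3 → Prop := fun k => eps A k v = v
  have hst0 : st 0 := by simp [st, eps_zero]
  have hsta : ∀ k l, st k → st l → st (k + l) := fun k l hk hl => by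
    show eps A (k + l) v = v
    rw [S.eps_add, show (eps A k * eps A l) v = eps A k (eps A l v) from rfl, hl, hk]
  by_cases hall : ∀ k, st k
  · exact hU 0 v ((inU_zero_iff v).2 hall)
  push Not at hall
  obtain ⟨a, ha⟩ := hall
  have smaller : ∀ x : K3, ¬ st x → P (pk A x v) := fun x hx => by
    refine ih _ ?_ _ rfl
    rw [← hn]
    refine Finset.card_lt_card ⟨fun k hk => ?_, fun hle => ?_⟩
    · simp only [Finset.mem_filter, Finset.mem_univ, true_and] at hk ⊢
      intro h
      apply hk
      have e : ∀ y, eps A k (eps A x y) = eps A x (eps A k y) := fun y => DFunLike.congr_fun (S.eps_comm k x) y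
      simp only [pk_apply, map_add, e, h]
    · have := hle (show x ∈ _ from Finset.mem_filter.2 ⟨Finset.mem_univ _, hx⟩)
      exact (Finset.mem_filter.1 this).2 (S.pk_fixed x v)
  by_cases hcov : ∀ k, ∃ n : ZMod 3, st (k - n • a)
  · obtain ⟨f, hfa, hf⟩ := exists_functional a st hst0 hsta ha hcov
    have hpa : v = (v + pk A a v) + pk A a v := by rw [add_assoc, S.char, add_zero]
    rw [hpa]
    refine hadd _ _ (hU f _ fun k => ⟨fun hk => ?_, fun hk => ?_⟩) (smaller a ha)
    · have hk' : eps A k v = v := (hf k).2 hk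
      have e : ∀ y, eps A k (eps A a y) = eps A a (eps A k y) := fun y => DFunLike.congr_fun (S.eps_comm k a) y
      simp only [map_add, pk_apply, e, hk']
    · -- `k` lies over a multiple of `a`
      obtain ⟨s, m, hm, hs, hk'⟩ : ∃ (s : K3) (m : ZMod 3), m ≠ 0 ∧ dot f s = 0 ∧ k = s + m • a := by
        refine ⟨k - (dot f k * dot f a) • a, dot f k * dot f a, mul_ne_zero hk hfa, ?_, by abel⟩
        have key : ∀ x y : ZMod 3, y ≠ 0 → x - x * y * y = 0 := by decide
        rw [show dot f (k - (dot f k * dot f a) • a) = dot f k - dot f k * dot f a * dot f a by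
          simp [dot]; ring]
        exact key _ _ hfa
      have hfix : ∀ y : V, eps A s y = y → pk A k y = pk A a y := by
        intro y hy
        have e : ∀ z, eps A s (eps A a z) = eps A a (eps A s z) := fun z => DFunLike.congr_fun (S.eps_comm s a) z
        rcases ((by decide : ∀ m : ZMod 3, m ≠ 0 → m = 1 ∨ m = 2) m hm) with rfl | rfl
        · rw [hk', one_smul, pk_apply, pk_apply, S.eps_add]
          show y + eps A s (eps A a y) + eps A s (eps A a (eps A s (eps A a y))) = _
          simp only [e, hy]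
        · rw [hk', (by decide +kernel : ∀ a : K3, (2 : ZMod 3) • a = a + a) a, pk_apply, pk_apply, S.eps_add, S.eps_add]
          show y + eps A s (eps A a (eps A a y)) + eps A s (eps A a (eps A a (eps A s (eps A a (eps A a y))))) = _
          simp only [e, hy, S.eps_cube]
          abel
      have hv' : eps A s (v + pk A a v) = v + pk A a v := by
        have e : ∀ z, eps A s (eps A a z) = eps A a (eps A s z) := fun z => DFunLike.congr_fun (S.eps_comm s a) z
        have hs' : eps A s v = v := (hf s).2 hs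
        simp only [map_add, pk_apply, e, hs']
      rw [hfix _ hv', pk_apply a (v + _), map_add, map_add, S.pk_fixed, S.pk_fixed]
      calc v + pk A a v + (eps A a v + pk A a v) + (eps A a (eps A a v) + pk A a v)
          = pk A a v + (pk A a v + pk A a v + pk A a v) := by rw [pk_apply]; abel
        _ = 0 := by rw [S.three_eq, S.char]
  · push Not at hcov
    obtain ⟨b, hb⟩ := hcov
    have hb0 : ¬ st b := fun h => hb 0 (by simpa using h)
    have hsub : ∀ a b : K3, b - (2 : ZMod 3) • a = a + b ∧ b - (1 : ZMod 3) • a = a + a + b := by decide +kernel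
    have hab : ¬ st (a + b) := fun h => hb 2 ((hsub a b).1 ▸ h)
    have hba : ¬ st (a + a + b) := fun h => hb 1 ((hsub a b).2 ▸ h)
    have hid : v = pk A a v + pk A b v + pk A (a + b) v + pk A (a + a + b) v + pk A a (pk A b v) := by
      simp only [pk_apply, map_add, S.eps_add]
      show v = v + eps A a v + eps A a (eps A a v) + (v + eps A b v + eps A b (eps A b v)) +
        (v + eps A a (eps A b v) + eps A a (eps A b (eps A a (eps A b v)))) +
        (v + eps A a (eps A a (eps A b v)) + eps A a (eps A a (eps A b (eps A a (eps A a (eps A b v)))))) + _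
      have e : ∀ z, eps A b (eps A a z) = eps A a (eps A b z) := fun z => DFunLike.congr_fun (S.eps_comm b a) z
      simp only [e, S.eps_cube]
      have hc := S.char
      generalize eps A a (eps A a (eps A b (eps A b v))) = p22
      generalize eps A a (eps A b (eps A b v)) = p12
      generalize eps A a (eps A a (eps A b v)) = p21
      generalize eps A a (eps A b v) = p11
      generalize eps A a (eps A a v) = p20
      generalize eps A b (eps A b v) = p02
      generalize eps A a v = p10
      generalize eps A b v = p01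
      symm
      calc _ = v + ((v + v) + (v + v) + (p10 + p10) + (p20 + p20) + (p01 + p01) + (p02 + p02) + (p11 + p11) +
            (p22 + p22) + (p21 + p21) + (p12 + p12)) := by abel
        _ = v := by simp only [hc, add_zero]
    rw [hid]
    refine hadd _ _ (hadd _ _ (hadd _ _ (hadd _ _ (smaller a ha) (smaller b hb0)) (smaller _ hab))
      (smaller _ hba)) ?_
    refine ih _ ?_ _ rfl
    rw [← hn]
    refine Finset.card_lt_card ⟨fun k hk => ?_, fun hle => ?_⟩
    · simp only [Finset.mem_filter, Finset.mem_univ, true_and] at hk ⊢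
      intro h
      apply hk
      have e : ∀ x y, eps A k (eps A x y) = eps A x (eps A k y) := fun x y => DFunLike.congr_fun (S.eps_comm k x) y
      simp only [pk_apply, map_add, e, h]
    · have := hle (show a ∈ _ from Finset.mem_filter.2 ⟨Finset.mem_univ _, ha⟩)
      exact (Finset.mem_filter.1 this).2 (S.pk_fixed a _)

set_option synthInstance.maxSize 4096 in
set_option synthInstance.maxHeartbeats 200000 in
/-- Functionals on different lines are separated. -/
theorem exists_sep : ∀ f g : K3, f ≠ 0 → g ≠ 0 → g ≠ f → g ≠ -f → ∃ k, dot f k = 0 ∧ dot g k ≠ 0 := by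
  decide +kernel

theorem Six.pk_of_fixed (S : Six A) {k : K3} {v : V} (h : eps A k v = v) : pk A k v = v := by
  rw [pk_apply, h, h, S.three_eq]

/-- Weight spaces of different lines and the fixed space are independent. -/
theorem Six.indep (S : Six A) {n : ℕ} (f : Fin n → K3) (hf0 : ∀ i, f i ≠ 0)
    (hf : ∀ i j, i ≠ j → f j ≠ f i ∧ f j ≠ -f i) (u : Fin n → V) (hu : ∀ i, InU A (f i) (u i))
    {w : V} (hw : InU A 0 w) (hsum : ∑ i, u i + w = 0) : (∀ i, u i = 0) ∧ w = 0 := by
  classical
  suffices h : ∀ i, u i = 0 by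
    refine ⟨h, ?_⟩
    simpa [h] using hsum
  intro i
  have key : ∀ s : Finset (Fin n), i ∉ s → ∃ ψ : AddMonoid.End V, (∀ k, Commute ψ (eps A k)) ∧ ψ (u i) = u i ∧
      ∀ j ∈ s, ψ (u j) = 0 := by
    intro s
    induction s using Finset.induction_on with
    | empty => exact fun _ => ⟨1, fun k => Commute.one_left _, rfl, fun j hj => absurd hj (Finset.notMem_empty j)⟩
    | insert j s hj ih =>
      intro his
      rw [Finset.mem_insert, not_or] at his
      obtain ⟨ψ, hψc, hψi, hψs⟩ := ih his.2
      obtain ⟨k, hk0, hk1⟩ := exists_sep (f i) (f j) (hf0 i) (hf0 j) (hf i j his.1).1 (hf i j his.1).2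
      have hcp : Commute ψ (pk A k) :=
        ((Commute.one_right ψ).add_right (hψc k)).add_right ((hψc k).mul_right (hψc k))
      refine ⟨ψ * pk A k, fun l => ?_, ?_, fun j' hj' => ?_⟩
      · refine (hψc l).mul_left ?_
        exact ((Commute.one_left _).add_left (S.eps_comm k l)).add_left ((S.eps_comm k l).mul_left (S.eps_comm k l))
      · show ψ (pk A k (u i)) = u i
        rw [S.pk_of_fixed ((hu i k).1 hk0), hψi]
      · rcases Finset.mem_insert.1 hj' with rfl | h
        · show ψ (pk A k (u j')) = 0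
          rw [(hu j' k).2 hk1, map_zero]
        · rw [hcp.eq]
          show pk A k (ψ (u j')) = 0
          rw [hψs j' h, map_zero]
  obtain ⟨ψ, hψc, hψi, hψs⟩ := key (Finset.univ.erase i) (Finset.notMem_erase i _)
  obtain ⟨k, hk⟩ : ∃ k, dot (f i) k ≠ 0 := by
    have hd : ∀ g : K3, g ≠ 0 → ∃ k, dot g k ≠ 0 := by decide +kernel
    exact hd _ (hf0 i)
  let φ : AddMonoid.End V := 1 + pk A k
  have hφi : φ (u i) = u i := by
    show u i + pk A k (u i) = u i
    rw [(hu i k).2 hk, add_zero]
  have hφw : φ w = 0 := by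
    show w + pk A k w = 0
    rw [S.pk_of_fixed ((inU_zero_iff w).1 hw k), S.char]
  have hcφ : Commute φ ψ := by
    refine (Commute.one_left ψ).add_left ?_
    exact (((Commute.one_right ψ).add_right (hψc k)).add_right ((hψc k).mul_right (hψc k))).symm
  have h := congrArg (fun x => (φ * ψ) x) hsum
  simp only [map_add, map_sum, map_zero] at h
  have hw0 : (φ * ψ) w = 0 := by rw [hcφ.eq]; show ψ (φ w) = 0; rw [hφw, map_zero]
  have hs0 : ∑ j, (φ * ψ) (u j) = u i := by
    rw [Finset.sum_eq_single i]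
    · show φ (ψ (u i)) = u i
      rw [hψi, hφi]
    · intro j _ hj
      show φ (ψ (u j)) = 0
      rw [hψs j (Finset.mem_erase.2 ⟨hj, Finset.mem_univ _⟩), map_zero]
    · simp
  rwa [hw0, hs0, add_zero] at h

end Cfsg.Agent.U62Rec.Model.Forced
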